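import Cfsg.Agent.D4Square.Parabolic

/-!
# Moving the two big double cosets into the big cell with prescribed Levi part
-/

set_option autoImplicit false
set_option linter.style.haveILetI false
set_option linter.unusedSectionVars false
set_option maxRecDepth 8000

namespace CfsgLib.GraphTwist

open Cfsg.Lie CfsgLib.Chevalley CfsgLib.SchurBN
open CfsgLib.Chevalley.RankOneRel (uMat vMat wMat uMat_val vMat_val wMat_val)
open scoped MatrixGroups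

/-- A root of `D₄` by its number. -/
def rt (n : Fin 24) : Root chevD4 := ⟨n.1, n.2.trans_eq (by decide +kernel)⟩

theorem cases_D4 :
    setupD4.spR oB = rt 14 ∧ (setupD4.spR oB).rev = rt 9 ∧ topD4 = rt 23 ∧
    setupD4.wR oA (rt 14) = rt 22 ∧ setupD4.wR oA (rt 22) = rt 14 ∧
    setupD4.wR oA (rt 9) = rt 1 ∧
    setupD4.wR oB (rt 22) = rt 23 ∧ setupD4.wR oB (rt 1) = rt 0 ∧
    (rt 22).rev = rt 1 ∧ (rt 23).rev = rt 0 ∧ (rt 14).rev = rt 9 ∧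
    (∀ r ∈ [rt 14, rt 22, rt 23, rt 9, rt 1, rt 0], setupD4.σR r = r) ∧
    (∀ r ∈ [rt 14, rt 22, rt 23],
      half chevD4 ≤ (r : ℕ) ∧ 1 ≤ setupD4.cfg.orbPos r) ∧
    (let π := setupD4.wR oB * setupD4.wR oA * setupD4.wR oB
     half chevD4 ≤ (π⁻¹ (setupD4.spR oA) : ℕ) ∧
      1 ≤ setupD4.cfg.orbPos (π⁻¹ (setupD4.spR oA) : Root chevD4)) := by
  refine ⟨?_, ?_, ?_, ?_, ?_, ?_, ?_, ?_, ?_, ?_, ?_, ?_, ?_, ?_⟩ <;> decide +kernel

theorem comm_cases_D4 :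
    (chevD4.commTerms (rt 22) (rt 9) = [] ∧ rt 9 ≠ (rt 22).rev ∧ rt 9 ≠ rt 22) ∧
    (((chevD4.commTerms (rt 0) (rt 14)).map Prod.fst = [1]) ∧ rt 14 ≠ (rt 0).rev ∧ rt 14 ≠ rt 0 ∧
      chevD4.commTerms (rt 1) (rt 14) = [] ∧ rt 14 ≠ (rt 1).rev ∧ rt 14 ≠ rt 1 ∧
      chevD4.commTerms (rt 1) (rt 0) = [] ∧ rt 0 ≠ (rt 1).rev ∧ rt 0 ≠ rt 1) ∧
    (((chevD4.commTerms (rt 0) (rt 22)).map Prod.fst = [9]) ∧ rt 22 ≠ (rt 0).rev ∧ rt 22 ≠ rt 0 ∧
      chevD4.commTerms (rt 9) (rt 22) = [] ∧ rt 22 ≠ (rt 9).rev ∧ rt 22 ≠ rt 9 ∧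
      chevD4.commTerms (rt 9) (rt 0) = [] ∧ rt 0 ≠ (rt 9).rev ∧ rt 0 ≠ rt 9) ∧
    (∀ r ∈ [rt 0, rt 23], ∀ j < 3,
      r ≠ (setupD4.σR ^ j) (setupD4.spR oA) ∧ r ≠ ((setupD4.σR ^ j) (setupD4.spR oA)).rev ∧
      chevD4.commTerms ((setupD4.σR ^ j) (setupD4.spR oA) : Root chevD4) r = []) ∧
    (∀ r s : Root chevD4, ∀ c ∈ chevD4.commTerms r s,
      (c.2.1 = 1 ∨ c.2.1 = -1) ∧ c.2.2.1 = 1 ∧ c.2.2.2 = 1) := by
  refine ⟨?_, ?_, ?_, ?_, ?_⟩ <;> decide +kernel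

variable {F : Type*} [Field F]

/-- The cell form of `u(c) w`. -/
theorem uMat_mul_wMat (c : Fˣ) : uMat F (c : F) * wMat F =
    vMat F ((c⁻¹ : Fˣ) : F) * hMat (-c) * uMat F (-((c⁻¹ : Fˣ) : F)) := by
  apply Subtype.ext; apply Matrix.ext; intro i j
  fin_cases i <;> fin_cases j <;>
    simp [uMat_val, vMat_val, wMat_val, hMat_val, Matrix.mul_apply, Fin.sum_univ_two]

/-- The cell form of `u(f) v(k)`. -/
theorem uMat_mul_vMat (f k : F) (D : Fˣ) (hD : (D : F) = 1 + f * k) :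
    uMat F f * vMat F k =
      vMat F (k / D) * hMat D * uMat F (f / D) := by
  have h0 : (D : F) ≠ 0 := D.ne_zero
  apply Subtype.ext; apply Matrix.ext; intro i j
  fin_cases i <;> fin_cases j <;>
    simp [uMat_val, vMat_val, hMat_val, Matrix.mul_apply, Fin.sum_univ_two]
  all_goals field_simp
  all_goals (rw [hD]; try ring)

namespace FieldTwist

variable {K : Type*} [Field K] (Φ : FieldTwist setupD4 K)

theorem oX_fixedRoot {r : Root chevD4} (h : setupD4.σR r = r) (t : K) :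
    Φ.oX r t = X setupD4.good.good r t := by
  rw [oX, setupD4.osize_eq, if_pos h]
  simp

/-- Swapping two root elements with a one-term formula. -/
theorem swap_one {r s : Root chevD4} {k : Fin 24} (hsr : s ≠ r) (hne : s ≠ r.rev)
    (h : (chevD4.commTerms r s).map Prod.fst = [(k : ℕ)]) (t u : K) :
    ∃ C : ℤ, C * C = 1 ∧ X setupD4.good.good s u * X setupD4.good.good r t =
      X setupD4.good.good r t * X setupD4.good.good s u *
        X setupD4.good.good (rt k) ((C : K) * (-t) * u) := by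
  obtain ⟨⟨k', C, a, b⟩, hc, hk⟩ := List.map_eq_singleton_iff.1 h
  obtain ⟨hC, rfl, rfl⟩ : (C = 1 ∨ C = -1) ∧ a = 1 ∧ b = 1 :=
    comm_cases_D4.2.2.2.2 r s (k', C, a, b) (by rw [hc]; exact List.mem_singleton_self _)
  subst hk
  refine ⟨C, by rcases hC with rfl | rfl <;> rfl, ?_⟩
  rw [X_comm setupD4.good.toGoodComm r s hsr hne t u, commRhs, hc, wordGL]
  simp only [List.map_cons, List.map_nil, List.prod_cons, List.prod_nil, mul_one, pow_one]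
  rw [dif_pos (k.2.trans_eq (by decide +kernel : 24 = chevD4.nroots))]
  rfl

theorem commute_nil {r s : Root chevD4} (hne : s ≠ r.rev) (hsr : s ≠ r)
    (h : chevD4.commTerms r s = []) (t u : K) :
    Commute (X setupD4.good.good r t) (X setupD4.good.good s u) := by
  have := X_comm setupD4.good.toGoodComm r s hsr hne t u
  rw [commRhs, h] at this
  simpa [wordGL, Commute, SemiconjBy] using this.symm

theorem commute_oXA {r : Root chevD4} (hr : r ∈ [rt 0, rt 23]) (s t : K) :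
    Commute (Φ.oX (setupD4.spR oA) s) (X setupD4.good.good r t) := by
  have h3 : setupD4.osize (setupD4.spR oA) = 3 := by decide +kernel
  rw [oX, h3]
  refine Commute.list_prod_left _ _ fun z hz => ?_
  obtain ⟨j, hj, rfl⟩ := List.mem_map.1 hz
  obtain ⟨h1, h2, hnil⟩ := comm_cases_D4.2.2.2.1 r hr j (List.mem_range.1 hj)
  rw [Ψ_pow_X]
  exact commute_nil h2 h1 hnil _ _

theorem oXB (t : K) : Φ.oX (setupD4.spR oB) t = X setupD4.good.good (rt 14) t := by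
  have e := cases_D4.1
  generalize setupD4.spR oB = r at e
  subst e
  exact Φ.oX_fixedRoot (cases_D4.2.2.2.2.2.2.2.2.2.2.2.1 _ (by simp)) t

theorem oYB (t : K) : Φ.oX (setupD4.spR oB).rev t = X setupD4.good.good (rt 9) t := by
  have e := cases_D4.2.1
  generalize (setupD4.spR oB).rev = r at e
  subst e
  exact Φ.oX_fixedRoot (cases_D4.2.2.2.2.2.2.2.2.2.2.2.1 _ (by simp)) t

/-- The long rank one homomorphism. -/
noncomputable abbrev φB : SL(2, Φ.admField (setupD4.spR oB)) →* GL chevD4.Idx K := Φ.rankHom oB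

/-- `n_b n_a`, which carries the long node to the highest root. -/
def kTop : GL chevD4.Idx K := Φ.nO oB * Φ.nO oA

/-- The rank one homomorphism of the root `22`. -/
noncomputable def φ4 : SL(2, Φ.admField (setupD4.spR oB)) →* GL chevD4.Idx K :=
  (MulAut.conj (Φ.nO oA)).toMonoidHom.comp Φ.φB

/-- The rank one homomorphism of the highest root. -/
noncomputable def φ5 : SL(2, Φ.admField (setupD4.spR oB)) →* GL chevD4.Idx K :=
  (MulAut.conj Φ.kTop).toMonoidHom.comp Φ.φB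

/-- A monomial element carries a fixed root element to one of the image root. -/
theorem exists_conj_fixed {g : GL chevD4.Idx K} {π : Equiv.Perm (Root chevD4)}
    (hg : MonBy setupD4.good g π) (hf : g ∈ Φ.fix) {r r' : Root chevD4} (hr : setupD4.σR r = r)
    (hr' : setupD4.σR r' = r') (e : π r = r') :
    ∃ c : Kˣ, Φ.fU c = c ∧ ∀ t : K, Φ.f t = t →
      g * Φ.oX r t * g⁻¹ = X setupD4.good.good r' ((c : K) * t) := by
  obtain ⟨c, hc⟩ := Φ.conj_oX hg hf r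
  refine ⟨c, ?_, fun t ht => ?_⟩
  · have := (hc 1 (Φ.adm_one r)).1 (e ▸ hr')
    rw [mul_one] at this
    exact Units.ext this
  · rw [(hc t fun _ => ht).2, e, Φ.oX_fixedRoot hr']

theorem φ4_root : ∃ c d : Kˣ, Φ.fU c = c ∧ Φ.fU d = d ∧
    (∀ t, Φ.φ4 (uMat _ t) = X setupD4.good.good (rt 22) ((c : K) * t)) ∧
    ∀ t, Φ.φ4 (vMat _ t) = X setupD4.good.good (rt 1) ((d : K) * t) := by
  obtain ⟨e14, e9, -, p14, -, p9, -, -, -, -, -, hσ, -⟩ := cases_D4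
  obtain ⟨c, hc, hc'⟩ := Φ.exists_conj_fixed (Φ.monBy_nO oA) (Φ.nO_mem_fix oA)
    (hσ (rt 14) (by simp)) (hσ (rt 22) (by simp)) p14
  obtain ⟨d, hd, hd'⟩ := Φ.exists_conj_fixed (Φ.monBy_nO oA) (Φ.nO_mem_fix oA)
    (hσ (rt 9) (by simp)) (hσ (rt 1) (by simp)) p9
  refine ⟨c, d, hc, hd, fun t => ?_, fun t => ?_⟩
  · show Φ.nO oA * Φ.rankHom oB (uMat _ t) * (Φ.nO oA)⁻¹ = _
    rw [rankHom_uMat, oXB, ← Φ.oX_fixedRoot (hσ (rt 14) (by simp)), hc' _ (t.2 nodes_D4.2.1)]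
  · show Φ.nO oA * Φ.rankHom oB (vMat _ t) * (Φ.nO oA)⁻¹ = _
    rw [rankHom_vMat, oYB, ← Φ.oX_fixedRoot (hσ (rt 9) (by simp)), hd' _ (t.2 nodes_D4.2.1)]

theorem φ5_root : ∃ c d : Kˣ, Φ.fU c = c ∧ Φ.fU d = d ∧
    (∀ t, Φ.φ5 (uMat _ t) = X setupD4.good.good (rt 23) ((c : K) * t)) ∧
    ∀ t, Φ.φ5 (vMat _ t) = X setupD4.good.good (rt 0) ((d : K) * t) := by
  obtain ⟨e14, e9, -, p14, -, p9, q22, q1, -, -, -, hσ, -⟩ := cases_D4
  have hmon := (Φ.monBy_nO oB).mul (Φ.monBy_nO oA)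
  have hfix : Φ.kTop ∈ Φ.fix := mul_mem (Φ.nO_mem_fix oB) (Φ.nO_mem_fix oA)
  obtain ⟨c, hc, hc'⟩ := Φ.exists_conj_fixed hmon hfix (hσ (rt 14) (by simp))
    (hσ (rt 23) (by simp)) (by rw [Equiv.Perm.mul_apply, p14, q22])
  obtain ⟨d, hd, hd'⟩ := Φ.exists_conj_fixed hmon hfix (hσ (rt 9) (by simp))
    (hσ (rt 0) (by simp)) (by rw [Equiv.Perm.mul_apply, p9, q1])
  refine ⟨c, d, hc, hd, fun t => ?_, fun t => ?_⟩
  · show Φ.kTop * Φ.rankHom oB (uMat _ t) * Φ.kTop⁻¹ = _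
    rw [rankHom_uMat, oXB, ← Φ.oX_fixedRoot (hσ (rt 14) (by simp))]
    exact hc' _ (t.2 nodes_D4.2.1)
  · show Φ.kTop * Φ.rankHom oB (vMat _ t) * Φ.kTop⁻¹ = _
    rw [rankHom_vMat, oYB, ← Φ.oX_fixedRoot (hσ (rt 9) (by simp))]
    exact hd' _ (t.2 nodes_D4.2.1)

theorem fixed_mul {x y : K} (hx : Φ.f x = x) (hy : Φ.f y = y) : Φ.f (x * y) = x * y := by
  rw [map_mul, hx, hy]

theorem X_mem_UP {r : Root chevD4} (hr : r ∈ [rt 14, rt 22, rt 23]) {t : K} (ht : Φ.f t = t) :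
    X setupD4.good.good r t ∈ Φ.UP := by
  obtain ⟨-, -, -, -, -, -, -, -, -, -, -, hσ, hpos, -⟩ := cases_D4
  have hs : setupD4.σR r = r := hσ r (by
    simp only [List.mem_cons, List.not_mem_nil, or_false] at hr ⊢; tauto)
  rw [← Φ.oX_fixedRoot hs]
  exact Φ.oX_mem_UP (hpos r hr).1 (hpos r hr).2 fun _ => ht

theorem X_mem_UN {r : Root chevD4} (hr : r ∈ [rt 14, rt 22, rt 23]) {t : K} (ht : Φ.f t = t) :
    X setupD4.good.good r.rev t ∈ Φ.UN := by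
  obtain ⟨-, -, -, -, -, -, -, -, -, -, -, hσ, hpos, -⟩ := cases_D4
  have hs : setupD4.σR r = r := hσ r (by
    simp only [List.mem_cons, List.not_mem_nil, or_false] at hr ⊢; tauto)
  have hs' : setupD4.σR r.rev = r.rev := by rw [setupD4.σR_rev, hs]
  rw [← Φ.oX_fixedRoot hs']
  exact Φ.oX_mem_UN (hpos r hr).1 (hpos r hr).2 fun _ => ht

theorem nB_mem_tG : Φ.nO oB ∈ Φ.tG := Φ.nO_mem_tG oB

theorem hB_mem_H₀ (c : (Φ.admField (setupD4.spR oB))ˣ) : Φ.φB (hMat c) ∈ Φ.H₀ := by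
  rw [φB, rankHom_hMat]
  exact Φ.oH_mem (Φ.admU_iff.2 c.1.2)

theorem h4_mem_H₀ (c : (Φ.admField (setupD4.spR oB))ˣ) : Φ.φ4 (hMat c) ∈ Φ.H₀ :=
  Φ.conj_H₀ (Φ.monBy_nO oA) (Φ.nO_mem_fix oA) (Φ.hB_mem_H₀ c)

theorem h5_mem_H₀ (c : (Φ.admField (setupD4.spR oB))ˣ) : Φ.φ5 (hMat c) ∈ Φ.H₀ :=
  Φ.conj_H₀ ((Φ.monBy_nO oB).mul (Φ.monBy_nO oA))
    (mul_mem (Φ.nO_mem_fix oB) (Φ.nO_mem_fix oA)) (Φ.hB_mem_H₀ c)

theorem fst_fixed (t : Φ.admField (setupD4.spR oB)) : Φ.f (t : K) = t := t.2 nodes_D4.2.1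

/-- A conjugate inside the group in the big cell of the parabolic with Levi part `l`. -/
def InCell (g l : GL chevD4.Idx K) : Prop :=
  ∃ k ∈ Φ.tG, ∃ v ∈ Φ.UN, ∃ u ∈ Φ.UP, k * g * k⁻¹ = v * l * u

variable [Finite K]

/-- The double coset of `n_b n_a n_b`. -/
theorem inCell_one {l0 u : GL chevD4.Idx K} (hl : l0 ∈ Φ.LA) (hu : u ∈ Φ.UP)
    (c c' : (Φ.admField (setupD4.spR oB))ˣ) (σ : K) :
    Φ.InCell (Φ.nO oB * Φ.nO oA * Φ.nO oB * l0 * u)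
      (Φ.φB (hMat (-c)) * Φ.nO oA * Φ.φB (hMat (-c')) * l0 * Φ.oX (setupD4.spR oA) (-σ)) := by
  obtain ⟨e14, e9, -, p14, p22, p9, -, -, r22, -, r14, hσ, -, hnA⟩ := cases_D4
  obtain ⟨c5, d5, hc5, -, hu5, -⟩ := Φ.φ5_root
  set nA := Φ.nO oA
  set nB := Φ.nO oB
  set n := nB * nA * nB with hn
  set H1 := Φ.φB (hMat (-c))
  set H2 := Φ.φB (hMat (-c'))
  set V1 := Φ.φB (vMat _ ((c⁻¹ : (Φ.admField (setupD4.spR oB))ˣ) : Φ.admField (setupD4.spR oB)))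
  set V2 := Φ.φB (vMat _ ((c'⁻¹ : (Φ.admField (setupD4.spR oB))ˣ) : Φ.admField (setupD4.spR oB)))
  set U1' := Φ.φB (uMat _ (-((c⁻¹ : (Φ.admField (setupD4.spR oB))ˣ) : Φ.admField (setupD4.spR oB))))
  set U2 := Φ.φB (uMat _
    (-((c'⁻¹ : (Φ.admField (setupD4.spR oB))ˣ) : Φ.admField (setupD4.spR oB)))) with hU2
  set u' := Φ.φB (uMat _ (c : Φ.admField (setupD4.spR oB))) *
    Φ.φ5 (uMat _ (c' : Φ.admField (setupD4.spR oB))) with hu'
  have hu'UP : u' ∈ Φ.UP := by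
    refine mul_mem ?_ ?_
    · rw [φB, rankHom_uMat, oXB]
      exact Φ.X_mem_UP (by simp) (Φ.fst_fixed _)
    · rw [hu5]
      exact Φ.X_mem_UP (by simp) (Φ.fixed_mul (congrArg Units.val hc5) (Φ.fst_fixed _))
  have hrel : ∀ x : (Φ.admField (setupD4.spR oB))ˣ, Φ.φB (uMat _ (x : Φ.admField (setupD4.spR oB))) *
      nB = Φ.φB (vMat _ ((x⁻¹ : (Φ.admField (setupD4.spR oB))ˣ) : Φ.admField (setupD4.spR oB))) *
        Φ.φB (hMat (-x)) *
        Φ.φB (uMat _ (-((x⁻¹ : (Φ.admField (setupD4.spR oB))ˣ) : Φ.admField (setupD4.spR oB)))) :=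
    fun x => by
      rw [← map_mul, ← map_mul, ← uMat_mul_wMat, map_mul, φB, rankHom_wMat]
  -- the short reflection moves `U1'` to the root `22`
  obtain ⟨W, hW, hWeq⟩ : ∃ W : K, Φ.f W = W ∧ nA⁻¹ * U1' * nA = X setupD4.good.good (rt 22) W := by
    have hinv : (setupD4.wR oA)⁻¹ (rt 14) = rt 22 := by
      rw [show (setupD4.wR oA)⁻¹ (rt 14) = rt 22 ↔ rt 14 = setupD4.wR oA (rt 22) from
        Equiv.symm_apply_eq _, p22]
    obtain ⟨d, hd, hd'⟩ := Φ.exists_conj_fixed (Φ.monBy_nO oA).inv (inv_mem (Φ.nO_mem_fix oA))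
      (hσ (rt 14) (by simp)) (hσ (rt 22) (by simp)) hinv
    set t0 := -((c⁻¹ : (Φ.admField (setupD4.spR oB))ˣ) : Φ.admField (setupD4.spR oB)) with ht0
    refine ⟨(d : K) * (t0 : K), Φ.fixed_mul (congrArg Units.val hd) (Φ.fst_fixed _), ?_⟩
    have := hd' _ (Φ.fst_fixed t0)
    rw [inv_inv] at this
    rw [← this]
    simp only [U1', φB, rankHom_uMat, oXB, Φ.oX_fixedRoot (hσ (rt 14) (by simp)), nA, ht0]
  have hcomm : Commute (X setupD4.good.good (rt 22) W) V2 := by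
    simp only [V2, φB, rankHom_vMat, oYB]
    obtain ⟨h1, h2, h3⟩ := comm_cases_D4.1
    exact commute_nil h2 h3 h1 _ _
  set R := H2⁻¹ * X setupD4.good.good (rt 22) W * H2 * U2
  set v := V1 * (H1 * (nA * V2 * nA⁻¹) * H1⁻¹)
  have hmain : u' * n = v * (H1 * nA * H2) * R := by
    have e1 : u' * n = Φ.φB (uMat _ (c : Φ.admField (setupD4.spR oB))) * nB * nA *
        (Φ.φB (uMat _ (c' : Φ.admField (setupD4.spR oB))) * nB) := by
      show _ * (Φ.kTop * Φ.φB _ * Φ.kTop⁻¹) * _ = _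
      rw [hn, kTop]
      simp only [nA, nB]
      group
    rw [e1, hrel c, hrel c']
    calc V1 * H1 * U1' * nA * (V2 * H2 * U2)
        = V1 * H1 * nA * ((nA⁻¹ * U1' * nA) * V2) * (H2 * U2) := by group
      _ = V1 * H1 * nA * (V2 * X setupD4.good.good (rt 22) W) * (H2 * U2) := by
          rw [hWeq, hcomm.eq]
      _ = _ := by simp only [v, R]; group
  have hR : R ∈ Φ.UP := by
    refine mul_mem ?_ ?_
    · have := Φ.conj_UP (Φ.H₀_le_LA (inv_mem (Φ.hB_mem_H₀ (-c')))) (Φ.X_mem_UP (r := rt 22) (by simp) hW)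
      rwa [inv_inv] at this
    · rw [hU2, φB, rankHom_uMat, oXB]
      exact Φ.X_mem_UP (by simp) (Φ.fst_fixed _)
  have hV : ∀ x : (Φ.admField (setupD4.spR oB)), Φ.φB (vMat _ x) ∈ Φ.UN := fun x => by
    rw [φB, rankHom_vMat, oYB, ← r14]
    exact Φ.X_mem_UN (by simp) (Φ.fst_fixed _)
  have hv : v ∈ Φ.UN :=
    mul_mem (hV _) (Φ.conj_UN (Φ.H₀_le_LA (Φ.hB_mem_H₀ _)) (Φ.conj_UN Φ.nA_mem_LA (hV _)))
  -- the short root element
  set Xs := Φ.oX (setupD4.spR oA) σ with hXs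
  have hn' : n⁻¹ * Xs * n ∈ Φ.UP := by
    have hmon := ((Φ.monBy_nO oB).mul (Φ.monBy_nO oA)).mul (Φ.monBy_nO oB)
    obtain ⟨d, hd⟩ := Φ.conj_oX hmon.inv
      (inv_mem (mul_mem (mul_mem (Φ.nO_mem_fix oB) (Φ.nO_mem_fix oA)) (Φ.nO_mem_fix oB)))
      (setupD4.spR oA)
    obtain ⟨hadm, e⟩ := hd σ fun h => absurd h nodes_D4.1
    rw [inv_inv] at e
    rw [e]
    exact Φ.oX_mem_UP hnA.1 hnA.2 hadm
  set m := l0 * Φ.oX (setupD4.spR oA) (-σ)
  have hm : m ∈ Φ.LA := mul_mem hl (Φ.oXA_mem_LA _)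
  refine ⟨u' * Xs, mul_mem (Φ.UP_le_tG hu'UP) (Φ.LA_le_tG (Φ.oXA_mem_LA σ)), v, hv,
    m⁻¹ * (R * (n⁻¹ * Xs * n)) * m * (Xs * u * Xs⁻¹) * u'⁻¹, ?_, ?_⟩
  · refine mul_mem (mul_mem ?_ (Φ.conj_UP (Φ.oXA_mem_LA σ) hu)) (inv_mem hu'UP)
    have := Φ.conj_UP (inv_mem hm) (mul_mem hR hn')
    rwa [inv_inv] at this
  · have em : Φ.oX (setupD4.spR oA) (-σ) = Xs⁻¹ := (Φ.oX_inv _ _).symm
    calc u' * Xs * (n * l0 * u) * (u' * Xs)⁻¹
        = (u' * n) * (n⁻¹ * Xs * n) * l0 * Xs⁻¹ * (Xs * u * Xs⁻¹) * u'⁻¹ := by group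
      _ = _ := by rw [hmain]; simp only [m, em]; group

/-- The double coset of the reflection of the highest root. -/
theorem inCell_top {l0 u : GL chevD4.Idx K} (hl : l0 ∈ Φ.LA) (hu : u ∈ Φ.UP)
    (D c : (Φ.admField (setupD4.spR oB))ˣ) (s : K) :
    Φ.InCell (Φ.φ5 (wMat _) * l0 * u)
      (Φ.φ4 (hMat D) * Φ.φ5 (hMat (-c)) * Φ.oX (setupD4.spR oA) s * l0 *
        Φ.oX (setupD4.spR oA) (-s)) := by
  obtain ⟨e14, e9, -, -, -, -, -, -, r22, r23, r14, hσ, -, -⟩ := cases_D4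
  obtain ⟨c5, d5, hc5, hd5, hu5, hv5⟩ := Φ.φ5_root
  obtain ⟨c4, d4, hc4, hd4, hu4, hv4⟩ := Φ.φ4_root
  obtain ⟨-, ⟨t014, n014, n014', t114, n114, n114', t10, n10, n10'⟩,
    ⟨t022, n022, n022', t922, n922, n922', t90, n90, n90'⟩, -, -⟩ := comm_cases_D4
  set n := Φ.φ5 (wMat _)
  -- the element `X₀ β`
  set β : K := (d5 : K) * (((c⁻¹ : (Φ.admField (setupD4.spR oB))ˣ) : Φ.admField (setupD4.spR oB)) : K)
    with hβ
  have hβf : Φ.f β = β := Φ.fixed_mul (congrArg Units.val hd5) (Φ.fst_fixed _)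
  have hβ0 : β ≠ 0 := mul_ne_zero d5.ne_zero fun e => (c⁻¹).ne_zero (Subtype.ext e)
  set x0 := X setupD4.good.good (rt 0) β
  set x14 := X setupD4.good.good (rt 14) (1 : K)
  obtain ⟨C, hC, eC⟩ := swap_one (k := 1) n014' n014 t014 β (1 : K)
  set k : K := (C : K) * -β * 1 with hk
  have hkf : Φ.f k = k := by rw [hk, map_mul, map_mul, map_intCast, map_neg, map_one, hβf]
  have hk0 : k ≠ 0 := by
    have hC0 : (C : K) ≠ 0 := fun e => one_ne_zero (α := K) (by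
      rw [← Int.cast_one, ← hC, Int.cast_mul, e, mul_zero])
    simp [hk, hC0, hβ0]
  let k0 : Φ.admField (setupD4.spR oB) :=
    ⟨((d4⁻¹ : Kˣ) : K) * k, fun _ => Φ.fixed_mul (by
      have := congrArg Units.val (show Φ.fU d4⁻¹ = d4⁻¹ by
        rw [show Φ.fU d4⁻¹ = (Φ.fU d4)⁻¹ from map_inv _ d4, hd4])
      exact this) hkf⟩
  have hk00 : k0 ≠ 0 := fun e => hk0 ((mul_eq_zero.1 (congrArg Subtype.val e)).resolve_left
    (d4⁻¹).ne_zero)
  let f0 : Φ.admField (setupD4.spR oB) := ((D : Φ.admField (setupD4.spR oB)) - 1) / k0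
  have hD : (D : Φ.admField (setupD4.spR oB)) = 1 + f0 * k0 := by
    rw [div_mul_cancel₀ _ hk00, add_sub_cancel]
  have hW1 : X setupD4.good.good (rt 1) k = Φ.φ4 (vMat _ k0) := by
    rw [hv4]
    congr 1
    show k = (d4 : K) * (((d4⁻¹ : Kˣ) : K) * k)
    rw [← mul_assoc, Units.mul_inv, one_mul]
  have hswap : x14 * x0 = X setupD4.good.good (rt 1) k * (x0 * x14) := by
    have c1 : Commute (X setupD4.good.good (rt 1) k) x14 := commute_nil n114 n114' t114 _ _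
    have c2 : Commute (X setupD4.good.good (rt 1) k) x0 := commute_nil n10 n10' t10 _ _
    rw [show x14 * x0 = x0 * x14 * X setupD4.good.good (rt 1) k from eC]
    exact (c2.mul_right c1).eq.symm
  -- the rank one step at the root `22`
  set V4 := Φ.φ4 (vMat _ (k0 / (D : Φ.admField (setupD4.spR oB))))
  set H4 := Φ.φ4 (hMat D)
  set γ : Φ.admField (setupD4.spR oB) := f0 / (D : Φ.admField (setupD4.spR oB))
  set U4 := Φ.φ4 (uMat _ γ) with hU4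
  obtain ⟨C', -, eC'⟩ := swap_one (k := 9) n022' n022 t022 β ((c4 : K) * γ)
  set w : K := (C' : K) * -β * ((c4 : K) * γ) with hw
  have hwf : Φ.f w = w := by
    rw [hw]
    exact Φ.fixed_mul (Φ.fixed_mul (map_intCast Φ.f C') (by rw [map_neg, hβf]))
      (Φ.fixed_mul (congrArg Units.val hc4) (Φ.fst_fixed _))
  have hswap' : U4 * x0 = x0 * X setupD4.good.good (rt 9) w * U4 := by
    rw [hU4, hu4, eC']
    have c1 : Commute (X setupD4.good.good (rt 9) w)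
        (X setupD4.good.good (rt 22) ((c4 : K) * γ)) := commute_nil n922 n922' t922 _ _
    rw [mul_assoc, ← c1.eq, ← mul_assoc]
  set H5 := Φ.φ5 (hMat (-c))
  set U5 := Φ.φ5 (uMat _ (-((c⁻¹ : (Φ.admField (setupD4.spR oB))ˣ) : Φ.admField (setupD4.spR oB))))
  set P := Φ.φ4 (uMat _ f0) * x14 * Φ.φ5 (uMat _ (c : Φ.admField (setupD4.spR oB))) with hP
  set v := V4 * (H4 * (x0 * X setupD4.good.good (rt 9) w) * H4⁻¹)
  set R := H5⁻¹ * (U4 * x14) * H5 * U5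
  have hmain : P * n = v * (H4 * H5) * R := by
    have e5 : Φ.φ5 (uMat _ (c : Φ.admField (setupD4.spR oB))) * n = x0 * H5 * U5 := by
      rw [← map_mul, uMat_mul_wMat, map_mul, map_mul, hv5]
    calc P * n = Φ.φ4 (uMat _ f0) * x14 * (Φ.φ5 (uMat _ (c : Φ.admField (setupD4.spR oB))) * n) := by
          rw [hP]; group
      _ = Φ.φ4 (uMat _ f0) * (x14 * x0) * (H5 * U5) := by rw [e5]; group
      _ = Φ.φ4 (uMat _ f0) * Φ.φ4 (vMat _ k0) * (x0 * x14) * (H5 * U5) := by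
          rw [hswap, hW1]; group
      _ = V4 * H4 * (U4 * x0) * x14 * (H5 * U5) := by
          rw [← map_mul, uMat_mul_vMat _ _ D hD, map_mul, map_mul]
          simp only [V4, H4, hU4, γ, mul_assoc]
      _ = _ := by rw [hswap']; simp only [v, R]; group
  have h22 : ∀ t : Φ.admField (setupD4.spR oB), Φ.φ4 (uMat _ t) ∈ Φ.UP := fun t => by
    rw [hu4]
    exact Φ.X_mem_UP (by simp) (Φ.fixed_mul (congrArg Units.val hc4) (Φ.fst_fixed _))
  have h23 : ∀ t : Φ.admField (setupD4.spR oB), Φ.φ5 (uMat _ t) ∈ Φ.UP := fun t => by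
    rw [hu5]
    exact Φ.X_mem_UP (by simp) (Φ.fixed_mul (congrArg Units.val hc5) (Φ.fst_fixed _))
  have h14 : x14 ∈ Φ.UP := Φ.X_mem_UP (by simp) (map_one _)
  have hR : R ∈ Φ.UP := by
    refine mul_mem ?_ (h23 _)
    have := Φ.conj_UP (Φ.H₀_le_LA (inv_mem (Φ.h5_mem_H₀ (-c)))) (mul_mem (h22 γ) h14)
    rwa [inv_inv] at this
  have hv : v ∈ Φ.UN := by
    refine mul_mem ?_ (Φ.conj_UN (Φ.H₀_le_LA (Φ.h4_mem_H₀ D)) (mul_mem ?_ ?_))
    · show Φ.φ4 (vMat _ _) ∈ Φ.UN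
      rw [hv4, ← r22]
      exact Φ.X_mem_UN (by simp) (Φ.fixed_mul (congrArg Units.val hd4) (Φ.fst_fixed _))
    · simp only [x0, ← r23]
      exact Φ.X_mem_UN (by simp) hβf
    · rw [← r14]
      exact Φ.X_mem_UN (by simp) hwf
  have hPUP : P ∈ Φ.UP := mul_mem (mul_mem (h22 _) h14) (h23 _)
  set Xs := Φ.oX (setupD4.spR oA) s with hXs
  have hns : Commute n Xs := by
    have hC : (Subgroup.centralizer {Xs}).comap Φ.φ5 = ⊤ := sl2_top_of_mem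
      (fun t => Subgroup.mem_comap.2 (Subgroup.mem_centralizer_singleton_iff.2 (by
        rw [hu5]; exact (Φ.commute_oXA (by simp) s _).eq.symm)))
      (fun t => Subgroup.mem_comap.2 (Subgroup.mem_centralizer_singleton_iff.2 (by
        rw [hv5]; exact (Φ.commute_oXA (by simp) s _).eq.symm)))
    exact Subgroup.mem_centralizer_singleton_iff.1
      (hC ▸ Subgroup.mem_top (wMat _) : wMat _ ∈ (Subgroup.centralizer {Xs}).comap Φ.φ5)
  set m := Xs * l0 * Φ.oX (setupD4.spR oA) (-s)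
  have hm : m ∈ Φ.LA := mul_mem (mul_mem (Φ.oXA_mem_LA s) hl) (Φ.oXA_mem_LA _)
  refine ⟨P * Xs, mul_mem (Φ.UP_le_tG hPUP) (Φ.LA_le_tG (Φ.oXA_mem_LA s)), v, hv,
    m⁻¹ * R * m * (Xs * u * Xs⁻¹) * P⁻¹, ?_, ?_⟩
  · refine mul_mem (mul_mem ?_ (Φ.conj_UP (Φ.oXA_mem_LA s) hu)) (inv_mem hPUP)
    have := Φ.conj_UP (inv_mem hm) hR
    rwa [inv_inv] at this
  · have em : Φ.oX (setupD4.spR oA) (-s) = Xs⁻¹ := (Φ.oX_inv _ _).symm
    calc P * Xs * (n * l0 * u) * (P * Xs)⁻¹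
        = P * (Xs * n) * l0 * Xs⁻¹ * (Xs * u * Xs⁻¹) * P⁻¹ := by group
      _ = (P * n) * Xs * l0 * Xs⁻¹ * (Xs * u * Xs⁻¹) * P⁻¹ := by rw [← hns.eq]; group
      _ = _ := by rw [hmain]; simp only [m, em]; group

end FieldTwist

end CfsgLib.GraphTwist
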