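import Cfsg.Agent.D4Square.Reduce
import Cfsg.Agent.ClassSquare.Abstract

/-!
# Torus weights, fixed-point freeness and absorption for `³D₄(q)`
-/

set_option autoImplicit false
set_option linter.style.haveILetI false
set_option linter.unusedSectionVars false
set_option maxRecDepth 8000

namespace CfsgLib.GraphTwist

open Cfsg.Lie CfsgLib.Chevalley CfsgLib.SchurBN
open CfsgLib.Chevalley.RankOneRel (uMat vMat wMat uMat_val vMat_val wMat_val)
open scoped MatrixGroups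

theorem pairing_long_D4 :
    setupD4.σR (rt 22) = rt 22 ∧ setupD4.σR (rt 23) = rt 23 ∧ setupD4.σR (rt 14) = rt 14 ∧
    (∀ p ∈ [(rt 14, (1 : ℤ), (-1 : ℤ)), (rt 22, 1, 1), (rt 23, 2, 0)],
      (∑ k : Fin chevD4.rank, (chevD4.coroot.getD (p.1 : Root chevD4) #[]).getD k 0 *
          chevD4.cartan k (topD4 : Root chevD4)) = p.2.1 ∧
      (∑ k : Fin chevD4.rank, (chevD4.coroot.getD (p.1 : Root chevD4) #[]).getD k 0 *
          chevD4.cartan k (setupD4.spR oA : Root chevD4)) = p.2.2) := by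
  decide +kernel

/-- A unipotent triangular form with first entry `1`. -/
theorem exists_twist_conj {F : Type*} [Field F] (ρ : Fˣ) (A : SL(2, F))
    (h : A.1 0 1 ≠ 0 ∨ A.1 1 0 ≠ 0 ∨ (ρ : F) * A.1 0 0 ≠ A.1 1 1) :
    ∃ P : SL(2, F), (scaleHom ρ⁻¹ P * A * P⁻¹).1 0 0 = 1 := by
  have low : ∀ B : SL(2, F), B.1 0 1 ≠ 0 → ∃ t : F,
      (scaleHom ρ⁻¹ (vMat F t) * B * (vMat F t)⁻¹).1 0 0 = 1 := fun B hB =>
    ⟨(B.1 0 0 - 1) / B.1 0 1, by
      simp [scaleHom_vMat, vMat_val, Matrix.SpecialLinearGroup.coe_inv, Matrix.adjugate_fin_two,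
        Matrix.mul_apply, Fin.sum_univ_two, Matrix.vecMul, dotProduct, div_mul_cancel₀, hB]
      field_simp
      ring⟩
  by_cases h01 : A.1 0 1 = 0
  · by_cases h10 : A.1 1 0 = 0
    · have hd : (ρ : F) * A.1 0 0 ≠ A.1 1 1 := (h.resolve_left (fun e => e h01)).resolve_left
        (fun e => e h10)
      let B := scaleHom ρ⁻¹ (uMat F 1) * A * (uMat F 1)⁻¹
      have hB : B.1 0 1 ≠ 0 := by
        intro e
        simp [B, scaleHom_uMat, uMat_val, Matrix.SpecialLinearGroup.coe_inv, Matrix.adjugate_fin_two,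
          Matrix.mul_apply, Fin.sum_univ_two, Matrix.vecMul, dotProduct, h01, h10] at e
        apply hd
        field_simp at e
        linear_combination -e
      obtain ⟨t, ht⟩ := low B hB
      refine ⟨vMat F t * uMat F 1, ?_⟩
      have e : scaleHom ρ⁻¹ (vMat F t * uMat F 1) * A * (vMat F t * uMat F 1)⁻¹ =
          scaleHom ρ⁻¹ (vMat F t) * B * (vMat F t)⁻¹ := by
        simp only [B, map_mul, mul_inv_rev, mul_assoc]
      rw [e]
      exact ht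
    · refine ⟨uMat F ((1 - A.1 0 0) * ρ / A.1 1 0), ?_⟩
      simp [scaleHom_uMat, uMat_val, Matrix.SpecialLinearGroup.coe_inv, Matrix.adjugate_fin_two,
        Matrix.mul_apply, Fin.sum_univ_two, Matrix.vecMul, dotProduct]
      field_simp
      ring
  · obtain ⟨t, ht⟩ := low A h01
    exact ⟨_, ht⟩

/-- A matrix with first entry `1` is lower times upper unitriangular. -/
theorem eq_vMat_uMat {F : Type*} [Field F] (A : SL(2, F)) (h : A.1 0 0 = 1) :
    A = vMat F (A.1 1 0) * uMat F (A.1 0 1) := by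
  have hdet := A.2
  rw [Matrix.det_fin_two, h, one_mul] at hdet
  apply Subtype.ext; apply Matrix.ext; intro i j
  fin_cases i <;> fin_cases j <;>
    simp [uMat_val, vMat_val, Matrix.mul_apply, Fin.sum_univ_two, Matrix.vecMul, dotProduct, h]
  linear_combination hdet

theorem scaleHom_scaleHom_inv {F : Type*} [Field F] (l : Fˣ) (A : SL(2, F)) :
    scaleHom l (scaleHom l⁻¹ A) = A := by
  apply Subtype.ext; apply Matrix.ext; intro i j
  fin_cases i <;> fin_cases j <;> simp [scaleHom_val]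

namespace FieldTwist

variable {K : Type*} [Field K] (Φ : FieldTwist setupD4 K)

/-- Weights of a conjugate torus element. -/
theorem chi_conj {g : GL chevD4.Idx K} {π : Equiv.Perm (Root chevD4)}
    (hg : MonBy setupD4.good g π) {c c' : Fin chevD4.rank → Kˣ}
    (e : g * torC chevD4 c * g⁻¹ = torC chevD4 c') (r : Root chevD4) :
    ChevSimple.chi c' (π r) = ChevSimple.chi c r := by
  obtain ⟨d, hd⟩ := hg.conj_X r
  have h1 := ChevSimple.torC_conj_X setupD4.good.good c' (π r) (d : K)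
  rw [← e, show (d : K) = d * 1 from (mul_one _).symm, ← hd,
    show ∀ a b z : GL chevD4.Idx K, a * b * a⁻¹ * (a * z * a⁻¹) * (a * b * a⁻¹)⁻¹ =
      a * (b * z * b⁻¹) * a⁻¹ from fun a b z => by group,
    ChevSimple.torC_conj_X setupD4.good.good, hd] at h1
  have := X_injective setupD4.good.good _ h1
  rw [mul_one, mul_one, mul_comm (d : K)] at this
  exact (Units.ext (mul_right_cancel₀ d.ne_zero this)).symm

/-- The torus element of a fixed root. -/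
theorem hC_fixed {r : Root chevD4} (hr : setupD4.σR r = r) {a : Kˣ} (ha : Φ.fU a = a) :
    hC r a ∈ Φ.fixC := by
  show Φ.T _ = _
  rw [Φ.T_hC, hr, ha]
  rfl

theorem fU_fixed (a : (Φ.admField (setupD4.spR oB))ˣ) :
    Φ.fU (Units.map (Φ.admField (setupD4.spR oB)).subtype.toMonoidHom a) =
      Units.map (Φ.admField (setupD4.spR oB)).subtype.toMonoidHom a :=
  Units.ext (Φ.fst_fixed a.1)

/-- The underlying scalar. -/
abbrev bUnit (a : (Φ.admField (setupD4.spR oB))ˣ) : Kˣ :=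
  Units.map (Φ.admField (setupD4.spR oB)).subtype.toMonoidHom a

theorem φB_hMat (a : (Φ.admField (setupD4.spR oB))ˣ) :
    Φ.φB (hMat a) = torC chevD4 (hC (rt 14) (Φ.bUnit a)) := by
  rw [φB, rankHom_hMat, torC_hC, oH]
  have h1 : setupD4.osize (setupD4.spR oB) = 1 := by decide +kernel
  rw [h1]
  simp only [List.range_succ, List.range_zero, List.nil_append, List.map_cons, List.map_nil,
    List.prod_cons, List.prod_nil, mul_one, pow_zero, MulAut.one_apply, ← cases_D4.1]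

theorem φ4_hMat (a : (Φ.admField (setupD4.spR oB))ˣ) :
    Φ.φ4 (hMat a) = torC chevD4 (hC (rt 22) (Φ.bUnit a)) := by
  show Φ.nO oA * Φ.φB (hMat a) * (Φ.nO oA)⁻¹ = _
  rw [φB_hMat, torC_hC, torC_hC, conj_hT (τ := setupD4) (Φ.monBy_nO oA), cases_D4.2.2.2.1]

theorem φ5_hMat (a : (Φ.admField (setupD4.spR oB))ˣ) :
    Φ.φ5 (hMat a) = torC chevD4 (hC (rt 23) (Φ.bUnit a)) := by
  show Φ.kTop * Φ.φB (hMat a) * Φ.kTop⁻¹ = _
  rw [φB_hMat, torC_hC, torC_hC, kTop, conj_hT (τ := setupD4) ((Φ.monBy_nO oB).mul (Φ.monBy_nO oA)),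
    Equiv.Perm.mul_apply, cases_D4.2.2.2.1, cases_D4.2.2.2.2.2.2.1]

/-- The weights of the three long coroot elements. -/
theorem chi_long_sq (a : Kˣ) :
    ChevSimple.chi (hC (rt 14) a) topD4 = a ∧ ChevSimple.chi (hC (rt 14) a) (setupD4.spR oA) = a⁻¹ ∧
    ChevSimple.chi (hC (rt 22) a) topD4 = a ∧ ChevSimple.chi (hC (rt 22) a) (setupD4.spR oA) = a ∧
    ChevSimple.chi (hC (rt 23) a) topD4 = a ^ 2 ∧
      ChevSimple.chi (hC (rt 23) a) (setupD4.spR oA) = 1 := by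
  obtain ⟨-, -, -, hp⟩ := pairing_long_D4
  obtain ⟨a1, a2⟩ := hp (rt 14, 1, -1) (by simp)
  obtain ⟨b1, b2⟩ := hp (rt 22, 1, 1) (by simp)
  obtain ⟨c1, c2⟩ := hp (rt 23, 2, 0) (by simp)
  simp only [chi_hC, a1, a2, b1, b2, c1, c2, zpow_one, zpow_neg, zpow_two, zpow_zero, sq,
    and_self]

theorem chi_mul' (c d : Fin chevD4.rank → Kˣ) (r : Root chevD4) :
    ChevSimple.chi (c * d) r = ChevSimple.chi c r * ChevSimple.chi d r := by
  simp only [ChevSimple.chi, Pi.mul_apply, mul_zpow, Finset.prod_mul_distrib]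

/-- The weight on the highest root is fixed by the twist. -/
theorem fU_fixed_top {c : Fin chevD4.rank → Kˣ} (hc : c ∈ Φ.fixC) :
    Φ.fU (ChevSimple.chi c topD4) = ChevSimple.chi c topD4 := by
  rw [← Φ.chi_σR hc, nodes_D4.2.2.1]

theorem torC_mul (c d : Fin chevD4.rank → Kˣ) :
    torC chevD4 (c * d) = torC chevD4 c * torC chevD4 d := map_mul (torHom chevD4 K) c d

variable [Finite K]

/-- A torus element moving every positive orbit centralises nothing in the unipotent group. -/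
theorem fpf_pos {c : Fin chevD4.rank → Kˣ}
    (hc : ∀ r : Root chevD4, half chevD4 ≤ (r : ℕ) → ChevSimple.chi c r ≠ 1)
    {g : GL chevD4.Idx K} (hg : g ∈ chevD4.posUnipotent K)
    (h : torC chevD4 c * g = g * torC chevD4 c) : g = 1 := by
  rw [← setupD4.uT_zero] at hg
  obtain ⟨t, rfl⟩ := setupD4.exists_tailMul setupD4.norb 0 (Nat.zero_add _) g hg
  have horb : ∀ r (u : Root chevD4 → K), torC chevD4 c * setupD4.orbMul r u * (torC chevD4 c)⁻¹ =
      setupD4.orbMul r fun a => (ChevSimple.chi c a : K) * u a := by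
    intro r u
    rw [Setup.orbMul, Setup.orbMul, ← MulAut.conj_apply, map_list_prod, List.map_map]
    exact congrArg List.prod (List.map_congr_left fun a _ => by
      rw [Function.comp_apply, MulAut.conj_apply, ChevSimple.torC_conj_X setupD4.good.good])
  have htail : ∀ i, torC chevD4 c * setupD4.tailMul i t * (torC chevD4 c)⁻¹ =
      setupD4.tailMul i fun a => (ChevSimple.chi c a : K) * t a := by
    intro i
    rw [Setup.tailMul, Setup.tailMul, ← MulAut.conj_apply, map_list_prod, List.map_map]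
    refine congrArg List.prod (List.map_congr_left fun j _ => ?_)
    rw [Function.comp_apply, MulAut.conj_apply, Setup.factor, Setup.factor]
    split
    · exact horb _ _
    · simp
  have e := (htail 0).symm.trans (by rw [h, mul_inv_cancel_right])
  have ht : ∀ r : Root chevD4, half chevD4 ≤ (r : ℕ) → t r = 0 := fun r hr => by
    have := setupD4.tailMul_injective e hr
    by_contra h0
    exact hc r hr (Units.ext ((mul_eq_right₀ h0).1 this))
  rw [setupD4.tailMul_of_support le_rfl (fun r hr _ => ht r hr), setupD4.tailMul_norb]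

/-- The weights on all the positive roots from those on the six representatives. -/
theorem chi_ne_one {c : Fin chevD4.rank → Kˣ} (hc : c ∈ Φ.fixC)
    (h : ∀ i : Fin setupD4.norb, ChevSimple.chi c (setupD4.rep i) ≠ 1) (r : Root chevD4)
    (hr : half chevD4 ≤ (r : ℕ)) : ChevSimple.chi c r ≠ 1 := by
  obtain ⟨hlt, hm⟩ := setupD4.exists_orbPos hr
  obtain ⟨j, e⟩ := setupD4.mem_orb_iff.1 hm
  rw [← e]
  clear e
  induction j with
  | zero => exact h _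
  | succ j ih =>
    rw [pow_succ', Equiv.Perm.mul_apply, Φ.chi_σR hc]
    intro e
    refine ih (Units.ext (Φ.f.injective ?_))
    rw [Units.val_one, map_one]
    exact congrArg Units.val e

/-- The opposite unipotent group. -/
def Um : Subgroup (GL chevD4.Idx K) := Φ.U1.map (MulAut.conj Φ.g0).toMonoidHom

theorem mem_Um {g : GL chevD4.Idx K} : g ∈ Φ.Um ↔ Φ.g0⁻¹ * g * Φ.g0 ∈ Φ.U1 := by
  constructor
  · rintro ⟨u, hu, rfl⟩
    show Φ.g0⁻¹ * (Φ.g0 * u * Φ.g0⁻¹) * Φ.g0 ∈ Φ.U1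
    rwa [show Φ.g0⁻¹ * (Φ.g0 * u * Φ.g0⁻¹) * Φ.g0 = u by group]
  · intro h
    refine ⟨_, h, ?_⟩
    show Φ.g0 * (Φ.g0⁻¹ * g * Φ.g0) * Φ.g0⁻¹ = g
    group

theorem UN_le_Um : Φ.UN ≤ Φ.Um := fun _ hg => Φ.mem_Um.2 (Φ.UP_le_U1 (Φ.mem_UN.1 hg))

theorem Um_le_tG : Φ.Um ≤ Φ.tG := fun g hg => by
  have hg0 := Φ.M₀_le_tG Φ.g0_mem_M₀
  have := mul_mem (mul_mem hg0 (Φ.U1_le_tG (Φ.mem_Um.1 hg))) (inv_mem hg0)
  rwa [show Φ.g0 * (Φ.g0⁻¹ * g * Φ.g0) * Φ.g0⁻¹ = g by group] at this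

theorem φA_vMat_mem_Um (t : K) : Φ.φA (vMat K t) ∈ Φ.Um := by
  obtain ⟨c, hc⟩ := Φ.g0_inv_conj_oX (setupD4.spR oA).rev
  obtain ⟨hadm, e⟩ := hc t (Φ.adm_rev.2 fun h => absurd h nodes_D4.1)
  rw [Φ.mem_Um, φA_vMat, e]
  rw [Fin.rev_rev] at hadm ⊢
  exact ⟨Φ.oX_mem_pos (setupD4.spR_pos oA) _, Φ.oX_mem_fix hadm⟩

theorem φA_uMat_mem_U1 (t : K) : Φ.φA (uMat K t) ∈ Φ.U1 := by
  rw [φA_uMat]
  exact ⟨Φ.oX_mem_pos (setupD4.spR_pos oA) t, Φ.oX_mem_fix fun h => absurd h nodes_D4.1⟩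

theorem H₀_conj_Um {h u : GL chevD4.Idx K} (hh : h ∈ Φ.H₀) (hu : u ∈ Φ.Um) :
    h * u * h⁻¹ ∈ Φ.Um := by
  obtain ⟨π, hπ, -⟩ := Φ.g0_mon
  rw [Φ.mem_Um] at hu ⊢
  have h1 := Φ.conj_H₀ hπ.inv (inv_mem Φ.g0_mem_fix) hh
  rw [inv_inv] at h1
  rw [show Φ.g0⁻¹ * (h * u * h⁻¹) * Φ.g0 =
    Φ.g0⁻¹ * h * Φ.g0 * (Φ.g0⁻¹ * u * Φ.g0) * (Φ.g0⁻¹ * h * Φ.g0)⁻¹ by group]
  exact Φ.H₀_conj_U1 h1 hu

/-- A torus element moving every orbit centralises nothing in the opposite group. -/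
theorem fpf_neg {c : Fin chevD4.rank → Kˣ} (hc : c ∈ Φ.fixC)
    (h : ∀ r : Root chevD4, half chevD4 ≤ (r : ℕ) → ChevSimple.chi c r ≠ 1)
    {g : GL chevD4.Idx K} (hg : g ∈ Φ.Um) (hcomm : torC chevD4 c * g = g * torC chevD4 c) :
    g = 1 := by
  obtain ⟨π, hπ, hrev⟩ := Φ.g0_mon
  obtain ⟨c', -, ec⟩ := Φ.conj_H₀ hπ.inv (inv_mem Φ.g0_mem_fix) ⟨c, hc, rfl⟩
  have ec' : Φ.g0⁻¹ * torC chevD4 c * Φ.g0 = torC chevD4 c' := by
    rw [inv_inv] at ec; exact ec.symm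
  have hc' : ∀ r : Root chevD4, half chevD4 ≤ (r : ℕ) → ChevSimple.chi c' r ≠ 1 := by
    intro r hr
    have hπr : π⁻¹ r.rev = r := by
      rw [show π⁻¹ r.rev = r ↔ r.rev = π r from Equiv.symm_apply_eq π, hrev]
    have := chi_conj hπ.inv (by rwa [inv_inv]) r.rev
    rw [hπr, chi_rev setupD4.good.good] at this
    rw [this, ne_eq, inv_eq_one]
    exact h r hr
  have := fpf_pos hc' (Φ.mem_Um.1 hg).1 (by
    rw [← ec', show ∀ a x g : GL chevD4.Idx K, a⁻¹ * x * a * (a⁻¹ * g * a) = a⁻¹ * (x * g) * a from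
      fun a x g => by group, hcomm]
    group)
  calc g = Φ.g0 * (Φ.g0⁻¹ * g * Φ.g0) * Φ.g0⁻¹ := by group
    _ = 1 := by rw [this]; group

/-- `n x · x' m` is a product of conjugates of `x` and `x'`. -/
theorem twoConj_cell' {N M : Subgroup (GL chevD4.Idx K)} (hN : N ≤ Φ.tG) (hM : M ≤ Φ.tG)
    {x x' : GL chevD4.Idx K} (hx : x ∈ Φ.tG) (hx' : x' ∈ Φ.tG)
    (hxN : ∀ n ∈ N, x * n * x⁻¹ ∈ N) (hNC : ∀ n ∈ N, x * n = n * x → n = 1)
    (hxM : ∀ n ∈ M, x' * n * x'⁻¹ ∈ M) (hMC : ∀ n ∈ M, x' * n = n * x' → n = 1)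
    {n m : GL chevD4.Idx K} (hn : n ∈ N) (hm : m ∈ M) :
    ∃ a ∈ Φ.tG, ∃ b ∈ Φ.tG, n * (x * x') * m = (a * x * a⁻¹) * (b * x' * b⁻¹) := by
  haveI : Finite ↥Φ.tG := inferInstance
  obtain ⟨h1, -⟩ := CfsgLib.ClassSquare.absorb (N.subgroupOf Φ.tG) ⟨x, hx⟩ (fun z hz => hxN _ hz)
    (fun z hz e => Subtype.ext (hNC _ hz (congrArg Subtype.val e))) (n := ⟨n, hN hn⟩) hn
  obtain ⟨-, h2⟩ := CfsgLib.ClassSquare.absorb (M.subgroupOf Φ.tG) ⟨x', hx'⟩ (fun z hz => hxM _ hz)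
    (fun z hz e => Subtype.ext (hMC _ hz (congrArg Subtype.val e))) (n := ⟨m, hM hm⟩) hm
  obtain ⟨a, ha⟩ := isConj_iff.1 h1
  obtain ⟨b, hb⟩ := isConj_iff.1 h2
  refine ⟨a, a.2, b, b.2, ?_⟩
  have e1 : (a : GL chevD4.Idx K) * x * (a : GL chevD4.Idx K)⁻¹ = n * x := congrArg Subtype.val ha
  have e2 : (b : GL chevD4.Idx K) * x' * (b : GL chevD4.Idx K)⁻¹ = x' * m := congrArg Subtype.val hb
  rw [e1, e2]
  group

/-- `n x · x m` is a product of two conjugates of `x`. -/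
theorem twoConj_cell {N M : Subgroup (GL chevD4.Idx K)} (hN : N ≤ Φ.tG) (hM : M ≤ Φ.tG)
    {x : GL chevD4.Idx K} (hx : x ∈ Φ.tG)
    (hxN : ∀ n ∈ N, x * n * x⁻¹ ∈ N) (hNC : ∀ n ∈ N, x * n = n * x → n = 1)
    (hxM : ∀ n ∈ M, x * n * x⁻¹ ∈ M) (hMC : ∀ n ∈ M, x * n = n * x → n = 1)
    {n m : GL chevD4.Idx K} (hn : n ∈ N) (hm : m ∈ M) :
    ∃ a ∈ Φ.tG, ∃ b ∈ Φ.tG, n * (x * x) * m = (a * x * a⁻¹) * (b * x * b⁻¹) :=
  Φ.twoConj_cell' hN hM hx hx hxN hNC hxM hMC hn hm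

/-- A product of two conjugates stays one after conjugation. -/
theorem twoConj_transfer {x g k g' : GL chevD4.Idx K} (hk : k ∈ Φ.tG) (e : k * g * k⁻¹ = g')
    (h : ∃ a ∈ Φ.tG, ∃ b ∈ Φ.tG, g' = (a * x * a⁻¹) * (b * x * b⁻¹)) :
    ∃ a ∈ Φ.tG, ∃ b ∈ Φ.tG, g = (a * x * a⁻¹) * (b * x * b⁻¹) := by
  obtain ⟨a, ha, b, hb, e'⟩ := h
  refine ⟨k⁻¹ * a, mul_mem (inv_mem hk) ha, k⁻¹ * b, mul_mem (inv_mem hk) hb, ?_⟩
  calc g = k⁻¹ * (k * g * k⁻¹) * k := by group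
    _ = _ := by rw [e, e']; group

end FieldTwist

end CfsgLib.GraphTwist
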