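import Cfsg.Agent.D4Square.MainGeFour

/-!
# Big cell conjugates whose Levi part lies in the short rank one subgroup, in two signs
-/

set_option autoImplicit false
set_option linter.style.haveILetI false
set_option linter.unusedSectionVars false
set_option maxRecDepth 8000

namespace CfsgLib.GraphTwist

open Cfsg.Lie CfsgLib.Chevalley CfsgLib.SchurBN
open CfsgLib.Chevalley.RankOneRel (uMat vMat wMat uMat_val vMat_val wMat_val)
open scoped MatrixGroups

theorem pairing_b_D4 :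
    (∀ p ∈ [(rt 14, (2 : ℤ)), (rt 22, -1), (rt 23, 1)],
      (∑ k : Fin chevD4.rank, (chevD4.coroot.getD (p.1 : Root chevD4) #[]).getD k 0 *
          chevD4.cartan k (setupD4.spR oB : Root chevD4)) = p.2) := by
  decide +kernel

theorem hMat_neg_one {F : Type*} [Field F] : (hMat (-1 : Fˣ) : SL(2, F)) = -1 := by
  apply Subtype.ext; apply Matrix.ext; intro i j
  fin_cases i <;> fin_cases j <;> simp [hMat_val]

namespace FieldTwist

variable {K : Type*} [Field K] (Φ : FieldTwist setupD4 K)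

theorem hC_mul (r : Root chevD4) (a b : Kˣ) :
    (hC r (a * b) : Fin chevD4.rank → Kˣ) = hC r a * hC r b :=
  funext fun _ => mul_zpow a b _

variable [Finite K] {q : ℕ}

/-- The central involution of the short rank one subgroup as a torus element. -/
theorem flip_elements : ∃ z : Fin chevD4.rank → Kˣ, torC chevD4 z = Φ.φA (-1) ∧
    hC (rt 14) (-1) * hC (rt 22) (-1) = z ∧ hC (rt 23) (-1) = z := by
  obtain ⟨h22, h23, h14, -⟩ := pairing_long_D4
  obtain ⟨z, hz, ez, za, zb⟩ := Φ.exists_φA_hMat (-1)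
  have h1 : Φ.fU (-1) = -1 := Units.ext (by simp [fU])
  have hb := pairing_b_D4
  have b14 := hb (rt 14, 2) (by simp)
  have b22 := hb (rt 22, -1) (by simp)
  have b23 := hb (rt 23, 1) (by simp)
  simp only at b14 b22 b23
  have za' : ChevSimple.chi z (setupD4.spR oA) = 1 := by rw [za, neg_one_sq]
  have zb' : ChevSimple.chi z (setupD4.spR oB) = -1 := by
    rw [zb, h1, h1]; simp
  obtain ⟨-, a14, -, a22, -, a23⟩ := chi_long_sq (K := K) (-1)
  refine ⟨z, by rw [← ez, hMat_neg_one], ?_, ?_⟩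
  · refine Φ.fixC_ext_sq (mul_mem (Φ.hC_fixed h14 h1) (Φ.hC_fixed h22 h1)) hz ?_ ?_
    · rw [za', chi_mul', a14, a22, inv_neg, inv_one, neg_mul_neg, one_mul]
    · rw [zb', chi_mul', chi_hC, chi_hC, b14, b22, zpow_neg, zpow_one, zpow_two, neg_mul_neg,
        one_mul, one_mul, inv_neg, inv_one]
  · refine Φ.fixC_ext_sq (Φ.hC_fixed h23 h1) hz ?_ ?_
    · rw [za', a23]
    · rw [zb', chi_hC, b23, zpow_one]

/-- Every non-identity element has two conjugates in the big cell with Levi parts `±A`. -/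
theorem exists_inCell_pm (hf : ∀ x, Φ.f x = x ^ q) (hs : IsSimpleGroup ↥Φ.tG)
    {g : GL chevD4.Idx K} (hg : g ∈ Φ.tG) (hg1 : g ≠ 1) :
    ∃ A : SL(2, K), Φ.InCell g (Φ.φA A) ∧ Φ.InCell g (Φ.φA (-A)) := by
  obtain ⟨z, ez, z1, z2⟩ := Φ.flip_elements
  obtain ⟨C, hCor, k, hk, l0, hl0, u, hu, ek⟩ := Φ.exists_normalForm hs hg hg1
  have hl : ∀ l, Φ.InCell (C * l0 * u) l → Φ.InCell g l := by
    rintro l ⟨k', hk', v, hv, u', hu', e⟩
    refine ⟨k' * k, mul_mem hk' hk, v, hv, u', hu', ?_⟩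
    rw [← e, ← ek]; group
  have hneg : ∀ A : SL(2, K), torC chevD4 z * Φ.φA A = Φ.φA (-A) := fun A => by
    rw [ez, ← map_mul, neg_one_mul]
  obtain ⟨_, ⟨ch, hch, rfl⟩, A0, rfl⟩ := hl0
  have hch' : torHom chevD4 K ch = torC chevD4 ch := rfl
  have hl0 : torHom chevD4 K ch * Φ.φA A0 ∈ Φ.LA :=
    Φ.LA.mul_mem (Φ.H₀_le_LA ⟨ch, hch, rfl⟩) (Φ.φA_mem_LA A0)
  set δ0 := (ChevSimple.chi ch topD4)⁻¹ with hδ0
  have hδf : Φ.fU δ0 = δ0 := by
    rw [hδ0, show Φ.fU (ChevSimple.chi ch topD4)⁻¹ =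
      (Φ.fU (ChevSimple.chi ch topD4))⁻¹ from map_inv _ _, Φ.fU_fixed_top hch]
  obtain ⟨h22, h23, h14, -⟩ := pairing_long_D4
  have hfix' : ∀ (n : Root chevD4) (a : (Φ.admField (setupD4.spR oB))ˣ), setupD4.σR n = n →
      hC n (Φ.bUnit a) ∈ Φ.fixC := fun n a hn => Φ.hC_fixed hn (Φ.fUb a)
  have hb1 : Φ.bUnit 1 = 1 := Units.ext rfl
  have hsign : ∀ a : Kˣ, (-1 : Kˣ) * -a = a := fun a => by rw [neg_mul_neg, one_mul]
  have h0 : Φ.oX (setupD4.spR oA) (-(0 : K)) = 1 := by rw [neg_zero, oX_zero]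
  rcases hCor with rfl | rfl
  · -- the first double coset
    obtain ⟨b', hb'⟩ := Φ.exists_bUnit hδf
    set e1 := hC (rt 14) (Φ.bUnit (-b')) * ch with he1
    have he1f : e1 ∈ Φ.fixC := mul_mem (hfix' _ _ h14) hch
    obtain ⟨e', he'f, he'⟩ := Φ.conj_H₀ (Φ.monBy_nO oA) (Φ.nO_mem_fix oA) ⟨e1, he1f, rfl⟩
    have he'' : Φ.nO oA * torC chevD4 e1 * (Φ.nO oA)⁻¹ = torC chevD4 e' := he'.symm
    have htop' : ChevSimple.chi e' topD4 = ChevSimple.chi e1 topD4 := by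
      have := chi_conj (Φ.monBy_nO oA) he'' topD4
      rwa [show setupD4.wR oA topD4 = topD4 by decide +kernel] at this
    set e := hC (rt 14) (Φ.bUnit (-(1 : (Φ.admField (setupD4.spR oB))ˣ))) * e' with he
    obtain ⟨s, hes, -⟩ := Φ.exists_hMat_of_chi_top hf (mul_mem (hfix' _ _ h14) he'f : e ∈ Φ.fixC) (by
      rw [chi_mul', (chi_long_sq _).1, htop', he1, chi_mul', (chi_long_sq _).1, bUnit_neg, bUnit_neg,
        ← mul_assoc, neg_mul_neg, hb1, one_mul, hb', hδ0, inv_mul_cancel])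
    have hL : Φ.φB (hMat (-1)) * Φ.nO oA * Φ.φB (hMat (-b')) *
        (torHom chevD4 K ch * Φ.φA A0) = Φ.φA (hMat s * (wMat K * A0)) := by
      rw [map_mul, map_mul, ← hes, φA_wMat, torC_mul, ← he'', he1, torC_mul, φB_hMat, φB_hMat,
        hch']
      group
    refine ⟨hMat s * (wMat K * A0), hl _ ?_, hl _ ?_⟩
    · have := Φ.inCell_one hl0 hu 1 b' 0
      rwa [h0, mul_one, hL] at this
    · have := Φ.inCell_one hl0 hu (-1) (-b') 0
      rw [h0, mul_one] at this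
      rw [← hneg, ← hL, ← z1, torC_mul]
      convert this using 1
      have e4 : Φ.nO oA * torC chevD4 (hC (rt 14) (-1 : Kˣ)) =
          torC chevD4 (hC (rt 22) (-1 : Kˣ)) * Φ.nO oA := by
        rw [← mul_inv_eq_iff_eq_mul, torC_hC, torC_hC,
          conj_hT (τ := setupD4) (Φ.monBy_nO oA), cases_D4.2.2.2.1]
      have hc : Commute (torC chevD4 (hC (rt 22) (-1 : Kˣ)))
          (torC chevD4 (hC (rt 14) (Φ.bUnit (-1)))) :=
        Φ.commute_H₀ ⟨_, Φ.hC_fixed h22 (Units.ext (by simp [fU])), rfl⟩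
          ⟨_, hfix' _ _ h14, rfl⟩
      have f1 : Φ.bUnit (- -1) = -1 * Φ.bUnit (-1) := by rw [bUnit_neg (a := -1), bUnit_neg, hb1]; simp
      have f2 : Φ.bUnit (- -b') = -1 * Φ.bUnit (-b') := by
        rw [bUnit_neg (a := -b'), bUnit_neg, hsign, neg_neg]
      rw [φB_hMat, φB_hMat, φB_hMat, φB_hMat, f1, f2, hC_mul, hC_mul, torC_mul, torC_mul]
      simp only [← mul_assoc]
      rw [mul_assoc (torC chevD4 _ * torC chevD4 _) (Φ.nO oA) (torC chevD4 (hC (rt 14) (-1 : Kˣ))), e4]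
      simp only [← mul_assoc]
      rw [mul_assoc (torC chevD4 (hC (rt 14) (-1 : Kˣ))) (torC chevD4 (hC (rt 14) (Φ.bUnit (-1))))
        (torC chevD4 (hC (rt 22) (-1 : Kˣ))), ← hc.eq]
      simp only [← mul_assoc]
  · -- the second double coset
    obtain ⟨D, hD⟩ := Φ.exists_bUnit hδf
    set e := hC (rt 22) (Φ.bUnit D) * hC (rt 23) (Φ.bUnit (-(1 : (Φ.admField (setupD4.spR oB))ˣ))) *
      ch with he
    obtain ⟨s, hes, -⟩ := Φ.exists_hMat_of_chi_top hf
      (mul_mem (mul_mem (hfix' _ _ h22) (hfix' _ _ h23)) hch : e ∈ Φ.fixC) (by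
      obtain ⟨-, -, a1, -, -, -⟩ := chi_long_sq (Φ.bUnit D)
      obtain ⟨-, -, -, -, a2, -⟩ := chi_long_sq (Φ.bUnit (-(1 : (Φ.admField (setupD4.spR oB))ˣ)))
      rw [chi_mul', chi_mul', a1, a2, bUnit_neg, hb1, neg_one_sq, mul_one, hD, hδ0,
        inv_mul_cancel])
    have hX0 : Φ.oX (setupD4.spR oA) (0 : K) = 1 := oX_zero Φ _
    have hL : Φ.φ4 (hMat D) * Φ.φ5 (hMat (-1)) * (torHom chevD4 K ch * Φ.φA A0) =
        Φ.φA (hMat s * A0) := by
      rw [map_mul, ← hes, torC_mul, torC_mul, φ4_hMat, φ5_hMat, hch']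
      group
    refine ⟨hMat s * A0, hl _ ?_, hl _ ?_⟩
    · have := Φ.inCell_top hl0 hu D 1 0
      rwa [h0, hX0, mul_one, mul_one, hL] at this
    · have := Φ.inCell_top hl0 hu D (-1) 0
      rw [h0, hX0, mul_one, mul_one] at this
      rw [← hneg, ← hL, ← z2]
      convert this using 1
      have hc : Commute (torC chevD4 (hC (rt 23) (-1 : Kˣ)))
          (torC chevD4 (hC (rt 22) (Φ.bUnit D))) :=
        Φ.commute_H₀ ⟨_, Φ.hC_fixed h23 (Units.ext (by simp [fU])), rfl⟩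
          ⟨_, hfix' _ _ h22, rfl⟩
      have f1 : Φ.bUnit (- -1) = -1 * Φ.bUnit (-1) := by rw [bUnit_neg (a := -1), bUnit_neg, hb1]; simp
      rw [φ4_hMat, φ5_hMat, φ5_hMat, f1, hC_mul, torC_mul]
      simp only [← mul_assoc, hc.eq]

end FieldTwist

end CfsgLib.GraphTwist
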