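import Cfsg.Agent.SchurBN.TwistWeights
import Cfsg.Agent.SchurBN.TwistSect
import Cfsg.Agent.GraphTwist.Perfect

/-!
# The short Levi subgroup of `³D₄(q)` and the parabolic it defines
-/

set_option autoImplicit false
set_option linter.style.haveILetI false
set_option linter.unusedSectionVars false
set_option maxRecDepth 8000

namespace CfsgLib.GraphTwist

open Cfsg.Lie CfsgLib.Chevalley CfsgLib.SchurBN
open CfsgLib.Chevalley.RankOneRel (uMat vMat wMat uMat_val vMat_val wMat_val)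
open scoped MatrixGroups

/-- The short fundamental orbit. -/
abbrev oA : Fin setupD4.cfg.m := (0 : Fin 2)

/-- The long fundamental root. -/
abbrev oB : Fin setupD4.cfg.m := (1 : Fin 2)

/-- The highest root. -/
def topD4 : Root chevD4 := setupD4.rep ⟨5, by decide⟩

theorem nodes_D4 : setupD4.σR (setupD4.spR oA) ≠ setupD4.spR oA ∧
    setupD4.σR (setupD4.spR oB) = setupD4.spR oB ∧ setupD4.σR topD4 = topD4 ∧
    (∀ j < 3, topD4 ≠ (setupD4.σR ^ j) (setupD4.spR oA) ∧
      topD4 ≠ ((setupD4.σR ^ j) (setupD4.spR oA)).rev ∧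
      chevD4.commTerms ((setupD4.σR ^ j) (setupD4.spR oA) : Root chevD4) topD4 = [] ∧
      chevD4.commTerms ((setupD4.σR ^ j) (setupD4.spR oA).rev : Root chevD4) topD4 = []) := by
  decide +kernel

theorem weyl_D4 : (∀ r : Root chevD4,
    ((setupD4.wR oA * setupD4.wR oB) ^ 3) r = r.rev) ∧
    (∀ r : Root chevD4, half chevD4 ≤ (r : ℕ) → 1 ≤ setupD4.cfg.orbPos r →
      half chevD4 ≤ (setupD4.wR oA r : ℕ) ∧ 1 ≤ setupD4.cfg.orbPos (setupD4.wR oA r : Root chevD4)) := by
  decide +kernel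

namespace FieldTwist

variable {K : Type*} [Field K] (Φ : FieldTwist setupD4 K)

/-- A field is the field of parameters of the short orbit. -/
def topA : K →+* Φ.admField (setupD4.spR oA) where
  toFun x := ⟨x, fun h => absurd h nodes_D4.1⟩
  map_one' := rfl
  map_mul' _ _ := rfl
  map_zero' := rfl
  map_add' _ _ := rfl

/-- The short rank one homomorphism. -/
noncomputable def φA : SL(2, K) →* GL chevD4.Idx K :=
  (Φ.rankHom oA).comp (Matrix.SpecialLinearGroup.map Φ.topA)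

theorem map_topA_uMat (t : K) :
    Matrix.SpecialLinearGroup.map Φ.topA (uMat K t) = uMat _ (Φ.topA t) := Subtype.ext (by
  apply Matrix.ext; intro i j; fin_cases i <;> fin_cases j <;> simp [uMat_val])

theorem φA_uMat (t : K) : Φ.φA (uMat K t) = Φ.oX (setupD4.spR oA) t := by
  rw [φA, MonoidHom.comp_apply, map_topA_uMat, rankHom_uMat]
  rfl

theorem φA_vMat (t : K) : Φ.φA (vMat K t) = Φ.oX (setupD4.spR oA).rev t := by
  rw [φA, MonoidHom.comp_apply, show Matrix.SpecialLinearGroup.map Φ.topA (vMat K t) =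
    vMat _ (Φ.topA t) from Subtype.ext (by
      apply Matrix.ext; intro i j; fin_cases i <;> fin_cases j <;> simp [vMat_val]), rankHom_vMat]
  rfl

theorem φA_wMat : Φ.φA (wMat K) = Φ.nO oA := by
  rw [φA, MonoidHom.comp_apply, show Matrix.SpecialLinearGroup.map Φ.topA (wMat K) = wMat _ from
    Subtype.ext (by
      apply Matrix.ext; intro i j; fin_cases i <;> fin_cases j <;> simp [wMat_val]), rankHom_wMat]

theorem φA_hMat (s : Kˣ) : Φ.φA (hMat s) = Φ.oH (setupD4.spR oA) s := by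
  rw [φA, MonoidHom.comp_apply, show Matrix.SpecialLinearGroup.map Φ.topA (hMat s) =
    hMat (Units.map Φ.topA.toMonoidHom s) from Subtype.ext (by
      apply Matrix.ext; intro i j; fin_cases i <;> fin_cases j <;> simp [hMat_val]), rankHom_hMat]
  congr 1

theorem φA_mem_tG (g : SL(2, K)) : Φ.φA g ∈ Φ.tG := by
  have : Φ.tG.comap Φ.φA = ⊤ := sl2_top_of_mem
    (fun t => Subgroup.mem_comap.2 (by rw [φA_uMat]; exact Φ.oX_mem_tG oA fun h => absurd h nodes_D4.1))
    (fun t => Subgroup.mem_comap.2 (by rw [φA_vMat]; exact Φ.oY_mem_tG oA fun h => absurd h nodes_D4.1))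
  exact (this ▸ Subgroup.mem_top g : g ∈ Φ.tG.comap Φ.φA)

/-- `g` acts by the scalar `d` on the highest root group. -/
def Delta (g : GL chevD4.Idx K) (d : K) : Prop :=
  ∀ t : K, g * X setupD4.good.good topD4 t * g⁻¹ = X setupD4.good.good topD4 (d * t)

theorem Delta.mul {g g' : GL chevD4.Idx K} {d d' : K} (h : Delta g d) (h' : Delta g' d') :
    Delta (g * g') (d * d') := fun t => by
  rw [show g * g' * X setupD4.good.good topD4 t * (g * g')⁻¹ =
    g * (g' * X setupD4.good.good topD4 t * g'⁻¹) * g⁻¹ by group, h', h, mul_assoc]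

theorem Delta.unique {g : GL chevD4.Idx K} {d d' : K} (h : Delta g d) (h' : Delta g d') :
    d = d' := by
  have := X_injective setupD4.good.good _ ((h 1).symm.trans (h' 1))
  rwa [mul_one, mul_one] at this

theorem Delta.conj {g k : GL chevD4.Idx K} {d : K} (h : Delta g d) (hk : Delta k 1) :
    Delta (k * g * k⁻¹) d := fun t => by
  have hk' : ∀ u : K, k⁻¹ * X setupD4.good.good topD4 u * k = X setupD4.good.good topD4 u := by
    intro u
    have := hk u
    rw [one_mul] at this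
    conv_lhs => rw [← this]
    group
  rw [show k * g * k⁻¹ * X setupD4.good.good topD4 t * (k * g * k⁻¹)⁻¹ =
    k * (g * (k⁻¹ * X setupD4.good.good topD4 t * k) * g⁻¹) * k⁻¹ by group, hk', h]
  have := hk (d * t)
  rwa [one_mul] at this

theorem delta_torC (c : Fin chevD4.rank → Kˣ) :
    Delta (torC chevD4 c) (ChevSimple.chi c topD4 : K) := fun t =>
  ChevSimple.torC_conj_X setupD4.good.good c topD4 t

theorem delta_φA (g : SL(2, K)) : Delta (Φ.φA g) 1 := by
  intro t
  let C : Subgroup (GL chevD4.Idx K) := Subgroup.centralizer {X setupD4.good.good topD4 t}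
  have hmem : ∀ (r : Root chevD4) (u : K), setupD4.osize r = 3 →
      (∀ j < 3, topD4 ≠ ((setupD4.σR ^ j) r).rev ∧ topD4 ≠ (setupD4.σR ^ j) r ∧
        chevD4.commTerms ((setupD4.σR ^ j) r : Root chevD4) topD4 = []) → Φ.oX r u ∈ C := by
    intro r u hr h
    rw [Subgroup.mem_centralizer_singleton_iff]
    show Commute _ _
    rw [oX, hr]
    refine Commute.list_prod_left _ _ fun z hz => ?_
    obtain ⟨j, hj, rfl⟩ := List.mem_map.1 hz
    obtain ⟨h1, h2, h3⟩ := h j (List.mem_range.1 hj)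
    rw [Ψ_pow_X]
    have := X_comm setupD4.good.toGoodComm _ topD4 h2 h1 (Φ.tw j r u) t
    rw [commRhs, h3] at this
    simpa [wordGL, Commute, SemiconjBy] using this.symm
  have hA3 : setupD4.osize (setupD4.spR oA) = 3 := by decide +kernel
  have hA3' : setupD4.osize (setupD4.spR oA).rev = 3 := by decide +kernel
  have : C.comap Φ.φA = ⊤ := sl2_top_of_mem
    (fun s => Subgroup.mem_comap.2 (by
      rw [φA_uMat]
      exact hmem _ s hA3 fun j hj => ⟨(nodes_D4.2.2.2 j hj).2.1, (nodes_D4.2.2.2 j hj).1,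
        (nodes_D4.2.2.2 j hj).2.2.1⟩))
    (fun s => Subgroup.mem_comap.2 (by
      rw [φA_vMat]
      refine hmem _ s hA3' fun j hj => ⟨?_, ?_, (nodes_D4.2.2.2 j hj).2.2.2⟩
      · rw [setupD4.σR_pow_rev, Fin.rev_rev]; exact (nodes_D4.2.2.2 j hj).1
      · rw [setupD4.σR_pow_rev]; exact (nodes_D4.2.2.2 j hj).2.1))
  have hg : Φ.φA g ∈ C := (this ▸ Subgroup.mem_top g : g ∈ C.comap Φ.φA)
  rw [one_mul, Subgroup.mem_centralizer_singleton_iff.1 hg, mul_inv_cancel_right]

/-- Torus weights on the two fundamental roots determine a fixed torus element. -/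
theorem fixC_ext_sq [Finite K] {c d : Fin chevD4.rank → Kˣ} (hc : c ∈ Φ.fixC) (hd : d ∈ Φ.fixC)
    (hA : ChevSimple.chi c (setupD4.spR oA) = ChevSimple.chi d (setupD4.spR oA))
    (hB : ChevSimple.chi c (setupD4.spR oB) = ChevSimple.chi d (setupD4.spR oB)) : c = d := by
  have hmul : ∀ (a b : Fin chevD4.rank → Kˣ) r,
      ChevSimple.chi (a * b) r = ChevSimple.chi a r * ChevSimple.chi b r := fun a b r => by
    simp only [ChevSimple.chi, Pi.mul_apply, mul_zpow, Finset.prod_mul_distrib]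
  have hinv : ∀ r, ChevSimple.chi d⁻¹ r = (ChevSimple.chi d r)⁻¹ := fun r => by
    simp only [ChevSimple.chi, Pi.inv_apply, inv_zpow, Finset.prod_inv_distrib]
  have hcd : c * d⁻¹ ∈ Φ.fixC := mul_mem hc (inv_mem hd)
  have e0 : ChevSimple.chi (c * d⁻¹) (setupD4.spR oA) = 1 := by rw [hmul, hinv, hA, mul_inv_cancel]
  have e1 : ChevSimple.chi (c * d⁻¹) (setupD4.spR oB) = 1 := by rw [hmul, hinv, hB, mul_inv_cancel]
  have h1 : ∀ i, ChevSimple.chi (c * d⁻¹) (pRoot setupD4.good i) = 1 := by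
    have hp : ∀ i : Fin chevD4.rank, pRoot setupD4.good i = setupD4.spR oA ∨
        pRoot setupD4.good i = setupD4.σR (setupD4.spR oA) ∨
        pRoot setupD4.good i = setupD4.σR (setupD4.σR (setupD4.spR oA)) ∨
        pRoot setupD4.good i = setupD4.spR oB := by decide +kernel
    intro i
    rcases hp i with e | e | e | e <;> rw [e]
    · exact e0
    · rw [Φ.chi_σR hcd, e0]; exact map_one _
    · rw [Φ.chi_σR hcd, Φ.chi_σR hcd, e0, show Φ.fU 1 = 1 from map_one _]; exact map_one _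
    · exact e1
  haveI := (Nat.card_eq_one_iff_unique.1 (kerD4_card Φ)).1
  have h2 : (⟨c * d⁻¹, hcd, h1⟩ : {c : Fin chevD4.rank → Kˣ //
      c ∈ Φ.fixC ∧ ∀ i, ChevSimple.chi c (pRoot setupD4.good i) = 1}) =
      ⟨1, one_mem _, fun i => by simp [ChevSimple.chi]⟩ := Subsingleton.elim _ _
  exact mul_inv_eq_one.1 (congrArg Subtype.val h2)

theorem chi_hC (r s : Root chevD4) (a : Kˣ) :
    ChevSimple.chi (hC r a) s =
      a ^ (∑ k : Fin chevD4.rank, (chevD4.coroot.getD r #[]).getD k 0 * chevD4.cartan k s) := by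
  simp only [ChevSimple.chi, hC, ← zpow_mul]
  exact (map_sum (zmultiplesHom (Additive Kˣ) (Additive.ofMul a))
    (fun k : Fin chevD4.rank => (chevD4.coroot.getD r #[]).getD k 0 * chevD4.cartan k s)
    Finset.univ).symm

theorem pairing_D4 :
    (∀ j < 3, (∑ k : Fin chevD4.rank, (chevD4.coroot.getD
        ((setupD4.σR ^ j) (setupD4.spR oA) : Root chevD4) #[]).getD k 0 *
          chevD4.cartan k (setupD4.spR oA : Root chevD4)) = if j = 0 then 2 else 0) ∧
    (∀ j < 3, (∑ k : Fin chevD4.rank, (chevD4.coroot.getD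
        ((setupD4.σR ^ j) (setupD4.spR oA) : Root chevD4) #[]).getD k 0 *
          chevD4.cartan k (setupD4.spR oB : Root chevD4)) = -1) ∧
    (∑ k : Fin chevD4.rank, (chevD4.coroot.getD (setupD4.spR oB : Root chevD4) #[]).getD k 0 *
          chevD4.cartan k (setupD4.spR oA : Root chevD4)) = -1 ∧
    (∑ k : Fin chevD4.rank, (chevD4.coroot.getD (setupD4.spR oB : Root chevD4) #[]).getD k 0 *
          chevD4.cartan k (setupD4.spR oB : Root chevD4)) = 2 := by
  decide +kernel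

/-- The torus element of a short coroot, with its weights. -/
theorem exists_φA_hMat (s : Kˣ) : ∃ c ∈ Φ.fixC, Φ.φA (hMat s) = torC chevD4 c ∧
    ChevSimple.chi c (setupD4.spR oA) = s ^ 2 ∧
    ChevSimple.chi c (setupD4.spR oB) = (s * Φ.fU s * Φ.fU (Φ.fU s))⁻¹ := by
  let r := setupD4.spR oA
  have h3 : setupD4.osize r = 3 := by decide +kernel
  have hΨ : ∀ j : ℕ, (Φ.Ψ ^ j) (hT K r s) = hT K ((setupD4.σR ^ j) r) (Φ.fU^[j] s) := by
    intro j
    induction j with
    | zero => rfl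
    | succ j ih =>
      rw [pow_succ', MulAut.mul_apply, ih, Ψ_hT, pow_succ', Equiv.Perm.mul_apply,
        Function.iterate_succ_apply']
  let c := hC r s * hC ((setupD4.σR ^ 1) r) (Φ.fU s) *
    hC ((setupD4.σR ^ 2) r) (Φ.fU (Φ.fU s))
  have e : Φ.φA (hMat s) = torC chevD4 c := by
    rw [φA_hMat, oH, h3]
    simp only [List.range_succ, List.range_zero, List.nil_append, List.singleton_append,
      List.cons_append, List.map_cons, List.map_nil, List.prod_cons, List.prod_nil, mul_one, hΨ]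
    show _ = torHom chevD4 K c
    simp only [c, map_mul, mul_assoc]
    show _ = torC chevD4 _ * (torC chevD4 _ * torC chevD4 _)
    rw [torC_hC, torC_hC, torC_hC]
    show (Φ.Ψ ^ 0) (hT K r s) * ((Φ.Ψ ^ 1) (hT K r s) * (Φ.Ψ ^ 2) (hT K r s)) = _
    rw [hΨ 0, hΨ 1, hΨ 2]
    rfl
  have hmul : ∀ (a b : Fin chevD4.rank → Kˣ) r,
      ChevSimple.chi (a * b) r = ChevSimple.chi a r * ChevSimple.chi b r := fun a b r => by
    simp only [ChevSimple.chi, Pi.mul_apply, mul_zpow, Finset.prod_mul_distrib]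
  obtain ⟨hp, hq, -, -⟩ := pairing_D4
  refine ⟨c, ?_, e, ?_, ?_⟩
  · have hT : ∀ (r : Root chevD4) (a : Kˣ), Φ.T (hC r a) = hC (setupD4.σR r) (Φ.fU a) := Φ.T_hC
    show Φ.T c = c
    simp only [c, map_mul, hT]
    have e3 : setupD4.σR ((setupD4.σR ^ 2) r) = r := setupD4.σR_k r
    rw [e3, show Φ.fU (Φ.fU (Φ.fU s)) = s from Units.ext (Φ.periodic (s : K)), pow_one,
      show setupD4.σR (setupD4.σR r) = (setupD4.σR ^ 2) r from rfl, mul_comm, mul_assoc]
  · simp only [c, hmul, chi_hC]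
    rw [show r = (setupD4.σR ^ 0) r from rfl, hp 0 (by norm_num)]
    rw [show (setupD4.σR ^ 1) ((setupD4.σR ^ 0) r) = (setupD4.σR ^ 1) r from rfl,
      show (setupD4.σR ^ 2) ((setupD4.σR ^ 0) r) = (setupD4.σR ^ 2) r from rfl,
      hp 1 (by norm_num), hp 2 (by norm_num)]
    simp
  · simp only [c, hmul, chi_hC]
    rw [show r = (setupD4.σR ^ 0) r from rfl, hq 0 (by norm_num)]
    rw [show (setupD4.σR ^ 1) ((setupD4.σR ^ 0) r) = (setupD4.σR ^ 1) r from rfl,
      show (setupD4.σR ^ 2) ((setupD4.σR ^ 0) r) = (setupD4.σR ^ 2) r from rfl,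
      hq 1 (by norm_num), hq 2 (by norm_num)]
    simp [mul_inv, mul_comm, mul_left_comm]

/-- The weight on the highest root of a torus element with given weights. -/
theorem chi_top {c : Fin chevD4.rank → Kˣ} (hc : c ∈ Φ.fixC) (X Y : Kˣ)
    (hX : ChevSimple.chi c (setupD4.spR oA) = X) (hY : ChevSimple.chi c (setupD4.spR oB) = Y) :
    ChevSimple.chi c topD4 = X * Φ.fU X * Φ.fU (Φ.fU X) * Y ^ 2 := by
  rw [topD4, chi_rep Φ hc _ X Y hX hY]
  simp only [repCoef]
  show X ^ (1 : ℤ) * Y ^ (2 : ℤ) * Φ.fU X ^ (1 : ℤ) * Φ.fU (Φ.fU X) ^ (1 : ℤ) = _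
  rw [zpow_one, zpow_one, zpow_one, zpow_two, sq]
  ac_rfl

/-- A fixed torus element centralising the highest root group is a short coroot element. -/
theorem exists_hMat_of_chi_top [Finite K] {q : ℕ} (hf : ∀ x, Φ.f x = x ^ q)
    {c : Fin chevD4.rank → Kˣ} (hc : c ∈ Φ.fixC) (h : ChevSimple.chi c topD4 = 1) :
    ∃ s : Kˣ, torC chevD4 c = Φ.φA (hMat s) ∧ ChevSimple.chi c (setupD4.spR oA) = s ^ 2 := by
  classical
  set X := ChevSimple.chi c (setupD4.spR oA) with hX
  set Y := ChevSimple.chi c (setupD4.spR oB) with hY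
  rw [Φ.chi_top hc X Y hX.symm hY.symm] at h
  have hfU : ∀ a : Kˣ, Φ.fU a = a ^ q := fun a => Units.ext (by
    rw [coe_fU, hf, Units.val_pow_eq_pow_val])
  have hfix : Φ.fU Y = Y :=
    Φ.admU_iff.2 (Φ.chi_adm hc (setupD4.spR oB)) nodes_D4.2.1
  obtain ⟨s, hs⟩ : ∃ s : Kˣ, s ^ 2 = X := by
    rcases Nat.even_or_odd q with hq | ⟨r, hr⟩
    · letI := Fintype.ofFinite K
      by_cases h2 : ringChar K = 2
      · obtain ⟨y, hy⟩ := FiniteField.isSquare_of_char_two h2 (X : K)
        have hy0 : y ≠ 0 := fun e => X.ne_zero (by rw [hy, e, mul_zero])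
        exact ⟨Units.mk0 y hy0, Units.ext (by rw [Units.val_pow_eq_pow_val, Units.val_mk0, sq, hy])⟩
      · exfalso
        have h1 : (-1 : K) ^ q = -1 := by rw [← hf, map_neg, map_one]
        rw [hq.neg_one_pow] at h1
        exact Ring.neg_one_ne_one_of_char_ne_two h2 h1.symm
    · refine ⟨Y⁻¹ * (Φ.fU (X ^ (r + 1)))⁻¹, ?_⟩
      have e : Φ.fU (X ^ (r + 1)) ^ 2 = Φ.fU X * Φ.fU (Φ.fU X) := by
        rw [hfU, hfU X, hfU (X ^ q), ← pow_mul, ← pow_mul, ← pow_mul, ← pow_add]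
        congr 1
        rw [hr]; ring
      rw [mul_pow, inv_pow, inv_pow, e, ← mul_inv, inv_eq_iff_mul_eq_one]
      rw [← h]
      ac_rfl
  set N := s * Φ.fU s * Φ.fU (Φ.fU s) with hN
  have hsq : (Y * N) ^ 2 = 1 := by
    rw [← h, ← hs, hN]
    simp only [Φ.fU_mul, sq]
    ac_rfl
  have key : ∀ t : Kˣ, t ^ 2 = X → Y * (t * Φ.fU t * Φ.fU (Φ.fU t)) = 1 →
      torC chevD4 c = Φ.φA (hMat t) := fun t ht hY1 => by
    obtain ⟨d, hd, e, dA, dB⟩ := Φ.exists_φA_hMat t
    rw [e, Φ.fixC_ext_sq hc hd (by rw [dA, ht]) (by rw [dB, ← hY]; exact eq_inv_of_mul_eq_one_left hY1)]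
  rcases sq_eq_one_iff.1 (congrArg Units.val hsq) with h1 | h1
  · exact ⟨s, key s hs (Units.ext h1), hs.symm⟩
  · refine ⟨-s, key (-s) (by rw [neg_sq, hs]) ?_, by rw [neg_sq, hs]⟩
    have hneg : ∀ a : Kˣ, Φ.fU (-a) = -Φ.fU a := fun a => Units.ext (map_neg Φ.f (a : K))
    rw [hneg, hneg, neg_mul_neg, mul_neg, mul_neg, ← hN]
    refine Units.ext ?_
    rw [Units.val_neg, h1, neg_neg, Units.val_one]

end FieldTwist

end CfsgLib.GraphTwist
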