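import Cfsg.Agent.D4Square.TwoReduce

/-!
# A semisimple class covering `³D₄(2)`
-/

set_option autoImplicit false
set_option linter.style.haveILetI false
set_option linter.unusedSectionVars false
set_option maxRecDepth 8000

namespace CfsgLib.GraphTwist

open Cfsg.Lie CfsgLib.Chevalley CfsgLib.SchurBN
open CfsgLib.Chevalley.RankOneRel (uMat vMat wMat uMat_val vMat_val wMat_val)
open scoped MatrixGroups

theorem middle_top_D4 : (setupD4.wR oA * setupD4.wR oB * setupD4.wR oA) (rt 14) = rt 23 := by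
  decide +kernel

namespace FieldTwist

variable {K : Type*} [Field K] (Φ : FieldTwist setupD4 K) [Finite K]
  (hf : ∀ x, Φ.f x = x ^ 2) (h2 : (2 : K) = 0)
include hf h2

/-- Every non-identity element has a conjugate in the big cell with prescribed torus part and an
even long rank one part. -/
theorem exists_inCellB_even (hs : IsSimpleGroup ↥Φ.tG) {g : GL chevD4.Idx K} (hg : g ∈ Φ.tG)
    (hg1 : g ≠ 1) (m : Kˣ) : ∃ e, Φ.Even e ∧ Φ.InCellB g (Φ.Hs m * e) := by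
  obtain ⟨C, hC, k, hk, l0, hl0, u, hu, ek⟩ := Φ.exists_normalFormB hf h2 hs hg hg1
  have hl : ∀ l, Φ.InCellB (C * l0 * u) l → Φ.InCellB g l := by
    rintro l ⟨k', hk', v, hv, u', hu', e⟩
    refine ⟨k' * k, mul_mem hk' hk, v, hv, u', hu', ?_⟩
    rw [← e, ← ek]; group
  obtain ⟨η, A0, hA0, rfl⟩ := hl0
  have hl0' : Φ.Hs η * Φ.φB A0 ∈ Φ.LB :=
    mul_mem (Φ.Hs_mem_LB hf h2 η) (Φ.φB_mem_LB hf h2 A0)
  have hcancel : Φ.Hs (m * η⁻¹) * Φ.Hs η = Φ.Hs m := by rw [← map_mul, inv_mul_cancel_right]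
  rcases hC with rfl | rfl
  · obtain ⟨Ac, hAc⟩ := Φ.inCellB_aba hf h2 (m * η⁻¹)
    have hprod : ∀ B, Φ.Hs (m * η⁻¹) * Φ.φB Ac * (Φ.Hs η * Φ.φB B) = Φ.Hs m * Φ.φB (Ac * B) :=
      fun B => by
        rw [map_mul Φ.φB, show Φ.Hs (m * η⁻¹) * Φ.φB Ac * (Φ.Hs η * Φ.φB B) =
          Φ.Hs (m * η⁻¹) * (Φ.φB Ac * Φ.Hs η) * Φ.φB B by group, Φ.φB_comm hf h2, ← mul_assoc,
          hcancel, mul_assoc]
    rcases Φ.φB_cases hf h2 (Ac * A0) with h | h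
    · exact ⟨_, h, hl _ (by rw [← hprod]; exact hAc _ hl0' u hu)⟩
    · rw [← Φ.xb_eq hf h2, ← map_mul, mul_assoc] at h
      refine ⟨_, h, hl _ ?_⟩
      set C := Φ.nO oA * Φ.nO oB * Φ.nO oA with hCdef
      set X23 := X setupD4.good.good (rt 23) (1 : K) with hX23
      have hX : Φ.xb * C = C * X23 := by
        have hmon := (((Φ.monBy_nO oA).mul (Φ.monBy_nO oB)).mul (Φ.monBy_nO oA))
        have hCf : C ∈ Φ.fix :=
          mul_mem (mul_mem (Φ.nO_mem_fix oA) (Φ.nO_mem_fix oB)) (Φ.nO_mem_fix oA)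
        obtain ⟨-, -, h14, -⟩ := pairing_long_D4
        obtain ⟨-, h23, -, -⟩ := pairing_long_D4
        obtain ⟨e, he, he'⟩ := Φ.exists_conj_fixed hmon hCf h14 h23 middle_top_D4
        have h1 := he' 1 (map_one _)
        rw [Φ.fixed_unit hf h2 he, Units.val_one, one_mul, Φ.oX_fixedRoot h14,
          mul_inv_eq_iff_eq_mul] at h1
        have hinv : C⁻¹ = C := inv_eq_of_mul_eq_one_right (by
          rw [hCdef, show Φ.nO oA * Φ.nO oB * Φ.nO oA * (Φ.nO oA * Φ.nO oB * Φ.nO oA) =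
            Φ.nO oA * Φ.nO oB * (Φ.nO oA * Φ.nO oA) * Φ.nO oB * Φ.nO oA by group,
            Φ.nA_mul_self hf h2, mul_one, mul_assoc (Φ.nO oA), Φ.nB_mul_self hf h2, mul_one,
            Φ.nA_mul_self hf h2])
        have hx : Φ.xb = X setupD4.good.good (rt 14) (1 : K) := rfl
        rw [hx]
        calc X setupD4.good.good (rt 14) (1 : K) * C
            = C⁻¹ * (C * X setupD4.good.good (rt 14) (1 : K)) * C := by group
          _ = C⁻¹ * X23 * (C * C) := by rw [hCdef, h1]; simp only [X23]; group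
          _ = _ := by rw [show C * C = C⁻¹⁻¹ * C by rw [inv_inv], hinv, inv_mul_cancel, mul_one]
      have hX23 : X23 ∈ Φ.UB := by
        obtain ⟨-, h23, -, -⟩ := pairing_long_D4
        rw [hX23, ← Φ.oX_fixedRoot h23]
        refine Φ.oX_mem_UB (fun a ha => ?_) (Φ.adm_one _)
        rw [reps_D4.2.2.2.2.2.1, List.mem_singleton] at ha
        subst ha
        exact reps_D4.2.2.2.2.2.2.2.2.2.1
      have hxb := Φ.xb_mem_LB hf h2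
      set l0 := Φ.Hs η * Φ.φB A0 with hl0def
      set u' := Φ.xb⁻¹ * (l0⁻¹ * X23 * l0) * u * Φ.xb⁻¹⁻¹
      have hu' : u' ∈ Φ.UB := by
        have h1 := Φ.conj_UB hf h2 (inv_mem hl0') hX23
        rw [inv_inv] at h1
        have := Φ.conj_UB hf h2 (inv_mem hxb) (mul_mem h1 hu)
        simpa only [u', mul_assoc] using this
      have e1 : Φ.xb * (C * l0 * u) * Φ.xb⁻¹ = C * (l0 * Φ.xb) * u' := by
        rw [show Φ.xb * (C * l0 * u) * Φ.xb⁻¹ = (Φ.xb * C) * l0 * u * Φ.xb⁻¹ by group, hX]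
        simp only [u']
        have hxx : Φ.xb⁻¹ = Φ.xb := inv_eq_of_mul_eq_one_right (Φ.xb_mul_self hf h2)
        rw [inv_inv]
        calc C * X23 * l0 * u * Φ.xb⁻¹ = C * l0 * (l0⁻¹ * X23 * l0) * u * Φ.xb⁻¹ := by group
          _ = C * l0 * Φ.xb * (Φ.xb⁻¹ * (l0⁻¹ * X23 * l0) * u * Φ.xb⁻¹) := by group
          _ = _ := by rw [hxx]; group
      obtain ⟨k', hk', v, hv, w, hw, e⟩ := hAc _ (mul_mem hl0' hxb) u' hu'
      refine ⟨k' * Φ.xb, mul_mem hk' (Φ.LB_le_tG hf h2 hxb), v, hv, w, hw, ?_⟩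
      have e2 : Φ.Hs (m * η⁻¹) * Φ.φB Ac * (l0 * Φ.xb) =
          Φ.Hs m * Φ.φB (Ac * (A0 * uMat _ 1)) := by
        rw [← hprod, hl0def, map_mul Φ.φB A0, Φ.xb_eq hf h2]
        simp only [mul_assoc]
      rw [← e2, ← e, ← e1]
      group
  · obtain ⟨h1, h2'⟩ := Φ.inCellB_top hf h2 hl0' hu (m * η⁻¹)
    rcases Φ.φB_cases hf h2 A0 with h | h
    · refine ⟨_, h, hl _ ?_⟩
      rwa [← mul_assoc (Φ.Hs (m * η⁻¹)), hcancel] at h1
    · refine ⟨_, Even.flip Φ hf h2 h, hl _ ?_⟩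
      have key : ∀ V : GL chevD4.Idx K, V * Φ.Hs η = Φ.Hs η * V →
          Φ.Hs (m * η⁻¹) * V * (Φ.Hs η * Φ.φB A0) = Φ.Hs m * (V * Φ.φB A0) := fun V hV => by
        rw [← mul_assoc (Φ.Hs (m * η⁻¹) * V), mul_assoc (Φ.Hs (m * η⁻¹)) V, hV,
          ← mul_assoc (Φ.Hs (m * η⁻¹)), hcancel, mul_assoc]
      rwa [key _ (Φ.φB_comm hf h2 _ η)] at h2'

/-- A semisimple class covering `³D₄(2)`. -/
theorem exists_class_two (hs : IsSimpleGroup ↥Φ.tG) {μ : Kˣ} (hμ : μ ≠ 1) (hμ7 : μ ^ 7 = 1) :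
    ∃ x ∈ Φ.tG, x ^ 21 = 1 ∧ ∀ g ∈ Φ.tG, g ≠ 1 →
      ∃ a ∈ Φ.tG, ∃ b ∈ Φ.tG, g = (a * x * a⁻¹) * (b * x * b⁻¹) := by
  obtain ⟨hT3, hXTX, -⟩ := Φ.T3_facts hf h2
  have hxb := Φ.xb_mem_LB hf h2
  have hTH : ∀ s, Φ.T3 * Φ.Hs s = Φ.Hs s * Φ.T3 := fun s => by
    have := Φ.φB_comm hf h2 (uMat _ 1 * wMat _) s
    rwa [map_mul, Φ.xb_eq hf h2, φB, rankHom_wMat] at this
  have hXH : ∀ s, Φ.xb * Φ.Hs s = Φ.Hs s * Φ.xb := fun s =>
    Φ.xb_eq hf h2 ▸ Φ.φB_comm hf h2 (uMat _ 1) s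
  set x := Φ.Hs μ * Φ.T3 with hx
  have hxL : x ∈ Φ.LB := mul_mem (Φ.Hs_mem_LB hf h2 μ) (mul_mem hxb (Φ.nB_mem_LB hf h2))
  have hxt := Φ.LB_le_tG hf h2 hxL
  have hpow : ∀ n : ℕ, x ^ n = Φ.Hs (μ ^ n) * Φ.T3 ^ n := fun n => by
    rw [map_pow]
    exact (show Commute (Φ.Hs μ) Φ.T3 from (hTH μ).symm).mul_pow n
  have hT3p : Φ.T3 ^ 3 = 1 := by rw [pow_succ, pow_two]; exact hT3
  have h7 : x ^ 7 = Φ.T3 := by
    rw [hpow, hμ7, map_one, one_mul, show (7 : ℕ) = 3 * 2 + 1 from rfl, pow_succ, pow_mul, hT3p,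
      one_pow, one_mul]
  have h15 : x ^ 15 = Φ.Hs μ := by
    rw [hpow, show (15 : ℕ) = 7 * 2 + 1 from rfl, pow_succ μ, pow_mul μ, hμ7, one_pow, one_mul,
      show 7 * 2 + 1 = 3 * 5 from rfl, pow_mul Φ.T3, hT3p, one_pow, mul_one]
  have h21 : x ^ 21 = 1 := by
    rw [show (21 : ℕ) = 7 * 3 from rfl, pow_mul, h7, hT3p]
  refine ⟨x, hxt, h21, fun g hg hg1 => ?_⟩
  obtain ⟨e, he, hcell⟩ := Φ.exists_inCellB_even hf h2 hs hg hg1 (μ * μ)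
  -- the conjugate of `x` with inverse long part
  have hxx : Φ.xb⁻¹ = Φ.xb := inv_eq_of_mul_eq_one_right (Φ.xb_mul_self hf h2)
  have hconj : Φ.xb * x * Φ.xb⁻¹ = Φ.Hs μ * (Φ.T3 * Φ.T3) := by
    rw [hxx, hx, ← mul_assoc Φ.xb, hXH, ← hXTX]
    simp only [mul_assoc]
  have hmul : ∀ a b, Φ.T3 * a = a * Φ.T3 → Φ.Hs μ * a * (Φ.Hs μ * b) =
      Φ.Hs μ * (a * Φ.Hs μ) * b := fun a b _ => by group
  obtain ⟨P, hP, Q, hQ, hPQ⟩ : ∃ P ∈ Φ.LB, ∃ Q ∈ Φ.LB,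
      Φ.Hs (μ * μ) * e = P * x * P⁻¹ * (Q * x * Q⁻¹) := by
    have hTT : Φ.T3 * Φ.T3 * Φ.Hs μ = Φ.Hs μ * (Φ.T3 * Φ.T3) := by
      rw [mul_assoc, hTH, ← mul_assoc, hTH, mul_assoc]
    rcases he with rfl | rfl | rfl
    · refine ⟨1, one_mem _, Φ.xb, hxb, ?_⟩
      rw [hconj, hx, map_mul, inv_one, one_mul, mul_one, mul_one,
        hmul Φ.T3 _ rfl, hTH, ← mul_assoc (Φ.Hs μ) (Φ.Hs μ), mul_assoc (Φ.Hs μ * Φ.Hs μ),
        ← mul_assoc Φ.T3, hT3, mul_one]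
    · refine ⟨Φ.xb, hxb, Φ.xb, hxb, ?_⟩
      rw [hconj, map_mul, hmul _ _ (by simp only [mul_assoc]), hTT, ← mul_assoc (Φ.Hs μ) (Φ.Hs μ),
        mul_assoc (Φ.Hs μ * Φ.Hs μ)]
      congr 1
      rw [← mul_assoc, hT3, one_mul]
    · refine ⟨1, one_mem _, 1, one_mem _, ?_⟩
      rw [hx, map_mul, inv_one, one_mul, mul_one, hmul Φ.T3 _ rfl, hTH]
      simp only [mul_assoc]
  obtain ⟨k, hk, v, hv, u, hu, ek⟩ := hcell
  have hfixR : ∀ (N : Subgroup (GL chevD4.Idx K)),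
      (∀ k ∈ Φ.LB, ∀ n ∈ N, k * n * k⁻¹ ∈ N) →
      (∀ n ∈ N, Φ.Hs μ * n = n * Φ.Hs μ → Φ.T3 * n = n * Φ.T3 → n = 1) →
      ∀ R ∈ Φ.LB, (∀ n ∈ N, R * x * R⁻¹ * n * (R * x * R⁻¹)⁻¹ ∈ N) ∧
        ∀ n ∈ N, R * x * R⁻¹ * n = n * (R * x * R⁻¹) → n = 1 := by
    intro N hN hfix R hR
    refine ⟨fun n hn => hN _ (mul_mem (mul_mem hR hxL) (inv_mem hR)) n hn, fun n hn hcomm => ?_⟩
    have hc : Commute x (R⁻¹ * n * R) := by
      show x * (R⁻¹ * n * R) = R⁻¹ * n * R * x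
      rw [show x * (R⁻¹ * n * R) = R⁻¹ * (R * x * R⁻¹ * n) * R by group, hcomm]
      group
    have := hfix _ (by
      have := hN _ (inv_mem hR) n hn
      rwa [inv_inv] at this) (h15 ▸ (hc.pow_left 15).eq) (h7 ▸ (hc.pow_left 7).eq)
    calc n = R * (R⁻¹ * n * R) * R⁻¹ := by group
      _ = 1 := by rw [this]; group
  obtain ⟨n1, c1⟩ := hfixR Φ.UBm (fun k hk n hn => Φ.conj_UBm hf h2 hk hn)
    (fun n hn => Φ.fpf_UBm hf h2 hμ hn) P hP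
  obtain ⟨n2, c2⟩ := hfixR Φ.UB (fun k hk n hn => Φ.conj_UB hf h2 hk hn)
    (fun n hn => Φ.fpf_UB hf h2 hμ hn) Q hQ
  have hPt := Φ.LB_le_tG hf h2 hP
  have hQt := Φ.LB_le_tG hf h2 hQ
  obtain ⟨a, ha, b, hb, eab⟩ := Φ.twoConj_cell' (Φ.UBm_le_tG hf h2) (Φ.UB_le_tG hf h2)
    (mul_mem (mul_mem hPt hxt) (inv_mem hPt)) (mul_mem (mul_mem hQt hxt) (inv_mem hQt))
    n1 c1 n2 c2 hv hu
  refine Φ.twoConj_transfer hk ek ⟨a * P, mul_mem ha hPt, b * Q, mul_mem hb hQt, ?_⟩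
  rw [hPQ, eab]
  group

end FieldTwist

end CfsgLib.GraphTwist
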