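import Cfsg.Agent.D4Square.SmallThree
import Cfsg.Agent.D4Square.SmallTwo
import Cfsg.Agent.GraphTwist.FamilyD4
import Cfsg.Agent.SchurBN.D4Multiplier

/-!
# A semisimple class covering `³D₄(q)`
-/

set_option autoImplicit false
set_option linter.style.haveILetI false
set_option linter.unusedSectionVars false

namespace CfsgLib.GraphTwist

open Cfsg.Lie CfsgLib.Chevalley
open scoped MatrixGroups

/-- `³D₄(q)` is covered by the square of a semisimple class, apart from the identity. -/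
theorem exists_semisimple_class_square {K : Type*} [Field K] [Fintype K] (p : ℕ) [Fact p.Prime]
    [CharP K p] (q : ℕ) (hq : IsPrimePow q) (hK : Fintype.card K = q ^ 3) :
    ∃ x : twistedD4 K q, ¬ p ∣ orderOf x ∧
      ∀ g : twistedD4 K q, g ≠ 1 → ∃ u v : twistedD4 K q, g = (u * x * u⁻¹) * (v * x * v⁻¹) := by
  classical
  obtain ⟨Φ, e, hf, hfix, hK', h4⟩ := twistedD4_eq_tG hq hK
  rw [e]
  have hs := (Φ.isSimple setupD4_faithful setupD4_cert h4).1
  have hKn : Nat.card K = q ^ 3 := hK'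
  have hpq : p ∣ q := dvd_q_D4 hKn
  suffices h : ∃ x ∈ Φ.tG, ∃ n : ℕ, x ^ n = 1 ∧ ¬ p ∣ n ∧ ∀ g ∈ Φ.tG, g ≠ 1 →
      ∃ a ∈ Φ.tG, ∃ b ∈ Φ.tG, g = (a * x * a⁻¹) * (b * x * b⁻¹) by
    obtain ⟨x, hx, n, hn, hpn, hcov⟩ := h
    refine ⟨⟨x, hx⟩, fun hd => hpn (hd.trans (orderOf_dvd_of_pow_eq_one (Subtype.ext hn))),
      fun g hg => ?_⟩
    obtain ⟨a, ha, b, hb, eab⟩ := hcov g g.2 fun h => hg (Subtype.ext h)
    exact ⟨⟨a, ha⟩, ⟨b, hb⟩, Subtype.ext eab⟩
  have hp := (Fact.out : p.Prime)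
  have hq2 := hq.two_le
  rcases (show q = 2 ∨ q = 3 ∨ 4 ≤ q by omega) with rfl | rfl | hq4
  · obtain rfl : p = 2 := (Nat.prime_dvd_prime_iff_eq hp Nat.prime_two).1 hpq
    have h2 : (2 : K) = 0 := CharP.ofNat_eq_zero K 2
    have hcard : Nat.card Kˣ = 7 := by rw [Nat.card_units, hKn]; norm_num
    haveI : Nontrivial Kˣ := Finite.one_lt_card_iff_nontrivial.1 (by omega)
    obtain ⟨μ, hμ⟩ := exists_ne (1 : Kˣ)
    obtain ⟨x, hx, h21, hcov⟩ :=
      Φ.exists_class_two hf h2 hs hμ (by rw [← hcard]; exact pow_card_eq_one')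
    exact ⟨x, hx, 21, h21, by norm_num, hcov⟩
  · obtain rfl : p = 3 := (Nat.prime_dvd_prime_iff_eq hp Nat.prime_three).1 hpq
    have h3 : (3 : K) = 0 := CharP.ofNat_eq_zero K 3
    have hns : ¬ IsSquare (-1 : K) := by
      rw [FiniteField.isSquare_neg_one_iff, hK]
      norm_num
    obtain ⟨x, hx, h8, hcov⟩ := Φ.exists_class_three hf h3 hns hs
    exact ⟨x, hx, 8, h8, by norm_num, hcov⟩
  · obtain ⟨x, hx, hpow, hcov⟩ := Φ.exists_class_ge_four hf hfix hK' hq4 hs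
    refine ⟨x, hx, Nat.card K - 1, hpow, fun hd => hp.not_dvd_one ?_, hcov⟩
    have hK1 : p ∣ Nat.card K := hKn ▸ hpq.trans (dvd_pow_self q (by norm_num))
    have hpos : 1 ≤ Nat.card K := Nat.one_le_iff_ne_zero.2 Nat.card_pos.ne'
    exact (Nat.dvd_add_right hd).1 (by rw [Nat.sub_add_cancel hpos]; exact hK1)

end CfsgLib.GraphTwist
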