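import Cfsg.Agent.D4Square.Common

/-!
# A semisimple class covering `³D₄(q)`, `q ≥ 4`
-/

set_option autoImplicit false
set_option linter.style.haveILetI false
set_option linter.unusedSectionVars false
set_option maxRecDepth 8000

namespace CfsgLib.GraphTwist

open Cfsg.Lie CfsgLib.Chevalley CfsgLib.SchurBN
open CfsgLib.Chevalley.RankOneRel (uMat vMat wMat uMat_val vMat_val wMat_val)
open scoped MatrixGroups

namespace FieldTwist

variable {K : Type*} [Field K] (Φ : FieldTwist setupD4 K) [Finite K] {q : ℕ}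

theorem fUb (a : (Φ.admField (setupD4.spR oB))ˣ) : Φ.fU (Φ.bUnit a) = Φ.bUnit a := Φ.fU_fixed a

/-- A fixed unit as a unit of the long root field. -/
theorem exists_bUnit {a : Kˣ} (ha : Φ.fU a = a) :
    ∃ b : (Φ.admField (setupD4.spR oB))ˣ, Φ.bUnit b = a :=
  ⟨Units.mk0 ⟨(a : K), fun _ => congrArg Units.val ha⟩
      (fun e => a.ne_zero (congrArg Subtype.val e)), Units.ext rfl⟩

theorem bUnit_neg (a : (Φ.admField (setupD4.spR oB))ˣ) : Φ.bUnit (-a) = -Φ.bUnit a :=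
  Units.ext rfl

/-- A regular torus element with non-trivial image on the highest root group. -/
theorem exists_regular (hf : ∀ x, Φ.f x = x ^ q) (hfix : Nat.card {x : K // Φ.f x = x} = q)
    (hK : Nat.card K = q ^ setupD4.cfg.k) (hq : 4 ≤ q) :
    ∃ c ∈ Φ.fixC, (∀ i : Fin setupD4.norb, ChevSimple.chi c (setupD4.rep i) ≠ 1) ∧
      ∃ y : Kˣ, Φ.fU y = y ∧ y ^ 2 ≠ 1 ∧ Φ.fU (ChevSimple.chi (c * c) topD4) =
        ChevSimple.chi (c * c) topD4 := by
  classical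
  letI := Fintype.ofFinite K
  have hfU : ∀ a : Kˣ, Φ.fU a = a ^ q := fun a => Units.ext (by
    rw [coe_fU, hf, Units.val_pow_eq_pow_val])
  -- a fixed unit of order at least three
  obtain ⟨y, hy, hy2⟩ : ∃ y : Kˣ, Φ.fU y = y ∧ y ^ 2 ≠ 1 := by
    by_contra h
    push Not at h
    have hle : Nat.card {x : K // Φ.f x = x} ≤ 3 := by
      let S : Finset K := {0, 1, -1}
      refine le_trans (Nat.card_le_card_of_injective (β := S) (fun x => ⟨x.1, ?_⟩)
        fun a b e => Subtype.ext (congrArg (fun s : S => (s : K)) e)) ?_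
      · simp only [S, Finset.mem_insert, Finset.mem_singleton]
        by_cases hx : x.1 = 0
        · exact Or.inl hx
        · have h2 := congrArg Units.val (h (Units.mk0 x.1 hx) (Units.ext x.2))
          rw [Units.val_pow_eq_pow_val, Units.val_mk0, Units.val_one] at h2
          exact Or.inr (sq_eq_one_iff.1 h2)
      · rw [Nat.card_eq_fintype_card, Fintype.card_coe]
        exact Finset.card_le_three
    omega
  -- a unit of norm one outside the fixed field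
  have hK' : Nat.card K = q ^ 3 := hK
  obtain ⟨g, hg⟩ := IsCyclic.exists_generator (α := Kˣ)
  have hord : orderOf g = q ^ 3 - 1 := by
    rw [orderOf_eq_card_of_forall_mem_zpowers hg, Nat.card_units, hK']
  obtain ⟨r, rfl⟩ : ∃ r, q = r + 1 := ⟨q - 1, by omega⟩
  have h3 : (r + 1) ^ 3 - 1 = r * ((r + 1) ^ 2 + (r + 1) + 1) := Nat.sub_eq_of_eq_add (by ring)
  set X := g ^ r with hX
  have hXf : Φ.fU X ≠ X := by
    intro e
    rw [hfU, hX, ← pow_mul] at e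
    have e' : g ^ (r * r) = 1 := by
      rw [mul_add, mul_one, pow_add] at e
      exact mul_eq_right.1 e
    have := Nat.le_of_dvd (Nat.mul_pos (by omega) (by omega)) (orderOf_dvd_of_pow_eq_one e')
    rw [hord, h3] at this
    nlinarith
  have hN : X * Φ.fU X * Φ.fU (Φ.fU X) = 1 := by
    rw [hfU, hfU, hX, ← pow_mul, ← pow_mul, ← pow_add, ← pow_add]
    refine orderOf_dvd_iff_pow_eq_one.1 (dvd_of_eq ?_)
    rw [hord, h3]
    ring
  obtain ⟨c, hc, hw⟩ := Φ.exists_wt X y hy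
  have h1 : Φ.fU 1 = 1 := map_one _
  have hy1 : y ≠ 1 := fun e => hy2 (by rw [e, one_pow])
  have hnf : ∀ z : Kˣ, Φ.fU z = z → X ≠ z := fun z hz e => hXf (by rw [e, hz])
  have hyi : Φ.fU y⁻¹ = y⁻¹ := by rw [show Φ.fU y⁻¹ = (Φ.fU y)⁻¹ from map_inv _ y, hy]
  have hX1 : X ≠ 1 := hnf 1 h1
  have hff : Φ.fU (Φ.fU X) ≠ 1 := fun e => hX1 (by rw [← Φ.fU3 X, e, h1])
  have h2 : y * Φ.fU (Φ.fU X) ≠ 1 := fun e => hnf y⁻¹ hyi (by
    have := congrArg Φ.fU e
    rw [Φ.fU_mul, hy, Φ.fU3, h1] at this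
    exact eq_inv_of_mul_eq_one_right this)
  have h3' : y * Φ.fU X * Φ.fU (Φ.fU X) ≠ 1 := fun e => hnf y hy (by
    calc X = X * (y * Φ.fU X * Φ.fU (Φ.fU X)) := by rw [e, mul_one]
      _ = y * (X * Φ.fU X * Φ.fU (Φ.fU X)) := by ac_rfl
      _ = y := by rw [hN, mul_one])
  have hN' : Φ.fU (Φ.fU X) * (Φ.fU X * X) = 1 := by rw [← hN]; ac_rfl
  refine ⟨c, hc, fun i => ?_, y, hy, hy2, ?_⟩
  · have h4 : X * y * Φ.fU X * Φ.fU (Φ.fU X) ≠ 1 := fun e => hy1 (by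
      rw [← e, show X * y * Φ.fU X * Φ.fU (Φ.fU X) =
        X * Φ.fU X * Φ.fU (Φ.fU X) * y by ac_rfl, hN, one_mul])
    have h5 : X * y ^ 2 * Φ.fU X * Φ.fU (Φ.fU X) ≠ 1 := fun e => hy2 (by
      rw [← e, show X * y ^ 2 * Φ.fU X * Φ.fU (Φ.fU X) =
        X * Φ.fU X * Φ.fU (Φ.fU X) * y ^ 2 by ac_rfl, hN, one_mul])
    rw [hw]
    fin_cases i <;> simp [repCoef, hff, hy1, h2, h3', h4, h5]
  · rw [Φ.fU_fixed_top (mul_mem hc hc)]

/-- A big cell element whose Levi part has the weight of `x²` on the highest root. -/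
theorem twoConj_of_inCell (hf : ∀ x, Φ.f x = x ^ q) {c : Fin chevD4.rank → Kˣ} (hc : c ∈ Φ.fixC)
    (hreg : ∀ i : Fin setupD4.norb, ChevSimple.chi c (setupD4.rep i) ≠ 1)
    {e : Fin chevD4.rank → Kˣ} (he : e ∈ Φ.fixC)
    (htop : ChevSimple.chi e topD4 = ChevSimple.chi (c * c) topD4) {A : SL(2, K)}
    (hA : A.1 0 1 ≠ 0 ∨ A.1 1 0 ≠ 0 ∨
      (ChevSimple.chi e (setupD4.spR oA) : K) * A.1 0 0 ≠ A.1 1 1)
    {g : GL chevD4.Idx K} (hg : Φ.InCell g (torC chevD4 e * Φ.φA A)) :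
    ∃ a ∈ Φ.tG, ∃ b ∈ Φ.tG,
      g = (a * torC chevD4 c * a⁻¹) * (b * torC chevD4 c * b⁻¹) := by
  set x := torC chevD4 c with hx
  have hxH : x ∈ Φ.H₀ := ⟨c, hc, rfl⟩
  have hcc : c * c ∈ Φ.fixC := mul_mem hc hc
  have hxx : torC chevD4 (c * c) = x * x := torC_mul c c
  have hinv : ∀ (a : Fin chevD4.rank → Kˣ) r,
      ChevSimple.chi a⁻¹ r = (ChevSimple.chi a r)⁻¹ := fun a r => by
    simp only [ChevSimple.chi, Pi.inv_apply, inv_zpow, Finset.prod_inv_distrib]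
  obtain ⟨s, hs, hsA⟩ := Φ.exists_hMat_of_chi_top hf (mul_mem (inv_mem hcc) he)
    (by rw [chi_mul', hinv, htop, inv_mul_cancel])
  rw [chi_mul', hinv] at hsA
  set ρ := ChevSimple.chi (c * c) (setupD4.spR oA) with hρ
  have hes : torC chevD4 e = x * x * Φ.φA (hMat s) := by
    rw [← hxx, ← hs, ← torC_mul, mul_inv_cancel_left]
  have heA : ChevSimple.chi e (setupD4.spR oA) = ρ * s ^ 2 := by
    rw [← hsA, mul_inv_cancel_left]
  set B := hMat s * A with hB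
  obtain ⟨P, hP⟩ := exists_twist_conj ρ B (by
    rcases hA with h | h | h
    · left; simp [B, hMat_val, Matrix.mul_apply, Fin.sum_univ_two, Matrix.vecMul, dotProduct, h]
    · right; left; simp [B, hMat_val, Matrix.mul_apply, Fin.sum_univ_two, Matrix.vecMul, dotProduct, h]
    · right; right
      rw [heA] at h
      simp [B, hMat_val, Matrix.mul_apply, Fin.sum_univ_two, Matrix.vecMul, dotProduct]
      intro e'
      apply h
      field_simp at e'
      rw [← e', Units.val_mul, Units.val_pow_eq_pow_val]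
      try ring)
  obtain ⟨l, hl, hl'⟩ := Φ.exists_scale_φA (h := x * x) (mul_mem hxH hxH)
  obtain rfl : l = ρ := hl' (c * c) hcc hxx
  set A' := scaleHom ρ⁻¹ P * B * P⁻¹ with hA'
  have hconj : Φ.φA P * (torC chevD4 e * Φ.φA A) * (Φ.φA P)⁻¹ =
      Φ.φA (scaleHom ρ (vMat K (A'.1 1 0))) * (x * x) * Φ.φA (uMat K (A'.1 0 1)) := by
    have h1 : Φ.φA P * (x * x) = x * x * Φ.φA (scaleHom ρ⁻¹ P) := by
      rw [show Φ.φA P = x * x * Φ.φA (scaleHom ρ⁻¹ P) * (x * x)⁻¹ by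
        rw [hl, scaleHom_scaleHom_inv]]
      group
    calc Φ.φA P * (torC chevD4 e * Φ.φA A) * (Φ.φA P)⁻¹
        = Φ.φA P * (x * x) * Φ.φA B * (Φ.φA P)⁻¹ := by rw [hes, hB, map_mul]; group
      _ = x * x * Φ.φA A' := by simp only [h1, hA', hB, map_mul, map_inv, mul_assoc]
      _ = _ := by
        rw [eq_vMat_uMat A' hP, map_mul, ← hl]
        simp only [← eq_vMat_uMat A' hP]
        group
  obtain ⟨k, hk, v, hv, u, hu, ek⟩ := hg
  have hPL : Φ.φA P ∈ Φ.LA := Φ.φA_mem_LA P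
  refine Φ.twoConj_transfer (k := Φ.φA P * k) (mul_mem (Φ.φA_mem_tG P) hk)
    (g' := (Φ.φA P * v * (Φ.φA P)⁻¹ * Φ.φA (scaleHom ρ (vMat K (A'.1 1 0)))) * (x * x) *
      (Φ.φA (uMat K (A'.1 0 1)) * (Φ.φA P * u * (Φ.φA P)⁻¹))) ?_ ?_
  · calc Φ.φA P * k * g * (Φ.φA P * k)⁻¹
        = Φ.φA P * (k * g * k⁻¹) * (Φ.φA P)⁻¹ := by group
      _ = (Φ.φA P * v * (Φ.φA P)⁻¹) * (Φ.φA P * (torC chevD4 e * Φ.φA A) * (Φ.φA P)⁻¹) *
          (Φ.φA P * u * (Φ.φA P)⁻¹) := by rw [ek]; group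
      _ = _ := by rw [hconj]; group
  · refine Φ.twoConj_cell Φ.Um_le_tG Φ.U1_le_tG (Φ.H₀_le_tG hxH)
      (fun n hn => Φ.H₀_conj_Um hxH hn)
      (fun n hn h => Φ.fpf_neg hc (Φ.chi_ne_one hc hreg) hn h)
      (fun n hn => Φ.H₀_conj_U1 hxH hn)
      (fun n hn h => fpf_pos (Φ.chi_ne_one hc hreg) hn.1 h) ?_ ?_
    · refine mul_mem (Φ.UN_le_Um (Φ.conj_UN hPL hv)) ?_
      rw [scaleHom_vMat]
      exact Φ.φA_vMat_mem_Um _
    · exact mul_mem (Φ.φA_uMat_mem_U1 _) (Φ.UP_le_U1 (Φ.conj_UP hPL hu))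

/-- For `q ≥ 4` a regular torus class covers the non-identity elements. -/
theorem exists_class_ge_four (hf : ∀ x, Φ.f x = x ^ q)
    (hfix : Nat.card {x : K // Φ.f x = x} = q) (hK : Nat.card K = q ^ setupD4.cfg.k) (hq : 4 ≤ q)
    (hs : IsSimpleGroup ↥Φ.tG) :
    ∃ x ∈ Φ.tG, x ^ (Nat.card K - 1) = 1 ∧ ∀ g ∈ Φ.tG, g ≠ 1 →
      ∃ a ∈ Φ.tG, ∃ b ∈ Φ.tG, g = (a * x * a⁻¹) * (b * x * b⁻¹) := by
  obtain ⟨c, hc, hreg, y, hy, hy2, hd⟩ := Φ.exists_regular hf hfix hK hq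
  refine ⟨torC chevD4 c, Φ.H₀_le_tG ⟨c, hc, rfl⟩, ?_, fun g hg hg1 => ?_⟩
  · letI := Fintype.ofFinite K
    classical
    rw [show torC chevD4 c = torHom chevD4 K c from rfl, ← map_pow,
      show c ^ (Nat.card K - 1) = 1 from funext fun i => by
        rw [Pi.pow_apply, ← Nat.card_units, pow_card_eq_one', Pi.one_apply], map_one]
  set d := ChevSimple.chi (c * c) topD4
  obtain ⟨C, hCor, k, hk, l0, hl0, u, hu, ek⟩ := Φ.exists_normalForm hs hg hg1
  have hl : ∀ l, Φ.InCell (C * l0 * u) l → Φ.InCell g l := by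
    rintro l ⟨k', hk', v, hv, u', hu', e⟩
    refine ⟨k' * k, mul_mem hk' hk, v, hv, u', hu', ?_⟩
    rw [← e, ← ek]; group
  obtain ⟨_, ⟨ch, hch, rfl⟩, A0, rfl⟩ := hl0
  set δ0 := d * (ChevSimple.chi ch topD4)⁻¹ with hδ0
  have hδf : Φ.fU δ0 = δ0 := by
    rw [hδ0, Φ.fU_mul, hd, show Φ.fU (ChevSimple.chi ch topD4)⁻¹ =
      (Φ.fU (ChevSimple.chi ch topD4))⁻¹ from map_inv _ _, Φ.fU_fixed_top hch]
  have hfix' : ∀ (n : Root chevD4) (a : (Φ.admField (setupD4.spR oB))ˣ), setupD4.σR n = n →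
      hC n (Φ.bUnit a) ∈ Φ.fixC := fun n a hn => Φ.hC_fixed hn (Φ.fUb a)
  obtain ⟨h22, h23, h14, -⟩ := pairing_long_D4
  rcases hCor with rfl | rfl
  · -- the first double coset
    obtain ⟨b', hb'⟩ := Φ.exists_bUnit hδf
    obtain ⟨σ, hσ⟩ : ∃ σ : K, (wMat K * A0 * uMat K (-σ)).1 0 1 ≠ 0 ∨
        (wMat K * A0 * uMat K (-σ)).1 1 0 ≠ 0 := by
      by_cases h : (wMat K * A0).1 0 1 ≠ 0 ∨ (wMat K * A0).1 1 0 ≠ 0
      · refine ⟨0, ?_⟩
        rwa [neg_zero, show uMat K (0 : K) = 1 from Subtype.ext (by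
          simp [uMat_val, Matrix.one_fin_two]), mul_one]
      · push Not at h
        refine ⟨1, Or.inl ?_⟩
        generalize hA2 : wMat K * A0 = A2 at h ⊢
        have hdet := A2.2
        rw [Matrix.det_fin_two, h.1, zero_mul, sub_zero] at hdet
        have h00 : A2.1 0 0 ≠ 0 := left_ne_zero_of_mul_eq_one hdet
        simp [uMat_val, Matrix.mul_apply, Fin.sum_univ_two, Matrix.vecMul, dotProduct, h.1, h00]
    set e1 := hC (rt 14) (Φ.bUnit (-b')) * ch with he1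
    have he1f : e1 ∈ Φ.fixC := mul_mem (hfix' _ _ h14) hch
    obtain ⟨e', he'f, he'⟩ := Φ.conj_H₀ (Φ.monBy_nO oA) (Φ.nO_mem_fix oA) ⟨e1, he1f, rfl⟩
    have he'' : Φ.nO oA * torC chevD4 e1 * (Φ.nO oA)⁻¹ = torC chevD4 e' := he'.symm
    have htop' : ChevSimple.chi e' topD4 = ChevSimple.chi e1 topD4 := by
      have := chi_conj (Φ.monBy_nO oA) he'' topD4
      rwa [show setupD4.wR oA topD4 = topD4 by decide +kernel] at this
    refine Φ.twoConj_of_inCell hf hc hreg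
      (e := hC (rt 14) (Φ.bUnit (-(1 : (Φ.admField (setupD4.spR oB))ˣ))) * e')
      (A := wMat K * A0 * uMat K (-σ)) (mul_mem (hfix' _ _ h14) he'f) ?_
      (hσ.imp_right Or.inl) (hl _ ?_)
    · rw [chi_mul', (chi_long_sq _).1, htop', he1, chi_mul', (chi_long_sq _).1, bUnit_neg, bUnit_neg,
        ← mul_assoc, neg_mul_neg, hb', hδ0, show Φ.bUnit 1 = 1 from Units.ext rfl, one_mul,
        inv_mul_cancel_right]
    · have := Φ.inCell_one (Φ.LA.mul_mem (Φ.H₀_le_LA ⟨ch, hch, rfl⟩) (Φ.φA_mem_LA A0)) hu 1 b' σ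
      convert this using 1
      rw [torC_mul, ← he'', he1, torC_mul, φB_hMat, φB_hMat, map_mul, map_mul, φA_wMat,
        φA_uMat, show torHom chevD4 K ch = torC chevD4 ch from rfl]
      group
  · -- the second double coset
    obtain ⟨D, bc, hD, hDc⟩ : ∃ D bc : (Φ.admField (setupD4.spR oB))ˣ,
        Φ.bUnit D ≠ 1 ∧ Φ.bUnit D * Φ.bUnit bc ^ 2 = δ0 := by
      by_cases h : δ0 = 1
      · obtain ⟨by', hby⟩ := Φ.exists_bUnit hy
        refine ⟨(by' ^ 2)⁻¹, by', ?_, ?_⟩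
        · rw [bUnit] at hby
          rw [bUnit, map_inv, map_pow, hby, ne_eq, inv_eq_one]
          exact hy2
        · rw [bUnit, map_inv, map_pow, inv_mul_cancel, h]
      · obtain ⟨D, hD⟩ := Φ.exists_bUnit hδf
        exact ⟨D, 1, hD ▸ h, by rw [hD, show Φ.bUnit 1 = 1 from Units.ext rfl, one_pow, mul_one]⟩
    set e := hC (rt 22) (Φ.bUnit D) * hC (rt 23) (Φ.bUnit (-bc)) * ch with he
    set η := ChevSimple.chi ch (setupD4.spR oA) with hη
    have heA : ChevSimple.chi e (setupD4.spR oA) = Φ.bUnit D * η := by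
      obtain ⟨-, -, -, a1, -, -⟩ := chi_long_sq (Φ.bUnit D)
      obtain ⟨-, -, -, -, -, a2⟩ := chi_long_sq (Φ.bUnit (-bc))
      rw [he, chi_mul', chi_mul', a1, a2, mul_one]
    obtain ⟨s, hs'⟩ : ∃ s : K,
        (uMat K (((η⁻¹ : Kˣ) : K) * s) * A0 * uMat K (-s)).1 0 1 ≠ 0 ∨
        (uMat K (((η⁻¹ : Kˣ) : K) * s) * A0 * uMat K (-s)).1 1 0 ≠ 0 ∨
        (ChevSimple.chi e (setupD4.spR oA) : K) *
          (uMat K (((η⁻¹ : Kˣ) : K) * s) * A0 * uMat K (-s)).1 0 0 ≠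
          (uMat K (((η⁻¹ : Kˣ) : K) * s) * A0 * uMat K (-s)).1 1 1 := by
      by_cases h : A0.1 0 1 ≠ 0 ∨ A0.1 1 0 ≠ 0 ∨
          (ChevSimple.chi e (setupD4.spR oA) : K) * A0.1 0 0 ≠ A0.1 1 1
      · refine ⟨0, ?_⟩
        simpa [uMat_val, Matrix.mul_apply, Fin.sum_univ_two, Matrix.vecMul, dotProduct] using h
      · push Not at h
        obtain ⟨h01, h10, h11⟩ := h
        refine ⟨1, Or.inl ?_⟩
        have hdet := A0.2
        rw [Matrix.det_fin_two, h01, zero_mul, sub_zero] at hdet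
        have h00 : A0.1 0 0 ≠ 0 := left_ne_zero_of_mul_eq_one hdet
        rw [heA, Units.val_mul] at h11
        simp [uMat_val, Matrix.mul_apply, Fin.sum_univ_two, Matrix.vecMul, dotProduct, h01, h10]
        intro e'
        apply hD
        refine Units.ext (mul_right_cancel₀ h00 ?_)
        rw [← h11] at e'
        field_simp at e'
        rw [Units.val_one]
        linear_combination e'
    refine Φ.twoConj_of_inCell hf hc hreg (e := e)
      (A := uMat K (((η⁻¹ : Kˣ) : K) * s) * A0 * uMat K (-s))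
      (mul_mem (mul_mem (hfix' _ _ h22) (hfix' _ _ h23)) hch) ?_ hs' (hl _ ?_)
    · obtain ⟨-, -, a1, -, -, -⟩ := chi_long_sq (Φ.bUnit D)
      obtain ⟨-, -, -, -, a2, -⟩ := chi_long_sq (Φ.bUnit (-bc))
      rw [he, chi_mul', chi_mul', a1, a2, bUnit_neg, neg_sq, hDc, hδ0, inv_mul_cancel_right]
    · have := Φ.inCell_top (Φ.LA.mul_mem (Φ.H₀_le_LA ⟨ch, hch, rfl⟩) (Φ.φA_mem_LA A0)) hu D bc s
      convert this using 1
      have hswap : torC chevD4 ch * Φ.φA (uMat K (((η⁻¹ : Kˣ) : K) * s)) =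
          Φ.oX (setupD4.spR oA) s * torC chevD4 ch := by
        rw [φA_uMat, ← mul_inv_eq_iff_eq_mul, Φ.torC_conj_oX hch, ← mul_assoc, Units.mul_inv,
          one_mul]
      rw [he, torC_mul, torC_mul, map_mul, map_mul, φ4_hMat, φ5_hMat, φA_uMat,
        show torHom chevD4 K ch = torC chevD4 ch from rfl]
      simp only [mul_assoc]
      simp only [φA_uMat] at hswap ⊢
      rw [← mul_assoc (torC chevD4 ch), hswap, mul_assoc]

end FieldTwist

end CfsgLib.GraphTwist
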