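import Cfsg.Agent.D4Square.Levi
import Cfsg.Agent.SchurBN.TwistD4P

/-!
# The parabolic of `³D₄(q)` with short Levi subgroup, and its opposite
-/

set_option autoImplicit false
set_option linter.style.haveILetI false
set_option linter.unusedSectionVars false
set_option maxRecDepth 8000

namespace CfsgLib.GraphTwist

open Cfsg.Lie CfsgLib.Chevalley CfsgLib.SchurBN
open CfsgLib.Chevalley.RankOneRel (uMat vMat wMat uMat_val vMat_val wMat_val)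
open scoped MatrixGroups

theorem parabolic_D4 :
    (∀ r : Root chevD4, r ∈ setupD4.compl oA → 1 ≤ setupD4.cfg.orbPos r) ∧
    (setupD4.wR oA (setupD4.spR oA) = (setupD4.spR oA).rev) ∧
    (∀ r : Root chevD4, half chevD4 ≤ (r : ℕ) → 1 ≤ setupD4.cfg.orbPos r →
      r ∉ setupD4.orb (setupD4.spR oA)) := by
  refine ⟨?_, by decide +kernel, by decide +kernel⟩
  have h : ∀ r : Root chevD4, half chevD4 ≤ (r : ℕ) → r ∉ setupD4.orb (setupD4.spR oA) →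
      1 ≤ setupD4.cfg.orbPos r := by decide +kernel
  exact fun r hr => h r hr.1 hr.2

namespace FieldTwist

variable {K : Type*} [Field K] (Φ : FieldTwist setupD4 K)

/-- A representative of the longest element. -/
def g0 : GL chevD4.Idx K := (Φ.nO oA * Φ.nO oB) * (Φ.nO oA * Φ.nO oB) * (Φ.nO oA * Φ.nO oB)

theorem g0_mem_M₀ : Φ.g0 ∈ Φ.M₀ :=
  mul_mem (mul_mem (mul_mem (Φ.nO_mem_M₀ oA) (Φ.nO_mem_M₀ oB))
    (mul_mem (Φ.nO_mem_M₀ oA) (Φ.nO_mem_M₀ oB))) (mul_mem (Φ.nO_mem_M₀ oA) (Φ.nO_mem_M₀ oB))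

theorem g0_mon : ∃ π : Equiv.Perm (Root chevD4), MonBy setupD4.good Φ.g0 π ∧ ∀ r, π r = r.rev := by
  have h := (Φ.monBy_nO oA).mul (Φ.monBy_nO oB)
  refine ⟨_, (h.mul h).mul h, fun r => ?_⟩
  rw [← weyl_D4.1 r, pow_succ, pow_two]

theorem g0_mem_fix : Φ.g0 ∈ Φ.fix := Φ.M₀_le_fix Φ.g0_mem_M₀

/-- Conjugation by the longest element reverses an orbit element. -/
theorem g0_conj_oX (r : Root chevD4) : ∃ c : Kˣ, ∀ t : K, Φ.Adm r t →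
    Φ.Adm r.rev ((c : K) * t) ∧ Φ.g0 * Φ.oX r t * Φ.g0⁻¹ = Φ.oX r.rev ((c : K) * t) := by
  obtain ⟨π, hπ, hr⟩ := Φ.g0_mon
  obtain ⟨c, hc⟩ := Φ.conj_oX hπ Φ.g0_mem_fix r
  exact ⟨c, fun t ht => hr r ▸ hc t ht⟩

theorem g0_inv_conj_oX (r : Root chevD4) : ∃ c : Kˣ, ∀ t : K, Φ.Adm r t →
    Φ.Adm r.rev ((c : K) * t) ∧ Φ.g0⁻¹ * Φ.oX r t * Φ.g0 = Φ.oX r.rev ((c : K) * t) := by
  obtain ⟨π, hπ, hr⟩ := Φ.g0_mon
  have he : π⁻¹ r = r.rev := by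
    rw [show π⁻¹ r = r.rev ↔ r = π r.rev from Equiv.symm_apply_eq π, hr, Fin.rev_rev]
  obtain ⟨c, hc⟩ := Φ.conj_oX hπ.inv (inv_mem Φ.g0_mem_fix) r
  refine ⟨c, fun t ht => ?_⟩
  have := hc t ht
  rw [he, inv_inv] at this
  exact this

theorem commute_H₀ {h h' : GL chevD4.Idx K} (hh : h ∈ Φ.H₀) (hh' : h' ∈ Φ.H₀) : Commute h h' :=
  Φ.H₀_comm h hh h' hh'

theorem exists_scale_φA {h : GL chevD4.Idx K} (hh : h ∈ Φ.H₀) :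
    ∃ l : Kˣ, (∀ A : SL(2, K), h * Φ.φA A * h⁻¹ = Φ.φA (scaleHom l A)) ∧
      ∀ c : Fin chevD4.rank → Kˣ, c ∈ Φ.fixC → torC chevD4 c = h →
        l = ChevSimple.chi c (setupD4.spR oA) := by
  obtain ⟨c, hc, rfl⟩ := hh
  refine ⟨ChevSimple.chi c (setupD4.spR oA), fun A => ?_, fun d hd e => ?_⟩
  · have key : (MulAut.conj (torC chevD4 c)).toMonoidHom.comp Φ.φA =
        Φ.φA.comp (scaleHom (ChevSimple.chi c (setupD4.spR oA))) := by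
      refine sl2_hom_ext (fun t => ?_) (fun t => ?_)
      · show torC chevD4 c * Φ.φA _ * (torC chevD4 c)⁻¹ = Φ.φA (scaleHom _ _)
        rw [scaleHom_uMat, φA_uMat, φA_uMat, Φ.torC_conj_oX hc]
      · show torC chevD4 c * Φ.φA _ * (torC chevD4 c)⁻¹ = Φ.φA (scaleHom _ _)
        rw [scaleHom_vMat, φA_vMat, φA_vMat, Φ.torC_conj_oX hc, chi_rev setupD4.good.good]
    exact congrArg (fun f : _ →* _ => f A) key
  · have h1 := ChevSimple.torC_conj_X setupD4.good.good c (setupD4.spR oA) (1 : K)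
    have h2 := ChevSimple.torC_conj_X setupD4.good.good d (setupD4.spR oA) (1 : K)
    rw [e, show torHom chevD4 K c = torC chevD4 c from rfl] at h2
    have := X_injective setupD4.good.good _ (h1.symm.trans h2)
    exact Units.ext (mul_right_cancel₀ one_ne_zero this)

/-- The short Levi subgroup. -/
def LA : Subgroup (GL chevD4.Idx K) where
  carrier := {g | ∃ h ∈ Φ.H₀, ∃ A : SL(2, K), g = h * Φ.φA A}
  one_mem' := ⟨1, one_mem _, 1, by rw [map_one, mul_one]⟩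
  mul_mem' := by
    rintro _ _ ⟨h, hh, A, rfl⟩ ⟨h', hh', A', rfl⟩
    obtain ⟨l, hl, -⟩ := Φ.exists_scale_φA (inv_mem hh')
    refine ⟨h * h', mul_mem hh hh', scaleHom l A * A', ?_⟩
    rw [map_mul, ← hl A]
    group
  inv_mem' := by
    rintro _ ⟨h, hh, A, rfl⟩
    obtain ⟨l, hl, -⟩ := Φ.exists_scale_φA hh
    refine ⟨h⁻¹, inv_mem hh, scaleHom l A⁻¹, ?_⟩
    rw [← hl, map_inv]
    group

theorem H₀_le_LA : Φ.H₀ ≤ Φ.LA := fun h hh => ⟨h, hh, 1, by rw [map_one, mul_one]⟩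

theorem φA_mem_LA (A : SL(2, K)) : Φ.φA A ∈ Φ.LA := ⟨1, one_mem _, A, (one_mul _).symm⟩

theorem nA_mem_LA : Φ.nO oA ∈ Φ.LA := Φ.φA_wMat ▸ Φ.φA_mem_LA _

theorem oXA_mem_LA (t : K) : Φ.oX (setupD4.spR oA) t ∈ Φ.LA := Φ.φA_uMat t ▸ Φ.φA_mem_LA _

theorem oYA_mem_LA (t : K) : Φ.oX (setupD4.spR oA).rev t ∈ Φ.LA := Φ.φA_vMat t ▸ Φ.φA_mem_LA _

theorem LA_le_tG : Φ.LA ≤ Φ.tG := by
  rintro _ ⟨h, hh, A, rfl⟩
  exact mul_mem (Φ.H₀_le_tG hh) (Φ.φA_mem_tG A)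

/-- The unipotent radical. -/
abbrev UP : Subgroup (GL chevD4.Idx K) := Φ.u1 1

/-- The opposite unipotent radical. -/
def UN : Subgroup (GL chevD4.Idx K) := Φ.UP.map (MulAut.conj Φ.g0).toMonoidHom

theorem mem_UN {g : GL chevD4.Idx K} : g ∈ Φ.UN ↔ Φ.g0⁻¹ * g * Φ.g0 ∈ Φ.UP := by
  constructor
  · rintro ⟨u, hu, rfl⟩
    show Φ.g0⁻¹ * (Φ.g0 * u * Φ.g0⁻¹) * Φ.g0 ∈ Φ.UP
    rwa [show Φ.g0⁻¹ * (Φ.g0 * u * Φ.g0⁻¹) * Φ.g0 = u by group]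
  · intro h
    refine ⟨_, h, ?_⟩
    show Φ.g0 * (Φ.g0⁻¹ * g * Φ.g0) * Φ.g0⁻¹ = g
    group

theorem UP_le_U1 : Φ.UP ≤ Φ.U1 := fun g hg => by
  rw [show Φ.U1 = Φ.u1 0 by rw [u1, setupD4.uT_zero]]
  exact ⟨setupD4.uT_anti (Nat.zero_le 1) hg.1, hg.2⟩

theorem oX_mem_UP {r : Root chevD4} (hr : half chevD4 ≤ (r : ℕ))
    (h1 : 1 ≤ setupD4.cfg.orbPos r) {t : K} (ht : Φ.Adm r t) : Φ.oX r t ∈ Φ.UP :=
  ⟨rootGen_mono _ (setupD4.orb_subset_tail hr h1) (Φ.oX_mem_rootGen _ _), Φ.oX_mem_fix ht⟩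

theorem oX_mem_UN {r : Root chevD4} (hr : half chevD4 ≤ (r : ℕ))
    (h1 : 1 ≤ setupD4.cfg.orbPos r) {t : K} (ht : Φ.Adm r.rev t) : Φ.oX r.rev t ∈ Φ.UN := by
  obtain ⟨c, hc⟩ := Φ.g0_inv_conj_oX r.rev
  obtain ⟨hadm, e⟩ := hc t ht
  rw [Φ.mem_UN, e]
  rw [Fin.rev_rev] at hadm ⊢
  exact Φ.oX_mem_UP hr h1 hadm

theorem conj_LA_g0 {k : GL chevD4.Idx K} (hk : k ∈ Φ.LA) : Φ.g0⁻¹ * k * Φ.g0 ∈ Φ.LA := by
  obtain ⟨h, hh, A, rfl⟩ := hk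
  obtain ⟨π, hπ, -⟩ := Φ.g0_mon
  rw [show Φ.g0⁻¹ * (h * Φ.φA A) * Φ.g0 =
    Φ.g0⁻¹ * h * Φ.g0⁻¹⁻¹ * (Φ.g0⁻¹ * Φ.φA A * Φ.g0) by group]
  refine mul_mem (Φ.H₀_le_LA (Φ.conj_H₀ hπ.inv (inv_mem Φ.g0_mem_fix) hh)) ?_
  have key : (Φ.LA.comap ((MulAut.conj Φ.g0⁻¹).toMonoidHom.comp Φ.φA)) = ⊤ := by
    refine sl2_top_of_mem (fun t => Subgroup.mem_comap.2 ?_) (fun t => Subgroup.mem_comap.2 ?_)
    · show Φ.g0⁻¹ * Φ.φA _ * Φ.g0⁻¹⁻¹ ∈ Φ.LA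
      obtain ⟨c, hc⟩ := Φ.g0_inv_conj_oX (setupD4.spR oA)
      rw [inv_inv, φA_uMat, (hc t fun h => absurd h nodes_D4.1).2]
      exact Φ.oYA_mem_LA _
    · show Φ.g0⁻¹ * Φ.φA _ * Φ.g0⁻¹⁻¹ ∈ Φ.LA
      obtain ⟨c, hc⟩ := Φ.g0_inv_conj_oX (setupD4.spR oA).rev
      rw [inv_inv, φA_vMat,
        (hc t (Φ.adm_rev.2 fun h => absurd h nodes_D4.1)).2, Fin.rev_rev]
      exact Φ.oXA_mem_LA _
  have := (key ▸ Subgroup.mem_top A : A ∈ Φ.LA.comap ((MulAut.conj Φ.g0⁻¹).toMonoidHom.comp Φ.φA))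
  have h2 : Φ.g0⁻¹ * Φ.φA A * Φ.g0⁻¹⁻¹ ∈ Φ.LA := this
  rwa [inv_inv] at h2

theorem conj_UP {k u : GL chevD4.Idx K} [Finite K] (hk : k ∈ Φ.LA) (hu : u ∈ Φ.UP) :
    k * u * k⁻¹ ∈ Φ.UP := by
  let N : Subgroup (GL chevD4.Idx K) :=
    { carrier := {k | ∀ u ∈ Φ.UP, k * u * k⁻¹ ∈ Φ.UP ∧ k⁻¹ * u * k ∈ Φ.UP}
      one_mem' := fun u hu => by simpa using hu
      mul_mem' := fun {a b} ha hb u hu => ⟨by
        have := (ha _ (hb u hu).1).1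
        rwa [show a * (b * u * b⁻¹) * a⁻¹ = a * b * u * (a * b)⁻¹ by group] at this, by
        have := (hb _ (ha u hu).2).2
        rwa [show b⁻¹ * (a⁻¹ * u * a) * b = (a * b)⁻¹ * u * (a * b) by group] at this⟩
      inv_mem' := fun {a} ha u hu => ⟨by rw [inv_inv]; exact (ha u hu).2,
        by rw [inv_inv]; exact (ha u hu).1⟩ }
  have hX : ∀ t, Φ.oX (setupD4.spR oA) t ∈ N := fun t u hu => by
    have hn : ∀ t, ∀ u ∈ Φ.UP, Φ.oX (setupD4.spR oA) t * u * (Φ.oX (setupD4.spR oA) t)⁻¹ ∈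
        Φ.UP := fun t u hu =>
      ⟨(Subgroup.mem_normalizer_iff.1 (setupD4.pos_le_normalizer_uT 1
        (Φ.oX_mem_pos (setupD4.spR_pos oA) t)) u).1 hu.1,
        Φ.conj_mem_fix (Φ.oX_mem_fix fun h => absurd h nodes_D4.1) hu.2⟩
    refine ⟨hn t u hu, ?_⟩
    have := hn (-t) u hu
    rwa [← oX_inv, inv_inv] at this
  have hn : ∀ g ∈ Φ.M₀, MonBy setupD4.good g (setupD4.wR oA) →
      ∀ u ∈ Φ.UP, g * u * g⁻¹ ∈ Φ.UP := by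
    intro g hg hmon u hu
    refine ⟨hmon.conj_rootGen (fun r hr => ?_) hu.1, Φ.conj_mem_fix (Φ.M₀_le_fix hg) hu.2⟩
    exact weyl_D4.2 r hr.1 hr.2
  have hw : Φ.nO oA ∈ N := fun u hu => by
    refine ⟨hn _ (Φ.nO_mem_M₀ oA) (Φ.monBy_nO oA) u hu, ?_⟩
    have hsq : ∀ r, setupD4.wR oA (setupD4.wR oA r) = r := by decide +kernel
    have he : (setupD4.wR oA)⁻¹ = setupD4.wR oA :=
      inv_eq_of_mul_eq_one_left (Equiv.ext hsq)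
    have := hn _ (inv_mem (Φ.nO_mem_M₀ oA)) (he ▸ (Φ.monBy_nO oA).inv) u hu
    rwa [inv_inv] at this
  have hH : Φ.H₀ ≤ N := fun h hh u hu => ⟨Φ.H₀_conj_u1 hh hu, by
    have := Φ.H₀_conj_u1 (inv_mem hh) hu
    rwa [inv_inv] at this⟩
  have hφ : ∀ A, Φ.φA A ∈ N := by
    have : N.comap Φ.φA = ⊤ := sl2_top_of_mem
      (fun t => Subgroup.mem_comap.2 (by rw [φA_uMat]; exact hX t))
      (fun t => Subgroup.mem_comap.2 (by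
        rw [← neg_neg t, ← vMat_conj, map_mul, map_mul, map_inv, φA_wMat, φA_uMat]
        exact mul_mem (mul_mem hw (hX _)) (inv_mem hw)))
    exact fun A => (this ▸ Subgroup.mem_top A : A ∈ N.comap Φ.φA)
  obtain ⟨h, hh, A, rfl⟩ := hk
  exact ((mul_mem (hH hh) (hφ A) : _ ∈ N) u hu).1

theorem conj_UN [Finite K] {k v : GL chevD4.Idx K} (hk : k ∈ Φ.LA) (hv : v ∈ Φ.UN) :
    k * v * k⁻¹ ∈ Φ.UN := by
  rw [Φ.mem_UN] at hv ⊢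
  rw [show Φ.g0⁻¹ * (k * v * k⁻¹) * Φ.g0 =
    Φ.g0⁻¹ * k * Φ.g0 * (Φ.g0⁻¹ * v * Φ.g0) * (Φ.g0⁻¹ * k * Φ.g0)⁻¹ by group]
  exact Φ.conj_UP (Φ.conj_LA_g0 hk) hv

theorem UP_le_tG [Finite K] : Φ.UP ≤ Φ.tG := fun _ hg => Φ.U1_le_tG (Φ.UP_le_U1 hg)

theorem UN_le_tG [Finite K] : Φ.UN ≤ Φ.tG := fun g hg => by
  have h := Φ.UP_le_tG (Φ.mem_UN.1 hg)
  have hg0 := Φ.M₀_le_tG Φ.g0_mem_M₀
  have := mul_mem (mul_mem hg0 h) (inv_mem hg0)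
  rwa [show Φ.g0 * (Φ.g0⁻¹ * g * Φ.g0) * Φ.g0⁻¹ = g by group] at this

/-- The parabolic. -/
def PA [Finite K] : Subgroup (GL chevD4.Idx K) where
  carrier := {g | ∃ l ∈ Φ.LA, ∃ u ∈ Φ.UP, g = l * u}
  one_mem' := ⟨1, one_mem _, 1, one_mem _, (one_mul 1).symm⟩
  mul_mem' := by
    rintro _ _ ⟨l, hl, u, hu, rfl⟩ ⟨l', hl', u', hu', rfl⟩
    refine ⟨l * l', mul_mem hl hl', l'⁻¹ * u * l' * u',
      mul_mem ?_ hu', by group⟩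
    have := Φ.conj_UP (inv_mem hl') hu
    rwa [inv_inv] at this
  inv_mem' := by
    rintro _ ⟨l, hl, u, hu, rfl⟩
    exact ⟨l⁻¹, inv_mem hl, l * u⁻¹ * l⁻¹, Φ.conj_UP hl (inv_mem hu), by group⟩

theorem LA_le_PA [Finite K] : Φ.LA ≤ Φ.PA := fun l hl => ⟨l, hl, 1, one_mem _, (mul_one l).symm⟩

theorem U1_le_PA [Finite K] : Φ.U1 ≤ Φ.PA := fun g hg => by
  obtain ⟨v, hv, x, hx, rfl⟩ := Φ.exists_split_U1 oA hg
  have hv' : v ∈ Φ.UP :=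
    ⟨rootGen_mono _ (show setupD4.compl oA ⊆
      {r : Root chevD4 | half chevD4 ≤ (r : ℕ) ∧ 1 ≤ setupD4.cfg.orbPos r} from
        fun r hr => ⟨hr.1, parabolic_D4.1 r hr⟩) hv.1, hv.2⟩
  exact mul_mem (show v ∈ Φ.PA from ⟨1, one_mem _, v, hv', (one_mul v).symm⟩)
    (Φ.LA_le_PA (Φ.oXA_mem_LA x))

end FieldTwist

end CfsgLib.GraphTwist
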