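import Cfsg.Agent.D4Square.Cases

/-!
# Every element is conjugate into one of the two big double cosets of the parabolic
-/

set_option autoImplicit false
set_option linter.style.haveILetI false
set_option linter.unusedSectionVars false
set_option maxRecDepth 8000

namespace CfsgLib.GraphTwist

open Cfsg.Lie CfsgLib.Chevalley CfsgLib.SchurBN
open CfsgLib.Chevalley.RankOneRel (uMat vMat wMat uMat_val vMat_val wMat_val)
open scoped MatrixGroups

/-- The permutation `a`. -/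
abbrev pA : Equiv.Perm (Root chevD4) := setupD4.wR oA

/-- The permutation `b`. -/
abbrev pB : Equiv.Perm (Root chevD4) := setupD4.wR oB

/-- The words in two involutions whose product has order six. -/
def wList {G : Type*} [Group G] (a b : G) : List G :=
  [1, a, b, a * b, b * a, a * b * a, b * a * b, a * b * a * b, b * a * b * a, a * b * a * b * a,
    b * a * b * a * b, a * b * a * b * a * b]

theorem wList_mul {G : Type*} [Group G] {a b : G} (ha : a * a = 1) (hb : b * b = 1)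
    (hab : a * b * a * b * a * b = b * a * b * a * b * a) {x : G} (hx : x ∈ wList a b) :
    a * x ∈ wList a b ∧ b * x ∈ wList a b := by
  have ha' : ∀ y : G, a * (a * y) = y := fun y => by rw [← mul_assoc, ha, one_mul]
  have hb' : ∀ y : G, b * (b * y) = y := fun y => by rw [← mul_assoc, hb, one_mul]
  have h1 : b * (a * (b * (a * (b * a)))) = a * (b * (a * (b * (a * b)))) := by
    simpa only [mul_assoc] using hab.symm
  have h2 : b * (a * (b * (a * (b * (a * b))))) = a * (b * (a * (b * a))) := by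
    calc b * (a * (b * (a * (b * (a * b))))) = (b * (a * (b * (a * (b * a))))) * b := by
          simp only [mul_assoc]
      _ = _ := by rw [h1]; simp only [mul_assoc, hb, mul_one]
  simp only [wList, List.mem_cons, List.not_mem_nil, or_false, mul_assoc] at hx ⊢
  rcases hx with h | h | h | h | h | h | h | h | h | h | h | h <;> subst h <;>
    simp only [mul_one, ha, hb, ha', hb', h1, h2, true_or, or_true, and_self]

theorem reduce_D4 :
    (∀ r : Root chevD4, pA r = setupD4.spR oB → half chevD4 ≤ (r : ℕ)) ∧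
    (∀ r : Root chevD4, pB r = setupD4.spR oA → half chevD4 ≤ (r : ℕ)) ∧
    (∀ r : Root chevD4, (pA * pB) r = setupD4.spR oB → half chevD4 ≤ (r : ℕ)) ∧
    half chevD4 ≤ ((pA * pB) (setupD4.spR oA) : ℕ) ∧
    (∀ r : Root chevD4, (pA * pB * pA) r = setupD4.spR oB → half chevD4 ≤ (r : ℕ)) ∧
    half chevD4 ≤ ((pB * (pA * pB * pA)) (setupD4.spR oB) : ℕ) ∧
    pA * pA = 1 ∧ pB * pB = 1 ∧ pA * pB * pA * pB * pA * pB = pB * pA * pB * pA * pB * pA := by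
  decide +kernel

namespace FieldTwist

variable {K : Type*} [Field K] (Φ : FieldTwist setupD4 K) [Finite K]

/-- The cell of a monomial element. -/
def InBB (m g : GL chevD4.Idx K) : Prop := ∃ a ∈ Φ.B1, ∃ b ∈ Φ.B1, g = a * m * b

variable {Φ}

theorem InBB.mk' {m g : GL chevD4.Idx K} {a b : GL chevD4.Idx K} (ha : a ∈ Φ.B1) (hb : b ∈ Φ.B1)
    (h : g = a * m * b) : Φ.InBB m g := ⟨a, ha, b, hb, h⟩

theorem InBB.self (m : GL chevD4.Idx K) : Φ.InBB m m :=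
  ⟨1, one_mem _, 1, one_mem _, by rw [one_mul, mul_one]⟩

theorem InBB.lmul {m g : GL chevD4.Idx K} (h : Φ.InBB m g) {c : GL chevD4.Idx K}
    (hc : c ∈ Φ.B1) : Φ.InBB m (c * g) := by
  obtain ⟨a, ha, b, hb, rfl⟩ := h
  exact ⟨c * a, mul_mem hc ha, b, hb, by group⟩

theorem InBB.rmul {m g : GL chevD4.Idx K} (h : Φ.InBB m g) {c : GL chevD4.Idx K}
    (hc : c ∈ Φ.B1) : Φ.InBB m (g * c) := by
  obtain ⟨a, ha, b, hb, rfl⟩ := h
  exact ⟨a, ha, b * c, mul_mem hb hc, by group⟩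

theorem InBB.inv {m g : GL chevD4.Idx K} (h : Φ.InBB m g) : Φ.InBB m⁻¹ g⁻¹ := by
  obtain ⟨a, ha, b, hb, rfl⟩ := h
  exact ⟨b⁻¹, inv_mem hb, a⁻¹, inv_mem ha, by group⟩

/-- Lengths adding on the left. -/
theorem InBB.nO_mul {m g : GL chevD4.Idx K} (h : Φ.InBB m g) (o : Fin setupD4.cfg.m)
    {π : Equiv.Perm (Root chevD4)} (hm : m ∈ Φ.M₀) (hπ : MonBy setupD4.good m π)
    (hp : ∀ r : Root chevD4, π r = setupD4.spR o → half chevD4 ≤ (r : ℕ)) :
    Φ.InBB (Φ.nO o * m) (Φ.nO o * g) := by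
  obtain ⟨a, ha, b, hb, rfl⟩ := h
  obtain ⟨u, hu, h, hh, rfl⟩ := Φ.mem_B1_iff.1 ha
  obtain ⟨v, ⟨hv, hvf⟩, x, hx, rfl⟩ := Φ.exists_split_U1 o hu
  set n := Φ.nO o with hn
  have hv' : n * v * n⁻¹ ∈ Φ.U1 := by
    refine Subgroup.mem_inf.2 ⟨?_, mul_mem (mul_mem (Φ.nO_mem_fix o) hvf) (inv_mem (Φ.nO_mem_fix o))⟩
    rw [posUnipotent_eq_rootGen setupD4.good.good]
    exact rootGen_mono _ (fun r hr => hr.1) (Φ.nO_conj_compl o hv)
  have hm' : h * m ∈ Φ.M₀ := mul_mem (Φ.H₀_le_M₀ hh) hm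
  have hh' : m⁻¹ * h * m ∈ Φ.H₀ := by
    have := Φ.conj_H₀ hπ.inv (inv_mem (Φ.M₀_le_fix hm)) hh
    rwa [inv_inv] at this
  obtain ⟨z, hz, e⟩ := Φ.exists_move hm' (π := π⁻¹) (by
    have hd := (monBy_diag setupD4.good (Φ.H₀_le_diag hh)).mul hπ
    rw [one_mul] at hd
    exact hd.inv) (hp _ (Equiv.apply_symm_apply π _)) hx
  refine InBB.mk' (a := n * v * n⁻¹) (b := m⁻¹ * h * m * z * b) (Subgroup.mem_sup_left hv')
    (mul_mem (mul_mem (Subgroup.mem_sup_right hh') (Subgroup.mem_sup_left hz)) hb) ?_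
  calc n * (v * Φ.oX (setupD4.spR o) x * h * m * b)
      = n * v * n⁻¹ * n * (Φ.oX (setupD4.spR o) x * (h * m)) * b := by group
    _ = _ := by rw [e]; group

/-- Lengths adding on both sides. -/
theorem InBB.conj_nO {m g : GL chevD4.Idx K} (h : Φ.InBB m g) (o : Fin setupD4.cfg.m)
    {π : Equiv.Perm (Root chevD4)} (hm : m ∈ Φ.M₀) (hπ : MonBy setupD4.good m π)
    (hp : ∀ r : Root chevD4, π r = setupD4.spR o → half chevD4 ≤ (r : ℕ))
    (hq : half chevD4 ≤ ((setupD4.wR o * π) (setupD4.spR o) : ℕ)) :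
    Φ.InBB (Φ.nO o * m * (Φ.nO o)⁻¹) (Φ.nO o * g * (Φ.nO o)⁻¹) := by
  have h1 := (h.nO_mul o hm hπ hp).inv
  have hm1 : (Φ.nO o * m)⁻¹ ∈ Φ.M₀ := inv_mem (mul_mem (Φ.nO_mem_M₀ o) hm)
  have h2 := (h1.nO_mul o hm1 ((Φ.monBy_nO o).mul hπ).inv fun r hr => by
    have e : r = (setupD4.wR o * π) (setupD4.spR o) := Equiv.Perm.inv_eq_iff_eq.1 hr
    rwa [e]).inv
  simpa only [mul_inv_rev, inv_inv, mul_assoc] using h2

variable (Φ)

theorem B1_le_PA : Φ.B1 ≤ Φ.PA := sup_le Φ.U1_le_PA (Φ.H₀_le_LA.trans Φ.LA_le_PA)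

theorem nB_not_mem_PA : Φ.nO oB ∉ Φ.PA := by
  rintro ⟨l, hl, w, hw, e⟩
  obtain ⟨e14, -, -, -, -, -, -, -, -, -, r14, hσ, hpos, -⟩ := cases_D4
  set x := Φ.oX (setupD4.spR oB) (1 : K)
  have hx : x ∈ Φ.UP := by
    rw [show x = X setupD4.good.good (rt 14) (1 : K) from Φ.oXB 1]
    exact Φ.X_mem_UP (by simp) (map_one _)
  have h1 : Φ.nO oB * x * (Φ.nO oB)⁻¹ ∈ Φ.UP := by
    rw [e, show l * w * x * (l * w)⁻¹ = l * (w * x * w⁻¹) * l⁻¹ by group]
    exact Φ.conj_UP hl (mul_mem (mul_mem hw hx) (inv_mem hw))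
  obtain ⟨c, hc⟩ := Φ.conj_oX (Φ.monBy_nO oB) (Φ.nO_mem_fix oB) (setupD4.spR oB)
  obtain ⟨hadm, e1⟩ := hc 1 (Φ.adm_one _)
  rw [e1, setupD4.wR_orb (setupD4.self_mem_orb _), mul_one] at h1
  have hneg : Φ.oX (setupD4.spR oB).rev ((c : Kˣ) : K) ∈ chevD4.negUnipotent K := by
    rw [negUnipotent_eq_rootGen setupD4.good.good, oYB]
    exact X_mem_rootGen _ (show ((rt 9 : Root chevD4) : ℕ) < half chevD4 by decide +kernel) _
  have h2 : Φ.oX (setupD4.spR oB).rev ((c : Kˣ) : K) ∈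
      chevD4.borelSubgroup K ⊓ chevD4.negUnipotent K :=
    ⟨pos_le_borel chevD4 (Φ.UP_le_U1 h1).1, hneg⟩
  rw [borel_inf_neg setupD4.good, Subgroup.mem_bot, oYB] at h2
  exact c.ne_zero (X_injective setupD4.good.good _ (h2.trans (X_zero _ _).symm))

/-- A non-identity element has a conjugate outside the parabolic. -/
theorem exists_conj_not_mem_PA (hs : IsSimpleGroup ↥Φ.tG) {g : GL chevD4.Idx K}
    (hg : g ∈ Φ.tG) (hg1 : g ≠ 1) : ∃ k ∈ Φ.tG, k * g * k⁻¹ ∉ Φ.PA := by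
  by_contra h
  push Not at h
  let g' : ↥Φ.tG := ⟨g, hg⟩
  have hle : Subgroup.normalClosure {g'} ≤ Φ.PA.subgroupOf Φ.tG := by
    refine (Subgroup.closure_le _).2 fun z hz => ?_
    obtain ⟨a, ha, hconj⟩ := Group.mem_conjugatesOfSet_iff.1 hz
    rw [Set.mem_singleton_iff] at ha
    subst ha
    obtain ⟨c, hc⟩ := isConj_iff.1 hconj
    rw [← hc]
    exact h c c.2
  rcases (Subgroup.normalClosure_normal (s := {g'})).eq_bot_or_eq_top with e | e
  · have h0 : g' = 1 := Subgroup.mem_bot.1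
      (e ▸ Subgroup.subset_normalClosure (Set.mem_singleton g') : g' ∈ (⊥ : Subgroup ↥Φ.tG))
    exact hg1 (congrArg Subtype.val h0)
  · exact Φ.nB_not_mem_PA (hle (e ▸ Subgroup.mem_top (⟨_, Φ.nB_mem_tG⟩ : ↥Φ.tG)))

theorem exists_wList {m : GL chevD4.Idx K} (hm : m ∈ Φ.M₀) :
    ∃ π ∈ wList pA pB, MonBy setupD4.good m π := by
  obtain ⟨-, -, -, -, -, -, hA, hB, hAB⟩ := reduce_D4
  have key : ∃ π : Equiv.Perm (Root chevD4), MonBy setupD4.good m π ∧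
      (∀ x ∈ wList pA pB, π * x ∈ wList pA pB) ∧ ∀ x ∈ wList pA pB, π⁻¹ * x ∈ wList pA pB := by
    refine Φ.M₀_induction (P := fun m => ∃ π : Equiv.Perm (Root chevD4), MonBy setupD4.good m π ∧
      (∀ x ∈ wList pA pB, π * x ∈ wList pA pB) ∧ ∀ x ∈ wList pA pB, π⁻¹ * x ∈ wList pA pB) hm
      ?_ ?_ ?_ ?_
    · exact fun h hh => ⟨1, monBy_diag setupD4.good (Φ.H₀_le_diag hh), fun x hx => by rwa [one_mul],
        fun x hx => by rwa [inv_one, one_mul]⟩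
    · intro o
      refine ⟨setupD4.wR o, Φ.monBy_nO o, ?_⟩
      rcases (show o = oA ∨ o = oB by revert o; decide +kernel) with rfl | rfl
      · exact ⟨fun x hx => (wList_mul hA hB hAB hx).1, fun x hx => by
          rw [inv_eq_of_mul_eq_one_right hA]; exact (wList_mul hA hB hAB hx).1⟩
      · exact ⟨fun x hx => (wList_mul hA hB hAB hx).2, fun x hx => by
          rw [inv_eq_of_mul_eq_one_right hB]; exact (wList_mul hA hB hAB hx).2⟩
    · rintro a b ⟨π, ha, h1, h2⟩ ⟨π', hb, h1', h2'⟩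
      exact ⟨_, ha.mul hb, fun x hx => by rw [mul_assoc]; exact h1 _ (h1' x hx),
        fun x hx => by rw [mul_inv_rev, mul_assoc]; exact h2' _ (h2 x hx)⟩
    · rintro a ⟨π, ha, h1, h2⟩
      exact ⟨_, ha.inv, h2, fun x hx => by rw [inv_inv]; exact h1 x hx⟩
  obtain ⟨π, hπ, h1, -⟩ := key
  exact ⟨π, by simpa using h1 1 (List.mem_cons_self ..), hπ⟩

theorem LA_cases {l : GL chevD4.Idx K} (hl : l ∈ Φ.LA) : l ∈ Φ.B1 ∨ Φ.InBB (Φ.nO oA) l := by
  obtain ⟨h, hh, A, rfl⟩ := hl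
  have hX : ∀ t, Φ.φA (uMat K t) ∈ Φ.B1 := fun t => Subgroup.mem_sup_left (by
    rw [φA_uMat]
    exact ⟨Φ.oX_mem_pos (setupD4.spR_pos oA) t, Φ.oX_mem_fix fun h => absurd h nodes_D4.1⟩)
  have hH : ∀ s, Φ.φA (hMat s) ∈ Φ.B1 := fun s => Subgroup.mem_sup_right (by
    rw [φA_hMat]
    exact Φ.oH_mem fun h => absurd h nodes_D4.1)
  have hhB : h ∈ Φ.B1 := Subgroup.mem_sup_right hh
  have hdet := A.2
  rw [Matrix.det_fin_two] at hdet
  by_cases hc : A.1 1 0 = 0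
  · refine Or.inl (mul_mem hhB ?_)
    have ha : A.1 0 0 ≠ 0 := fun e => by simp [e, hc] at hdet
    have eA : A = hMat (Units.mk0 _ ha) * uMat K (A.1 0 1 / A.1 0 0) := by
      rw [hc, mul_zero, sub_zero] at hdet
      apply Subtype.ext; apply Matrix.ext; intro i j
      fin_cases i <;> fin_cases j <;>
        simp [uMat_val, hMat_val, Matrix.mul_apply, Fin.sum_univ_two, hc]
      · field_simp
      · exact eq_inv_of_mul_eq_one_right hdet
    rw [eA, map_mul]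
    exact mul_mem (hH _) (hX _)
  · refine Or.inr (InBB.lmul ?_ hhB)
    have eA : A = uMat K (A.1 0 0 / A.1 1 0) * hMat (Units.mk0 _ hc)⁻¹ * (wMat K) *
        (hMat (-1 : Kˣ) * uMat K (A.1 1 1 / A.1 1 0)) := by
      apply Subtype.ext; apply Matrix.ext; intro i j
      fin_cases i <;> fin_cases j <;>
        simp [uMat_val, hMat_val, wMat_val, Matrix.mul_apply, Fin.sum_univ_two]
      all_goals field_simp
      all_goals linear_combination -hdet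
    rw [eA]
    simp only [map_mul, φA_wMat]
    exact InBB.mk' (mul_mem (hX _) (hH _)) (mul_mem (hH _) (hX _)) rfl

/-- The cell of `n_b` reaches the reflection of the highest root. -/
theorem inBB_b {g : GL chevD4.Idx K} (h : Φ.InBB (Φ.nO oB) g) :
    ∃ k ∈ Φ.tG, Φ.InBB (Φ.φ5 (wMat _)) (k * g * k⁻¹) := by
  obtain ⟨c1, -, -, -, c5, c6, -, -, -⟩ := reduce_D4
  have hA : half chevD4 ≤ ((pA * pB) (setupD4.spR oA) : ℕ) := reduce_D4.2.2.2.1
  have hBA : ∀ r : Root chevD4, pB r = setupD4.spR oA → half chevD4 ≤ (r : ℕ) := reduce_D4.2.1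
  have h1 := h.conj_nO oA (Φ.nO_mem_M₀ oB) (Φ.monBy_nO oB) hBA hA
  have hmon : MonBy setupD4.good (Φ.nO oA * Φ.nO oB * (Φ.nO oA)⁻¹) (pA * pB * pA) := by
    have := ((Φ.monBy_nO oA).mul (Φ.monBy_nO oB)).mul (Φ.monBy_nO oA).inv
    rwa [inv_eq_of_mul_eq_one_right reduce_D4.2.2.2.2.2.2.1] at this
  have h2 := h1.conj_nO oB
    (mul_mem (mul_mem (Φ.nO_mem_M₀ oA) (Φ.nO_mem_M₀ oB)) (inv_mem (Φ.nO_mem_M₀ oA))) hmon c5 c6
  refine ⟨Φ.nO oB * Φ.nO oA, mul_mem Φ.nB_mem_tG (Φ.nO_mem_tG oA), ?_⟩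
  have e : Φ.φ5 (wMat _) = Φ.nO oB * (Φ.nO oA * Φ.nO oB * (Φ.nO oA)⁻¹) * (Φ.nO oB)⁻¹ := by
    show Φ.kTop * Φ.φB (wMat _) * Φ.kTop⁻¹ = _
    rw [φB, rankHom_wMat, kTop]
    group
  rw [e]
  convert h2 using 1
  group

/-- The cell of `n_b n_a` reaches that of `n_b n_a n_b`. -/
theorem inBB_ba {g : GL chevD4.Idx K} (h : Φ.InBB (Φ.nO oB * Φ.nO oA) g) :
    ∃ k ∈ Φ.tG, Φ.InBB (Φ.nO oB * Φ.nO oA * (Φ.nO oB)⁻¹) (k * g * k⁻¹) := by
  obtain ⟨a, ha, b, hb, rfl⟩ := h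
  obtain ⟨-, cB, cAB, -, -, -, -, hBB, -⟩ := reduce_D4
  set nA := Φ.nO oA
  set nB := Φ.nO oB with hnB
  set x := Φ.φB (uMat _ (1 : Φ.admField (setupD4.spR oB))) with hx
  have hU : ∀ t : Φ.admField (setupD4.spR oB), Φ.φB (uMat _ t) ∈ Φ.B1 := fun t =>
    Subgroup.mem_sup_left (Φ.UP_le_U1 (by
      rw [φB, rankHom_uMat, oXB]; exact Φ.X_mem_UP (by simp) (Φ.fst_fixed _)))
  -- the rank one relation
  have hrel : nB * x * nB⁻¹ * (nB * nB) =
      Φ.φB (uMat _ (-1)) * nB * (Φ.φB (uMat _ (-1)) * (nB * nB)) := by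
    have : wMat (Φ.admField (setupD4.spR oB)) * uMat _ 1 * (wMat _)⁻¹ =
        uMat _ (-1) * wMat _ * uMat _ (-1) := by
      rw [vMat_conj]
      apply Subtype.ext; apply Matrix.ext; intro i j
      fin_cases i <;> fin_cases j <;>
        simp [uMat_val, vMat_val, wMat_val, Matrix.mul_apply, Fin.sum_univ_two]
    have h' := congrArg Φ.φB this
    simp only [map_mul, map_inv, φB, rankHom_wMat] at h'
    rw [hnB, hx, φB, h']
    group
  set β := b * a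
  have hβ : β ∈ Φ.B1 := mul_mem hb ha
  have hnm : MonBy setupD4.good nB⁻¹ pB := by
    have := (Φ.monBy_nO oB).inv
    rwa [inv_eq_of_mul_eq_one_right hBB] at this
  have h1 : Φ.InBB (nA * nB⁻¹) (nA * (β * x⁻¹ * nB⁻¹)) :=
    InBB.nO_mul ((InBB.self (Φ := Φ) nB⁻¹).lmul (mul_mem hβ (inv_mem (hU 1)))) oA
      (inv_mem (Φ.nO_mem_M₀ oB)) hnm cB
  have h2 := ((h1.lmul (mul_mem (hU (-1)) (Subgroup.mem_sup_right (Φ.nO_sq_mem oB)))).nO_mul oB
    (mul_mem (Φ.nO_mem_M₀ oA) (inv_mem (Φ.nO_mem_M₀ oB))) ((Φ.monBy_nO oA).mul hnm) cAB).lmul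
      (hU (-1))
  refine ⟨nB * x * a⁻¹, mul_mem (mul_mem Φ.nB_mem_tG (Φ.B1_le_tG (hU 1)))
    (inv_mem (Φ.B1_le_tG ha)), ?_⟩
  rw [show nB * nA * nB⁻¹ = nB * (nA * nB⁻¹) by group,
    show nB * x * a⁻¹ * (a * (nB * nA) * b) * (nB * x * a⁻¹)⁻¹ =
      nB * x * nB⁻¹ * (nB * nB) * (nA * (β * x⁻¹ * nB⁻¹)) by simp only [β]; group, hrel]
  convert h2 using 1
  simp only [nA, nB]
  group

/-- The reduction to the two big double cosets. -/
theorem exists_normalForm (hs : IsSimpleGroup ↥Φ.tG) {g : GL chevD4.Idx K} (hg : g ∈ Φ.tG)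
    (hg1 : g ≠ 1) : ∃ C, (C = Φ.nO oB * Φ.nO oA * Φ.nO oB ∨ C = Φ.φ5 (wMat _)) ∧
      ∃ k ∈ Φ.tG, ∃ l ∈ Φ.LA, ∃ u ∈ Φ.UP, k * g * k⁻¹ = C * l * u := by
  set nA := Φ.nO oA
  set nB := Φ.nO oB
  let NF : GL chevD4.Idx K → GL chevD4.Idx K → Prop := fun C g =>
    ∃ k ∈ Φ.tG, ∃ l ∈ Φ.LA, ∃ u ∈ Φ.UP, k * g * k⁻¹ = C * l * u
  have hPT : ∀ p ∈ Φ.PA, p ∈ Φ.tG := by
    rintro _ ⟨l, hl, u, hu, rfl⟩
    exact mul_mem (Φ.LA_le_tG hl) (Φ.UP_le_tG hu)
  -- a factor on each side is moved to the right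
  have hsides : ∀ C g p p', p ∈ Φ.PA → p' ∈ Φ.PA → g = p * C * p' → NF C g := by
    intro C g p p' hp hp' e
    obtain ⟨l, hl, u, hu, e'⟩ := Φ.PA.mul_mem hp' hp
    exact ⟨p⁻¹, inv_mem (hPT p hp), l, hl, u, hu, by rw [e, mul_assoc C l u, ← e']; group⟩
  have hbb : ∀ C g, Φ.InBB C g → NF C g := fun C g ⟨a, ha, b, hb, e⟩ =>
    hsides C g a b (Φ.B1_le_PA ha) (Φ.B1_le_PA hb) e
  have htrans : ∀ C g k, k ∈ Φ.tG → NF C (k * g * k⁻¹) → NF C g := by
    rintro C g k hk ⟨k', hk', l, hl, u, hu, e⟩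
    exact ⟨k' * k, mul_mem hk' hk, l, hl, u, hu, by rw [← e]; group⟩
  suffices h : NF (nB * nA * nB) g ∨ NF (Φ.φ5 (wMat _)) g by
    rcases h with h | h
    · exact ⟨_, Or.inl rfl, h⟩
    · exact ⟨_, Or.inr rfl, h⟩
  obtain ⟨k₀, hk₀, hout⟩ := Φ.exists_conj_not_mem_PA hs hg hg1
  suffices h : NF (nB * nA * nB) (k₀ * g * k₀⁻¹) ∨ NF (Φ.φ5 (wMat _)) (k₀ * g * k₀⁻¹) by
    exact h.imp (htrans _ g k₀ hk₀) (htrans _ g k₀ hk₀)
  have hg' : k₀ * g * k₀⁻¹ ∈ Φ.tG := mul_mem (mul_mem hk₀ hg) (inv_mem hk₀)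
  generalize k₀ * g * k₀⁻¹ = g' at hout hg' ⊢
  obtain ⟨v, hv, m, hm, w, hw, rfl⟩ := Φ.exists_decomp hg'
  obtain ⟨π, hπ, hmπ⟩ := Φ.exists_wList hm
  have hnA : nA ∈ Φ.PA := Φ.LA_le_PA Φ.nA_mem_LA
  -- the element is a representative between two elements of the parabolic
  have hrep : ∀ C ∈ Φ.M₀, ∀ τ, MonBy setupD4.good C τ →
      π ∈ [τ, pA * τ, τ * pA, pA * τ * pA] → NF C (v * m * w) := by
    intro C hC τ hτ hmem
    have main : ∀ s ∈ Φ.PA, ∀ t ∈ Φ.PA, s ∈ Φ.M₀ → t ∈ Φ.M₀ →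
        MonBy setupD4.good (s * C * t) π → NF C (v * m * w) := by
      intro s hs' t ht' hsM htM hmon
      have hin : (s * C * t)⁻¹ * m ∈ Φ.H₀ := by
        refine Φ.mem_H₀_of_monBy_one setupD4_faithful
          (mul_mem (inv_mem (mul_mem (mul_mem hsM hC) htM)) hm) ?_
        have := hmon.inv.mul hmπ
        rwa [inv_mul_cancel] at this
      refine hsides C _ (v * s) (t * ((s * C * t)⁻¹ * m) * w)
        (mul_mem (Φ.U1_le_PA hv) hs')
        (mul_mem (mul_mem ht' (Φ.LA_le_PA (Φ.H₀_le_LA hin))) (Φ.U1_le_PA hw)) ?_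
      group
    have hA := Φ.monBy_nO oA
    have h1 : MonBy setupD4.good (1 : GL chevD4.Idx K) 1 := monBy_diag setupD4.good (one_mem _)
    simp only [List.mem_cons, List.not_mem_nil, or_false] at hmem
    rcases hmem with rfl | rfl | rfl | rfl
    · exact main 1 (one_mem _) 1 (one_mem _) (one_mem _) (one_mem _) (by simpa using hτ)
    · exact main nA hnA 1 (one_mem _) (Φ.nO_mem_M₀ oA) (one_mem _) (by simpa using hA.mul hτ)
    · exact main 1 (one_mem _) nA hnA (one_mem _) (Φ.nO_mem_M₀ oA) (by simpa using hτ.mul hA)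
    · exact main nA hnA nA hnA (Φ.nO_mem_M₀ oA) (Φ.nO_mem_M₀ oA) ((hA.mul hτ).mul hA)
  have hmA := Φ.monBy_nO oA
  have hmB := Φ.monBy_nO oB
  simp only [wList, List.mem_cons, List.not_mem_nil, or_false] at hπ
  have hBAB : nB * nA * nB ∈ Φ.M₀ :=
    mul_mem (mul_mem (Φ.nO_mem_M₀ oB) (Φ.nO_mem_M₀ oA)) (Φ.nO_mem_M₀ oB)
  rcases hπ with h | h | h | h | h | h | h | h | h | h | h | h
  iterate 2
    · exfalso
      refine hout (mul_mem (mul_mem (Φ.U1_le_PA hv) ?_) (Φ.U1_le_PA hw))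
      first
        | exact Φ.LA_le_PA (Φ.H₀_le_LA (Φ.mem_H₀_of_monBy_one setupD4_faithful hm (h ▸ hmπ)))
        | have hin : nA * m ∈ Φ.H₀ := by
            refine Φ.mem_H₀_of_monBy_one setupD4_faithful (mul_mem (Φ.nO_mem_M₀ oA) hm) ?_
            have := hmA.mul hmπ
            rwa [h, reduce_D4.2.2.2.2.2.2.1] at this
          have := mul_mem (inv_mem hnA) (Φ.LA_le_PA (Φ.H₀_le_LA hin))
          rwa [inv_mul_cancel_left] at this
  iterate 4
    · -- the small cell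
      obtain ⟨k, hk, l, hl, u, hu, e⟩ := hrep nB (Φ.nO_mem_M₀ oB) pB hmB (by simp [h, mul_assoc])
      have hu' : u ∈ Φ.B1 := Subgroup.mem_sup_left (Φ.UP_le_U1 hu)
      rcases Φ.LA_cases hl with hlB | hlA
      · obtain ⟨k', hk', e'⟩ := Φ.inBB_b (g := k * (v * m * w) * k⁻¹)
          (by rw [e, mul_assoc]; exact (InBB.self (Φ := Φ) nB).rmul (mul_mem hlB hu'))
        exact Or.inr (htrans _ _ k hk (htrans _ _ k' hk' (hbb _ _ e')))
      · obtain ⟨k', hk', e'⟩ := Φ.inBB_ba (g := k * (v * m * w) * k⁻¹)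
          (by rw [e]; exact ((hlA.nO_mul oB (Φ.nO_mem_M₀ oA) hmA reduce_D4.1).rmul hu'))
        refine Or.inl (htrans _ _ k hk (htrans _ _ k' hk' ?_))
        obtain ⟨a, ha, b, hb, e''⟩ := e'
        refine hsides _ _ a ((nB * nB)⁻¹ * b) (Φ.B1_le_PA ha)
          (mul_mem (inv_mem (Φ.B1_le_PA (Subgroup.mem_sup_right (Φ.nO_sq_mem oB))))
            (Φ.B1_le_PA hb)) ?_
        rw [e'']
        simp only [nA, nB]
        group
  iterate 4
    · exact Or.inl (hrep _ hBAB _ ((hmB.mul hmA).mul hmB) (by simp [h, mul_assoc]))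
  iterate 2
    · refine Or.inr (hrep _ ?_ (pB * pA * pB * pA * pB) ?_ (by simp [h, mul_assoc]))
      · show Φ.kTop * Φ.φB (wMat _) * Φ.kTop⁻¹ ∈ Φ.M₀
        rw [φB, rankHom_wMat]
        exact mul_mem (mul_mem (mul_mem (Φ.nO_mem_M₀ oB) (Φ.nO_mem_M₀ oA)) (Φ.nO_mem_M₀ oB))
          (inv_mem (mul_mem (Φ.nO_mem_M₀ oB) (Φ.nO_mem_M₀ oA)))
      · obtain ⟨-, -, -, -, -, -, hA, hB, -⟩ := reduce_D4
        have einv : (setupD4.wR oB * setupD4.wR oA)⁻¹ = setupD4.wR oA * setupD4.wR oB :=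
          inv_eq_of_mul_eq_one_right (by rw [mul_assoc, ← mul_assoc (setupD4.wR oA), hA, one_mul, hB])
        have := ((hmB.mul hmA).mul hmB).mul (hmB.mul hmA).inv
        rw [einv, ← mul_assoc] at this
        show MonBy setupD4.good (Φ.kTop * Φ.φB (wMat _) * Φ.kTop⁻¹) _
        rw [φB, rankHom_wMat]
        exact this

end FieldTwist

end CfsgLib.GraphTwist
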