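import Mathlib

/-!
# Products of two matrices with characteristic polynomial `z² - z - 1` in characteristic three
-/

set_option autoImplicit false

namespace CfsgLib.D4SquareThree

open Matrix Polynomial
open scoped MatrixGroups

variable {F : Type*} [Field F]

/-- The companion matrix of `z² - z - 1`. -/
def Y0 : Matrix (Fin 2) (Fin 2) F := !![0, 1; 1, 1]

/-- The conjugates of `Y0` under `SL(2, F)`. -/
def YSet : Set (Matrix (Fin 2) (Fin 2) F) :=
  {Y | ∃ P : SL(2, F), Y = P.1 * Y0 * (P⁻¹).1}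

/-- `A` is a product of two conjugates of `Y0`. -/
def IsProd (A : Matrix (Fin 2) (Fin 2) F) : Prop :=
  ∃ P Q : SL(2, F), A = P.1 * Y0 * (P⁻¹).1 * (Q.1 * Y0 * (Q⁻¹).1)

theorem IsProd.conj {A : Matrix (Fin 2) (Fin 2) F} (h : IsProd A) (R : SL(2, F)) :
    IsProd (R.1 * A * (R⁻¹).1) := by
  obtain ⟨P, Q, rfl⟩ := h
  refine ⟨R * P, R * Q, ?_⟩
  have key : ∀ X : Matrix (Fin 2) (Fin 2) F, (R⁻¹).1 * (R.1 * X) = X := fun X => by
    rw [← Matrix.mul_assoc, ← Matrix.SpecialLinearGroup.coe_mul, inv_mul_cancel,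
      Matrix.SpecialLinearGroup.coe_one, Matrix.one_mul]
  simp only [_root_.mul_inv_rev, Matrix.SpecialLinearGroup.coe_mul, Matrix.mul_assoc, key]

variable [Finite F]

/-- A sum of two quadratic polynomials has a zero. -/
theorem exists_zero (h2 : ringChar F ≠ 2) (a c d e : F) (ha : a ≠ 0) (hc : c ≠ 0) :
    ∃ u v : F, a * u ^ 2 + (c * v ^ 2 + d * v + e) = 0 := by
  letI := Fintype.ofFinite F
  have hodd : Fintype.card F % 2 = 1 := FiniteField.odd_card_of_char_ne_two h2
  obtain ⟨u, v, huv⟩ := FiniteField.exists_root_sum_quadratic (R := F)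
    (f := C a * X ^ 2 + C 0 * X + C 0) (g := C c * X ^ 2 + C d * X + C e)
    (degree_quadratic ha) (degree_quadratic hc) hodd
  refine ⟨u, v, ?_⟩
  simpa using huv

variable (h3 : (3 : F) = 0) (hns : ¬ IsSquare (-1 : F))
include h3 hns

omit [Finite F] hns in
theorem ringChar_ne_two : ringChar F ≠ 2 := by
  intro h
  haveI : CharP F 2 := h ▸ ringChar.charP F
  have e : (2 : F) = 0 := CharP.ofNat_eq_zero F 2
  exact one_ne_zero (α := F) (by linear_combination h3 - e)

/-- Two matrices of trace `1` and determinant `-1` are conjugate under `SL(2, F)`. -/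
theorem mem_YSet {Y : Matrix (Fin 2) (Fin 2) F} (ht : Y 0 0 + Y 1 1 = 1)
    (hd : Y 0 0 * Y 1 1 - Y 0 1 * Y 1 0 = -1) : Y ∈ YSet := by
  have h11 : Y 1 1 = 1 - Y 0 0 := by linear_combination ht
  have ha : Y 1 0 ≠ 0 := by
    intro e
    refine hns ⟨2 * Y 0 0 - 1, ?_⟩
    rw [h11, e] at hd
    linear_combination (4 : F) * hd - (2 : F) * h3
  set dd := Y 1 1 - Y 0 0 with hdd
  set c := -Y 0 1 - dd * dd / (4 * Y 1 0) with hc
  have h4 : (4 : F) = 1 := by linear_combination h3
  have hc0 : c ≠ 0 := by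
    intro e
    rw [hc, h4, one_mul, sub_eq_zero] at e
    have e' : -Y 0 1 * Y 1 0 = dd * dd := by rw [e, div_mul_cancel₀ _ ha]
    rw [hdd, h11] at e'
    rw [h11] at hd
    have h20 : (2 : F) = 0 := by
      linear_combination (Y 0 1 * Y 1 0 - 1) * h3 - e' + (4 : F) * hd
    exact one_ne_zero (α := F) (by linear_combination h3 - h20)
  obtain ⟨u, v, huv⟩ := exists_zero (ringChar_ne_two h3) (Y 1 0) c 0 (-1) ha hc0
  set w := u - dd / (2 * Y 1 0) * v with hw
  have h20 : (2 : F) ≠ 0 := fun e => one_ne_zero (α := F) (by linear_combination h3 - e)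
  have hdet : w * (Y 1 0 * w + Y 1 1 * v) - v * (Y 0 0 * w + Y 0 1 * v) = 1 := by
    rw [hc] at huv
    rw [h4, one_mul] at huv
    rw [hw, hdd] at *
    field_simp at huv ⊢
    linear_combination (4 : F) * huv + ((Y 1 1 - Y 0 0) ^ 2 * v ^ 2) * h3
  let P : SL(2, F) := ⟨!![w, Y 0 0 * w + Y 0 1 * v; v, Y 1 0 * w + Y 1 1 * v], by
    rw [Matrix.det_fin_two_of]; linear_combination hdet⟩
  refine ⟨P, ?_⟩
  have e : P.1 * (P⁻¹).1 = (1 : Matrix (Fin 2) (Fin 2) F) := by
    rw [← Matrix.SpecialLinearGroup.coe_mul, mul_inv_cancel, Matrix.SpecialLinearGroup.coe_one]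
  have key : P.1 * Y0 = Y * P.1 := by
    ext i j
    fin_cases i <;> fin_cases j <;> simp [P, Y0, Matrix.mul_apply, Fin.sum_univ_two]
    · linear_combination -(Y 0 0 * w + Y 0 1 * v) * ht + w * hd
    · linear_combination -(Y 1 0 * w + Y 1 1 * v) * ht + v * hd
  rw [key, Matrix.mul_assoc, e, Matrix.mul_one]

/-- `-1` is a product. -/
theorem isProd_neg_one : IsProd (-1 : Matrix (Fin 2) (Fin 2) F) := by
  obtain ⟨P, hP⟩ := mem_YSet h3 hns (Y := Y0) (by simp [Y0]) (by simp [Y0])
  obtain ⟨Q, hQ⟩ := mem_YSet h3 hns (Y := (!![1, -1; -1, 0] : Matrix (Fin 2) (Fin 2) F)) (by simp)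
    (by simp)
  refine ⟨P, Q, ?_⟩
  rw [← hP, ← hQ]
  ext i j
  fin_cases i <;> fin_cases j <;> simp [Y0, Matrix.mul_apply, Fin.sum_univ_two]

/-- A non-scalar matrix of trace `≠ 1` with lower left entry. -/
theorem isProd_of_col {A : SL(2, F)} (h00 : A.1 0 0 = 0) (hT : A.1 1 1 ≠ 1) : IsProd A.1 := by
  have hdA := A.2
  rw [Matrix.det_fin_two, h00, zero_mul, zero_sub] at hdA
  set e := A.1 1 0 with he
  set T := A.1 1 1 with hTdef
  have he0 : e ≠ 0 := fun h => by rw [h, mul_zero, neg_zero] at hdA; exact zero_ne_one hdA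
  obtain ⟨W, y, hWy⟩ : ∃ W y : F, 1 * W ^ 2 + ((1 - T ^ 2) * y ^ 2 + (T - 1) * y + 1) = 0 := by
    by_cases h : 1 - T ^ 2 = 0
    · have hT' : T = -1 := by
        rcases mul_eq_zero.1 (show (1 - T) * (1 + T) = 0 by linear_combination h) with h' | h'
        · exact absurd (sub_eq_zero.1 h').symm hT
        · linear_combination h'
      refine ⟨0, -1, ?_⟩
      rw [hT']
      linear_combination h3
    · exact exists_zero (ringChar_ne_two h3) 1 _ _ _ one_ne_zero h
  set Z := W - y * T - 1 with hZ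
  have hconic : Z * (Z - y * T - 1) = y - y ^ 2 + 1 := by
    rw [hZ]
    linear_combination hWy - (W * y * T + W - y ^ 2 * T ^ 2 - y * T) * h3
  set Y1 : Matrix (Fin 2) (Fin 2) F := !![y, Z / e; e * (Z - y * T - 1), 1 - y] with hY1
  have hd1 : y * (1 - y) - Z / e * (e * (Z - y * T - 1)) = -1 := by
    rw [← mul_assoc, div_mul_cancel₀ _ he0]
    linear_combination -hconic
  set Y2 : Matrix (Fin 2) (Fin 2) F := (Y1 - 1) * A.1 with hY2
  obtain ⟨P, hP⟩ := mem_YSet h3 hns (Y := Y1) (by simp [Y1]) (by simpa [Y1] using hd1)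
  obtain ⟨Q, hQ⟩ := mem_YSet h3 hns (Y := Y2) (by
      simp [Y2, Y1, Matrix.mul_apply, Fin.sum_univ_two, Matrix.sub_apply, h00, ← he, ← hTdef]
      field_simp
      linear_combination -(Z - y * T - 1) * hdA) (by
      simp [Y2, Y1, Matrix.mul_apply, Fin.sum_univ_two, Matrix.sub_apply, h00, ← he, ← hTdef]
      field_simp
      linear_combination (A.1 0 1 * e) * hconic - hdA)
  refine ⟨P, Q, ?_⟩
  rw [← hP, ← hQ, hY2]
  have : Y1 * (Y1 - 1) = 1 := by
    rw [Matrix.mul_sub, Matrix.mul_one]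
    ext i j
    fin_cases i <;> fin_cases j <;>
      simp [Y1, Matrix.mul_apply, Fin.sum_univ_two, Matrix.sub_apply]
    all_goals field_simp
    · linear_combination hconic
    · ring
    · ring
    · linear_combination hconic
  rw [← Matrix.mul_assoc, this, Matrix.one_mul]

/-- Of a matrix and its negative one is a product. -/
theorem isProd_or_neg (A : SL(2, F)) : IsProd A.1 ∨ IsProd (-A).1 := by
  have hconj : ∀ (B R : SL(2, F)), IsProd (R * B * R⁻¹).1 → IsProd B.1 := fun B R h => by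
    have := h.conj R⁻¹
    rwa [← Matrix.SpecialLinearGroup.coe_mul, ← Matrix.SpecialLinearGroup.coe_mul,
      show R⁻¹ * (R * B * R⁻¹) * R⁻¹⁻¹ = B by group] at this
  have hcol : ∀ B : SL(2, F), B.1 1 0 ≠ 0 → B.1 0 0 + B.1 1 1 ≠ 1 → IsProd B.1 := by
    intro B hB hT
    let R : SL(2, F) := ⟨!![1, -(B.1 0 0 / B.1 1 0); 0, 1], by simp [Matrix.det_fin_two_of]⟩
    refine hconj B R (isProd_of_col h3 hns ?_ ?_)
    · rw [Matrix.SpecialLinearGroup.coe_mul, Matrix.SpecialLinearGroup.coe_mul, Matrix.SpecialLinearGroup.coe_inv]; simp [R, Matrix.adjugate_fin_two, Matrix.mul_apply,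
        Fin.sum_univ_two, Matrix.vecMul, dotProduct]
      field_simp
      ring
    · rw [Matrix.SpecialLinearGroup.coe_mul, Matrix.SpecialLinearGroup.coe_mul, Matrix.SpecialLinearGroup.coe_inv]; simp [R, Matrix.adjugate_fin_two, Matrix.mul_apply,
        Fin.sum_univ_two, Matrix.vecMul, dotProduct]
      field_simp
      exact fun e => hT (by linear_combination e)
  have hns' : ∀ B : SL(2, F), (B.1 0 1 ≠ 0 ∨ B.1 1 0 ≠ 0 ∨ B.1 0 0 ≠ B.1 1 1) →
      B.1 0 0 + B.1 1 1 ≠ 1 → IsProd B.1 := by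
    intro B h hT
    by_cases h10 : B.1 1 0 = 0
    · by_cases h01 : B.1 0 1 = 0
      · have hd : B.1 0 0 ≠ B.1 1 1 := (h.resolve_left (fun e => e h01)).resolve_left
          (fun e => e h10)
        let R : SL(2, F) := ⟨!![1, 0; 1, 1], by simp [Matrix.det_fin_two_of]⟩
        refine hconj B R (hcol _ ?_ ?_)
        · rw [Matrix.SpecialLinearGroup.coe_mul, Matrix.SpecialLinearGroup.coe_mul, Matrix.SpecialLinearGroup.coe_inv]; simp [R, Matrix.adjugate_fin_two, Matrix.mul_apply,
            Fin.sum_univ_two, Matrix.vecMul, dotProduct, h01, h10]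
          exact fun e => hd (by linear_combination e)
        · rw [Matrix.SpecialLinearGroup.coe_mul, Matrix.SpecialLinearGroup.coe_mul, Matrix.SpecialLinearGroup.coe_inv]; simp [R, Matrix.adjugate_fin_two, Matrix.mul_apply,
            Fin.sum_univ_two, Matrix.vecMul, dotProduct, h01, h10]
          exact fun e => hT (by linear_combination e)
      · let R : SL(2, F) := ⟨!![0, 1; -1, 0], by simp [Matrix.det_fin_two_of]⟩
        refine hconj B R (hcol _ ?_ ?_)
        · rw [Matrix.SpecialLinearGroup.coe_mul, Matrix.SpecialLinearGroup.coe_mul, Matrix.SpecialLinearGroup.coe_inv]; simp [R, Matrix.adjugate_fin_two, Matrix.mul_apply,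
            Fin.sum_univ_two, Matrix.vecMul, dotProduct, h01]
        · rw [Matrix.SpecialLinearGroup.coe_mul, Matrix.SpecialLinearGroup.coe_mul, Matrix.SpecialLinearGroup.coe_inv]; simp [R, Matrix.adjugate_fin_two, Matrix.mul_apply,
            Fin.sum_univ_two, Matrix.vecMul, dotProduct]
          exact fun e => hT (by linear_combination e)
    · exact hcol B h10 hT
  by_cases h : A.1 0 1 ≠ 0 ∨ A.1 1 0 ≠ 0 ∨ A.1 0 0 ≠ A.1 1 1
  · by_cases hT : A.1 0 0 + A.1 1 1 = 1
    · refine Or.inr (hns' (-A) ?_ ?_)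
      · simpa using h
      · simp only [Matrix.SpecialLinearGroup.coe_neg, Matrix.neg_apply]
        intro e
        exact one_ne_zero (α := F) (by linear_combination h3 + hT + e)
    · exact Or.inl (hns' A h hT)
  · push Not at h
    obtain ⟨h01, h10, heq⟩ := h
    have hd := A.2
    rw [Matrix.det_fin_two, h01, zero_mul, sub_zero, ← heq] at hd
    rcases mul_self_eq_one_iff.1 hd with e | e
    · right
      convert isProd_neg_one h3 hns
      ext i j
      fin_cases i <;> fin_cases j <;> simp [h01, h10, ← heq, e]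
    · left
      convert isProd_neg_one h3 hns
      ext i j
      fin_cases i <;> fin_cases j <;> simp [h01, h10, ← heq, e]

end CfsgLib.D4SquareThree
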