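import Cfsg.Agent.D4Square.LevelOne
import Cfsg.Agent.D4Square.ThreeMatrices

/-!
# A semisimple class covering `³D₄(3)`
-/

set_option autoImplicit false
set_option linter.style.haveILetI false
set_option linter.unusedSectionVars false
set_option maxRecDepth 8000

namespace CfsgLib.GraphTwist

open Cfsg.Lie CfsgLib.Chevalley CfsgLib.SchurBN CfsgLib.D4SquareThree
open CfsgLib.Chevalley.RankOneRel (uMat vMat wMat uMat_val vMat_val wMat_val)
open scoped MatrixGroups

theorem short_neg_D4 : ∀ j < 3,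
    rt 0 ≠ (setupD4.σR ^ j) (setupD4.spR oA).rev ∧
      rt 0 ≠ ((setupD4.σR ^ j) (setupD4.spR oA).rev).rev ∧
      chevD4.commTerms ((setupD4.σR ^ j) (setupD4.spR oA).rev : Root chevD4) (rt 0) = [] := by
  decide +kernel

theorem top_rep_D4 : setupD4.rep ⟨5, by decide +kernel⟩ = topD4 ∧ setupD4.osize topD4 = 1 ∧
    topD4 = rt 23 ∧ (rt 23).rev = rt 0 ∧ setupD4.norb = 6 := by
  decide +kernel

namespace FieldTwist

variable {K : Type*} [Field K] (Φ : FieldTwist setupD4 K)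

/-- The short rank one subgroup commutes with the lowest root group. -/
theorem commute_φA_bot (A : SL(2, K)) (t : K) :
    Commute (Φ.φA A) (X setupD4.good.good (rt 0) t) := by
  have hC : (Subgroup.centralizer {X setupD4.good.good (rt 0) t}).comap Φ.φA = ⊤ := by
    refine sl2_top_of_mem (fun s => Subgroup.mem_comap.2 (Subgroup.mem_centralizer_singleton_iff.2 ?_))
      (fun s => Subgroup.mem_comap.2 (Subgroup.mem_centralizer_singleton_iff.2 ?_))
    · rw [φA_uMat]
      exact (Φ.commute_oXA (by simp) s t).eq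
    · rw [φA_vMat]
      show Commute _ _
      have h3 : setupD4.osize (setupD4.spR oA).rev = 3 := by decide +kernel
      rw [oX, h3]
      refine Commute.list_prod_left _ _ fun z hz => ?_
      obtain ⟨j, hj, rfl⟩ := List.mem_map.1 hz
      obtain ⟨h1, h2, hnil⟩ := short_neg_D4 j (List.mem_range.1 hj)
      rw [Ψ_pow_X]
      exact commute_nil h2 h1 hnil _ _
  exact Subgroup.mem_centralizer_singleton_iff.1
    (hC ▸ Subgroup.mem_top A : A ∈ (Subgroup.centralizer {X setupD4.good.good (rt 0) t}).comap Φ.φA)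

variable [Finite K]

/-- In the radical, a torus element moving all orbits but the top one fixes only that one. -/
theorem eq_top_of_commute {c : Fin chevD4.rank → Kˣ} (hc : c ∈ Φ.fixC)
    (h : ∀ i : Fin setupD4.norb, 1 ≤ (i : ℕ) → (i : ℕ) < 5 →
      ChevSimple.chi c (setupD4.rep i) ≠ 1)
    {g : GL chevD4.Idx K} (hg : g ∈ Φ.UP) (hcomm : torC chevD4 c * g = g * torC chevD4 c) :
    ∃ t : K, g = X setupD4.good.good topD4 t := by
  classical
  obtain ⟨u, hu⟩ := setupD4.exists_tailMul (setupD4.norb - 1) 1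
    (by rw [top_rep_D4.2.2.2.2]) g hg.1
  set t : Root chevD4 → K := fun r => if 1 ≤ setupD4.cfg.orbPos r then u r else 0 with ht
  have hgt : setupD4.tailMul 0 t = g := by
    rw [setupD4.tailMul_of_support (i := 1) (by rw [top_rep_D4.2.2.2.2]; norm_num)
      (fun r _ hr' => if_neg (by omega)), ← hu]
    exact setupD4.tailMul_congr fun r _ hr' => if_pos hr'
  have horb : ∀ r (u : Root chevD4 → K), torC chevD4 c * setupD4.orbMul r u * (torC chevD4 c)⁻¹ =
      setupD4.orbMul r fun a => (ChevSimple.chi c a : K) * u a := by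
    intro r u
    rw [Setup.orbMul, Setup.orbMul, ← MulAut.conj_apply, map_list_prod, List.map_map]
    exact congrArg List.prod (List.map_congr_left fun a _ => by
      rw [Function.comp_apply, MulAut.conj_apply, ChevSimple.torC_conj_X setupD4.good.good])
  have htail : torC chevD4 c * setupD4.tailMul 0 t * (torC chevD4 c)⁻¹ =
      setupD4.tailMul 0 fun a => (ChevSimple.chi c a : K) * t a := by
    rw [Setup.tailMul, Setup.tailMul, ← MulAut.conj_apply, map_list_prod, List.map_map]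
    refine congrArg List.prod (List.map_congr_left fun j _ => ?_)
    rw [Function.comp_apply, MulAut.conj_apply, Setup.factor, Setup.factor]
    split
    · exact horb _ _
    · simp
  have e : setupD4.tailMul 0 (fun a => (ChevSimple.chi c a : K) * t a) = setupD4.tailMul 0 t := by
    rw [← htail, hgt, hcomm, mul_inv_cancel_right]
  have hne : ∀ r : Root chevD4, half chevD4 ≤ (r : ℕ) → setupD4.cfg.orbPos r < 5 → t r = 0 := by
    intro r hr hr5
    by_cases h1 : 1 ≤ setupD4.cfg.orbPos r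
    · have he := setupD4.tailMul_injective e hr
      obtain ⟨hlt, hm⟩ := setupD4.exists_orbPos hr
      obtain ⟨j, ej⟩ := setupD4.mem_orb_iff.1 hm
      have hχ : ChevSimple.chi c r ≠ 1 := by
        rw [← ej]
        clear ej
        induction j with
        | zero => exact h _ h1 hr5
        | succ j ih =>
          rw [pow_succ', Equiv.Perm.mul_apply, Φ.chi_σR hc]
          intro e'
          refine ih (Units.ext (Φ.f.injective ?_))
          rw [Units.val_one, map_one]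
          exact congrArg Units.val e'
      by_contra h0
      exact hχ (Units.ext ((mul_eq_right₀ h0).1 he))
    · exact if_neg h1
  refine ⟨t topD4, ?_⟩
  rw [← hgt, setupD4.tailMul_of_support (i := 5) (by rw [top_rep_D4.2.2.2.2]; norm_num) hne,
    show setupD4.tailMul 5 t = _ from setupD4.tailMul_succ ⟨5, by decide +kernel⟩ t]
  have e6 : setupD4.tailMul (5 + 1) t = 1 := by
    rw [show (5 + 1 : ℕ) = setupD4.norb from top_rep_D4.2.2.2.2.symm, setupD4.tailMul_norb]
  have horb1 : setupD4.orb topD4 = [topD4] := by decide +kernel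
  rw [e6, top_rep_D4.1, mul_one, Setup.orbMul, horb1, List.map_singleton, List.prod_singleton]

/-- A semisimple class covering `³D₄(3)`. -/
theorem exists_class_three {q : ℕ} (hf : ∀ x, Φ.f x = x ^ q)
    (h3 : (3 : K) = 0) (hns : ¬ IsSquare (-1 : K)) (hs : IsSimpleGroup ↥Φ.tG) :
    ∃ x ∈ Φ.tG, x ^ 8 = 1 ∧ ∀ g ∈ Φ.tG, g ≠ 1 →
      ∃ a ∈ Φ.tG, ∃ b ∈ Φ.tG, g = (a * x * a⁻¹) * (b * x * b⁻¹) := by
  classical
  have h1 : Φ.fU (-1) = -1 := Units.ext (by simp [fU])
  have h11 : Φ.fU 1 = 1 := map_one _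
  have h20 : (2 : K) ≠ 0 := fun e => one_ne_zero (α := K) (by linear_combination h3 - e)
  have hm1 : (-1 : Kˣ) ≠ 1 := fun e => h20 (by
    have := congrArg Units.val e
    rw [Units.val_neg, Units.val_one] at this
    linear_combination -this)
  -- the torus part
  have hadm : ∀ o : Fin 2, Φ.AdmU (setupD4.spR o) ((![(-1 : Kˣ), 1] : Fin 2 → Kˣ) o) := fun o _ => by
    fin_cases o
    · exact h1
    · exact h11
  obtain ⟨c0, hc0, hv⟩ := Φ.exists_fixC_chi (kerD4_card Φ) fun o : Fin 2 => ⟨_, hadm o⟩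
  have hXA : ChevSimple.chi c0 (setupD4.spR oA) = -1 := hv (0 : Fin 2)
  have hYB : ChevSimple.chi c0 (setupD4.spR oB) = 1 := hv (1 : Fin 2)
  have htop : ChevSimple.chi c0 topD4 = -1 := by
    rw [Φ.chi_top hc0 _ _ hXA hYB, h1, h1]; simp
  set h0 := torC chevD4 c0 with hh0
  have hh0H : h0 ∈ Φ.H₀ := ⟨c0, hc0, rfl⟩
  have hsq : h0 * h0 = 1 := by
    rw [hh0, ← torC_mul, Φ.fixC_ext_sq (mul_mem hc0 hc0) (one_mem _)
      (by rw [chi_mul', hXA, neg_mul_neg, one_mul]; simp [ChevSimple.chi])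
      (by rw [chi_mul', hYB, one_mul]; simp [ChevSimple.chi])]
    exact map_one (torHom chevD4 K)
  obtain ⟨l, hl, hl'⟩ := Φ.exists_scale_φA hh0H
  obtain rfl : l = -1 := by rw [hl' c0 hc0 rfl, hXA]
  set S : SL(2, K) →* SL(2, K) := scaleHom (-1 : Kˣ) with hS
  have hmove : ∀ A, Φ.φA A * h0 = h0 * Φ.φA (S A) := fun A => by
    rw [← hl, show h0⁻¹ = h0 from inv_eq_of_mul_eq_one_left hsq]
    rw [← mul_assoc, ← mul_assoc, hsq, one_mul]
  let D : Matrix (Fin 2) (Fin 2) K := !![-1, 0; 0, 1]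
  have hSD : ∀ A : SL(2, K), (S A).1 = D * A.1 * D := fun A => by
    ext i j
    fin_cases i <;> fin_cases j <;>
      simp [S, D, scaleHom_val, Matrix.mul_apply, Fin.sum_univ_two, Matrix.vecMul, dotProduct]
  let M : SL(2, K) := ⟨!![0, -1; 1, 1], by simp [Matrix.det_fin_two_of]⟩
  have hDY : M.1 = D * Y0 := by
    ext i j
    fin_cases i <;> fin_cases j <;> simp [M, D, Y0, Matrix.mul_apply, Fin.sum_univ_two]
  have hDD : D * D = 1 := by
    ext i j
    fin_cases i <;> fin_cases j <;> simp [D, Matrix.mul_apply, Fin.sum_univ_two]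
  set x := h0 * Φ.φA M with hx
  have hxLA : x ∈ Φ.LA := ⟨h0, hh0H, M, rfl⟩
  have hx2 : x * x = Φ.φA (S M * M) := by
    rw [hx, show h0 * Φ.φA M * (h0 * Φ.φA M) = h0 * (Φ.φA M * h0) * Φ.φA M by group, hmove,
      ← mul_assoc, hsq, one_mul, map_mul]
  have hDD' : ∀ X : Matrix (Fin 2) (Fin 2) K, D * (D * X) = X := fun X => by
    rw [← Matrix.mul_assoc, hDD, Matrix.one_mul]
  have hM4 : (S M * M) * (S M * M) = -1 := by
    apply Subtype.ext
    simp only [Matrix.SpecialLinearGroup.coe_mul, hSD, hDY, Matrix.mul_assoc, hDD',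
      Matrix.SpecialLinearGroup.coe_neg, Matrix.SpecialLinearGroup.coe_one]
    ext i j
    fin_cases i <;> fin_cases j <;> simp [Y0, Matrix.mul_apply, Fin.sum_univ_two]
    all_goals first | linear_combination h3 | linear_combination (2 : K) * h3
  have hx4 : x ^ 4 = Φ.φA (-1) := by
    rw [show (4 : ℕ) = 2 + 2 from rfl, pow_add, sq, hx2, ← map_mul, hM4]
  obtain ⟨z, hz, ez, za, zb⟩ := Φ.exists_φA_hMat (-1)
  rw [hMat_neg_one, ← hx4] at ez
  rw [neg_one_sq] at za
  have zb' : ChevSimple.chi z (setupD4.spR oB) = -1 := by rw [zb, h1, h1]; simp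
  have hzrep : ∀ i : Fin setupD4.norb, 1 ≤ (i : ℕ) → (i : ℕ) < 5 →
      ChevSimple.chi z (setupD4.rep i) ≠ 1 := by
    intro i hi hi'
    rw [chi_rep Φ hz i 1 (-1) za zb']
    fin_cases i <;> first
      | (simp at hi; done)
      | (simp at hi'; done)
      | simp [repCoef, h11, hm1]
  have hdelta : Delta x (-1) := by
    have := (delta_torC c0).mul (Φ.delta_φA M)
    rw [htop, mul_one, Units.val_neg, Units.val_one] at this
    exact this
  -- fixed points in the two radicals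
  have hxz : ∀ g : GL chevD4.Idx K, x * g = g * x → torC chevD4 z * g = g * torC chevD4 z :=
    fun g hg => by
      rw [← ez]
      exact ((show Commute x g from hg).pow_left 4).eq
  have hfix1 : ∀ n ∈ Φ.UP, x * n = n * x → n = 1 := by
    intro n hn hcomm
    obtain ⟨t, rfl⟩ := Φ.eq_top_of_commute hz hzrep hn (hxz _ hcomm)
    have e := hdelta t
    rw [hcomm, mul_inv_cancel_right] at e
    have := X_injective setupD4.good.good _ e
    have h0t : t = 0 := by
      rcases mul_eq_zero.1 (show (2 : K) * t = 0 by linear_combination this) with h | h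
      · exact absurd h h20
      · exact h
    rw [h0t, X_zero]
  have hfix2 : ∀ n ∈ Φ.UN, x * n = n * x → n = 1 := by
    intro n hn hcomm
    obtain ⟨π, hπ, hrev⟩ := Φ.g0_mon
    obtain ⟨z', hz', ez'⟩ := Φ.conj_H₀ hπ.inv (inv_mem Φ.g0_mem_fix) ⟨z, hz, rfl⟩
    have ez'' : Φ.g0⁻¹ * torC chevD4 z * Φ.g0 = torC chevD4 z' := by
      rw [inv_inv] at ez'; exact ez'.symm
    have hzrep' : ∀ i : Fin setupD4.norb, 1 ≤ (i : ℕ) → (i : ℕ) < 5 →
        ChevSimple.chi z' (setupD4.rep i) ≠ 1 := by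
      intro i hi hi'
      have hπr : π⁻¹ (setupD4.rep i).rev = setupD4.rep i := by
        rw [show π⁻¹ (setupD4.rep i).rev = setupD4.rep i ↔ (setupD4.rep i).rev = π (setupD4.rep i)
          from Equiv.symm_apply_eq π, hrev]
      have := chi_conj hπ.inv (by rwa [inv_inv]) (setupD4.rep i).rev
      rw [hπr, chi_rev setupD4.good.good] at this
      rw [this, ne_eq, inv_eq_one]
      exact hzrep i hi hi'
    have hn' := Φ.mem_UN.1 hn
    obtain ⟨t, et⟩ := Φ.eq_top_of_commute hz' hzrep' hn' (by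
      rw [← ez'', show ∀ a y g : GL chevD4.Idx K, a⁻¹ * y * a * (a⁻¹ * g * a) = a⁻¹ * (y * g) * a
        from fun a y g => by group, hxz n hcomm]
      group)
    obtain ⟨d, hd⟩ := hπ.conj_X topD4
    have hn0 : n = X setupD4.good.good (rt 0) ((d : K) * t) := by
      rw [← top_rep_D4.2.2.2.1, ← top_rep_D4.2.2.1, ← hrev, ← hd, ← et]
      group
    have e : x * X setupD4.good.good (rt 0) ((d : K) * t) * x⁻¹ =
        X setupD4.good.good (rt 0) (-((d : K) * t)) := by
      rw [hx, show ∀ a b y : GL chevD4.Idx K, a * b * y * (a * b)⁻¹ = a * (b * y * b⁻¹) * a⁻¹ from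
        fun a b y => by group, (Φ.commute_φA_bot M _).eq, mul_inv_cancel_right, hh0,
        ChevSimple.torC_conj_X setupD4.good.good]
      have : ChevSimple.chi c0 (rt 0) = -1 := by
        rw [← top_rep_D4.2.2.2.1, ← top_rep_D4.2.2.1, chi_rev setupD4.good.good, htop]
        simp
      rw [this, Units.val_neg, Units.val_one, neg_one_mul]
    rw [← hn0, hcomm, mul_inv_cancel_right, hn0] at e
    have := X_injective setupD4.good.good _ e
    have h0t : (d : K) * t = 0 := by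
      rcases mul_eq_zero.1 (show (2 : K) * ((d : K) * t) = 0 by linear_combination this) with h | h
      · exact absurd h h20
      · exact h
    rw [hn0, h0t, X_zero]
  have hxt : x ∈ Φ.tG := Φ.LA_le_tG hxLA
  refine ⟨x, hxt, ?_, fun g hg hg1 => ?_⟩
  · rw [show (8 : ℕ) = 4 + 4 from rfl, pow_add, hx4, ← map_mul, neg_mul_neg, one_mul, map_one]
  obtain ⟨A, hA, hA'⟩ := Φ.exists_inCell_pm hf hs hg hg1
  obtain ⟨B, hB, hBp⟩ : ∃ B : SL(2, K), Φ.InCell g (Φ.φA B) ∧ IsProd B.1 := by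
    rcases isProd_or_neg h3 hns A with h | h
    · exact ⟨A, hA, h⟩
    · exact ⟨-A, hA', h⟩
  obtain ⟨P, Q, hPQ⟩ := hBp
  have hB' : Φ.φA B = Φ.φA P * x * (Φ.φA P)⁻¹ * (Φ.φA Q * x * (Φ.φA Q)⁻¹) := by
    have e : Φ.φA P * x * (Φ.φA P)⁻¹ * (Φ.φA Q * x * (Φ.φA Q)⁻¹) =
        Φ.φA (S (S P * M * P⁻¹) * (S Q * M * Q⁻¹)) := by
      have e1 : ∀ R : SL(2, K), Φ.φA R * x * (Φ.φA R)⁻¹ = h0 * Φ.φA (S R * M * R⁻¹) := fun R => by
        rw [hx, ← mul_assoc (Φ.φA R), hmove, map_mul, map_mul, map_inv]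
        group
      rw [e1, e1, show ∀ a b : GL chevD4.Idx K, h0 * a * (h0 * b) = h0 * (a * h0) * b from
        fun a b => by group, hmove, ← mul_assoc, hsq, one_mul, ← map_mul]
    rw [e]
    congr 1
    apply Subtype.ext
    rw [hPQ]
    simp only [Matrix.SpecialLinearGroup.coe_mul, hSD, hDY, Matrix.mul_assoc, hDD']
  obtain ⟨k, hk, v, hv, u, hu, ek⟩ := hB
  have hPL := Φ.φA_mem_LA P
  have hQL := Φ.φA_mem_LA Q
  have hnorm1 : ∀ R : SL(2, K), ∀ n ∈ Φ.UN,
      Φ.φA R * x * (Φ.φA R)⁻¹ * n * (Φ.φA R * x * (Φ.φA R)⁻¹)⁻¹ ∈ Φ.UN := fun R n hn =>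
    Φ.conj_UN (mul_mem (mul_mem (Φ.φA_mem_LA R) hxLA) (inv_mem (Φ.φA_mem_LA R))) hn
  have hnorm2 : ∀ R : SL(2, K), ∀ n ∈ Φ.UP,
      Φ.φA R * x * (Φ.φA R)⁻¹ * n * (Φ.φA R * x * (Φ.φA R)⁻¹)⁻¹ ∈ Φ.UP := fun R n hn =>
    Φ.conj_UP (mul_mem (mul_mem (Φ.φA_mem_LA R) hxLA) (inv_mem (Φ.φA_mem_LA R))) hn
  have hfixR : ∀ (N : Subgroup (GL chevD4.Idx K)),
      (∀ k ∈ Φ.LA, ∀ n ∈ N, k * n * k⁻¹ ∈ N) → (∀ n ∈ N, x * n = n * x → n = 1) →
      ∀ R : SL(2, K), ∀ n ∈ N, Φ.φA R * x * (Φ.φA R)⁻¹ * n = n * (Φ.φA R * x * (Φ.φA R)⁻¹) →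
        n = 1 := by
    intro N hN hfix R n hn hcomm
    have := hfix _ (hN _ (inv_mem (Φ.φA_mem_LA R)) n hn) (by
      rw [inv_inv, show ∀ r : GL chevD4.Idx K,
        x * (r⁻¹ * n * r) = r⁻¹ * (r * x * r⁻¹ * n) * r from fun r => by group, hcomm]
      group)
    rw [inv_inv] at this
    calc n = Φ.φA R * ((Φ.φA R)⁻¹ * n * Φ.φA R) * (Φ.φA R)⁻¹ := by group
      _ = 1 := by rw [this]; group
  obtain ⟨a, ha, b, hb, eab⟩ := Φ.twoConj_cell' Φ.UN_le_tG Φ.UP_le_tG
    (mul_mem (mul_mem (Φ.LA_le_tG hPL) hxt) (inv_mem (Φ.LA_le_tG hPL)))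
    (mul_mem (mul_mem (Φ.LA_le_tG hQL) hxt) (inv_mem (Φ.LA_le_tG hQL)))
    (hnorm1 P) (hfixR Φ.UN (fun k hk n hn => Φ.conj_UN hk hn) hfix2 P)
    (hnorm2 Q) (hfixR Φ.UP (fun k hk n hn => Φ.conj_UP hk hn) hfix1 Q) hv hu
  refine Φ.twoConj_transfer hk ek ⟨a * Φ.φA P, mul_mem ha (Φ.LA_le_tG hPL), b * Φ.φA Q,
    mul_mem hb (Φ.LA_le_tG hQL), ?_⟩
  rw [hB', eab]
  group

end FieldTwist

end CfsgLib.GraphTwist
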