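import Cfsg.Agent.D4Square.LevelOne

/-!
# `³D₄(2)`: the long Levi subgroup, its parabolic and the element of order `21`
-/

set_option autoImplicit false
set_option linter.style.haveILetI false
set_option linter.unusedSectionVars false
set_option maxRecDepth 8000

namespace CfsgLib.GraphTwist

open Cfsg.Lie CfsgLib.Chevalley CfsgLib.SchurBN
open CfsgLib.Chevalley.RankOneRel (uMat vMat wMat uMat_val vMat_val wMat_val)
open scoped MatrixGroups

theorem two_D4 :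
    setupD4.wR oA (rt 23) = rt 23 ∧ setupD4.wR oB (rt 22) = rt 23 ∧
    setupD4.wR oB (rt 23) = rt 22 ∧
    setupD4.compl oB ⊆ {r : Root chevD4 | half chevD4 ≤ (r : ℕ)} ∧
    (∀ r : Root chevD4, half chevD4 ≤ (r : ℕ) → setupD4.cfg.orbPos r = 4 →
      r = rt 22) ∧
    (∀ r : Root chevD4, half chevD4 ≤ (r : ℕ) → setupD4.cfg.orbPos r = 5 →
      r = rt 23) ∧
    (∀ r : Root chevD4, half chevD4 ≤ (r : ℕ) → setupD4.cfg.orbPos r = 1 →
      r = rt 14) ∧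
    setupD4.cfg.orbPos (rt 14) = 1 ∧ setupD4.cfg.orbPos (rt 22) = 4 ∧
    setupD4.cfg.orbPos (rt 23) = 5 ∧
    ((setupD4.wR oA * setupD4.wR oB * setupD4.wR oA * setupD4.wR oB * setupD4.wR oA) (rt 23)
      = rt 1) := by
  refine ⟨?_, ?_, ?_, fun r hr => hr.1, ?_, ?_, ?_, ?_, ?_, ?_, ?_⟩ <;> decide +kernel

theorem two_comm_D4 :
    (chevD4.commTerms (rt 14) (rt 22)).map Prod.fst = [23] ∧ rt 22 ≠ rt 14 ∧
      rt 22 ≠ (rt 14).rev ∧
    chevD4.commTerms (rt 14) (rt 23) = [] ∧ rt 23 ≠ (rt 14).rev ∧ rt 23 ≠ rt 14 ∧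
    chevD4.commTerms (rt 22) (rt 9) = [] ∧ rt 9 ≠ (rt 22).rev ∧ rt 9 ≠ rt 22 ∧
    (chevD4.commTerms (rt 23) (rt 9)).map Prod.fst = [22] ∧ rt 9 ≠ rt 23 ∧
      rt 9 ≠ (rt 23).rev ∧
    chevD4.commTerms (rt 22) (rt 23) = [] ∧ rt 23 ≠ (rt 22).rev ∧ rt 23 ≠ rt 22 := by
  decide +kernel

namespace FieldTwist

variable {K : Type*} [Field K] (Φ : FieldTwist setupD4 K)

/-- The torus of the long Levi subgroup. -/
noncomputable def Hs : Kˣ →* GL chevD4.Idx K where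
  toFun s := Φ.φA (hMat s)
  map_one' := by
    rw [show (hMat (1 : Kˣ) : SL(2, K)) = 1 from Subtype.ext (by
      simp [hMat_val, Matrix.one_fin_two]), map_one]
  map_mul' a b := by
    rw [← map_mul]
    congr 1
    apply Subtype.ext; apply Matrix.ext; intro i j
    fin_cases i <;> fin_cases j <;> simp [hMat_val, Matrix.mul_apply, Fin.sum_univ_two, mul_comm]

theorem Hs_apply (s : Kˣ) : Φ.Hs s = Φ.φA (hMat s) := rfl

theorem Hs_mem_H₀ (s : Kˣ) : Φ.Hs s ∈ Φ.H₀ := by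
  rw [Hs_apply, φA_hMat]
  exact Φ.oH_mem fun h => absurd h nodes_D4.1

theorem Hs_comm (s t : Kˣ) : Φ.Hs s * Φ.Hs t = Φ.Hs t * Φ.Hs s := by
  rw [← map_mul, mul_comm, map_mul]

/-- The long root element. -/
def xb : GL chevD4.Idx K :=
  Function.const (FieldTwist setupD4 K) (X setupD4.good.good (rt 14) (1 : K)) Φ

/-- The element of order three in the long rank one subgroup. -/
def T3 : GL chevD4.Idx K := Φ.xb * Φ.nO oB

/-- The even elements of the long rank one subgroup. -/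
def Even (g : GL chevD4.Idx K) : Prop := g = 1 ∨ g = Φ.T3 ∨ g = Φ.T3 * Φ.T3

/-- The long Levi subgroup. -/
def LB : Subgroup (GL chevD4.Idx K) where
  carrier := {g | ∃ s : Kˣ, ∃ A : SL(2, Φ.admField (setupD4.spR oB)),
    (∀ t, Φ.φB A * Φ.Hs t = Φ.Hs t * Φ.φB A) ∧ g = Φ.Hs s * Φ.φB A}
  one_mem' := ⟨1, 1, fun t => by rw [map_one, one_mul, mul_one],
    by rw [map_one, map_one, one_mul]⟩
  mul_mem' := by
    rintro _ _ ⟨s, A, hA, rfl⟩ ⟨t, B, hB, rfl⟩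
    refine ⟨s * t, A * B, fun r => ?_, ?_⟩
    · rw [map_mul, mul_assoc, hB, ← mul_assoc, hA, mul_assoc]
    · rw [map_mul, map_mul, mul_assoc, ← mul_assoc (Φ.φB A), hA]
      simp only [mul_assoc]
  inv_mem' := by
    rintro _ ⟨s, A, hA, rfl⟩
    have hA' : ∀ t, Φ.φB A⁻¹ * Φ.Hs t = Φ.Hs t * Φ.φB A⁻¹ := fun t => by
      rw [map_inv, inv_mul_eq_iff_eq_mul, ← mul_assoc, hA, mul_inv_cancel_right]
    refine ⟨s⁻¹, A⁻¹, hA', ?_⟩
    rw [mul_inv_rev, ← map_inv, ← map_inv, hA']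

/-- The unipotent radical of the long parabolic. -/
def UB : Subgroup (GL chevD4.Idx K) := rootGen setupD4.good.good K (setupD4.compl oB) ⊓ Φ.fix

/-- Its opposite. -/
def UBm : Subgroup (GL chevD4.Idx K) := Φ.UB.map (MulAut.conj Φ.g0).toMonoidHom

theorem mem_UBm {g : GL chevD4.Idx K} : g ∈ Φ.UBm ↔ Φ.g0⁻¹ * g * Φ.g0 ∈ Φ.UB := by
  constructor
  · rintro ⟨u, hu, rfl⟩
    show Φ.g0⁻¹ * (Φ.g0 * u * Φ.g0⁻¹) * Φ.g0 ∈ Φ.UB
    rwa [show Φ.g0⁻¹ * (Φ.g0 * u * Φ.g0⁻¹) * Φ.g0 = u by group]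
  · intro h
    refine ⟨_, h, ?_⟩
    show Φ.g0 * (Φ.g0⁻¹ * g * Φ.g0) * Φ.g0⁻¹ = g
    group

theorem UB_le_U1 : Φ.UB ≤ Φ.U1 := fun g hg => ⟨by
  rw [posUnipotent_eq_rootGen setupD4.good.good]
  exact rootGen_mono _ (fun r hr => hr.1) hg.1, hg.2⟩

theorem oX_mem_UB {r : Root chevD4} (hr : ∀ a ∈ setupD4.orb r, a ∈ setupD4.compl oB) {t : K}
    (ht : Φ.Adm r t) : Φ.oX r t ∈ Φ.UB :=
  ⟨rootGen_mono _ hr (Φ.oX_mem_rootGen _ _), Φ.oX_mem_fix ht⟩

theorem oX_mem_UBm {r : Root chevD4} (hr : ∀ a ∈ setupD4.orb r, a ∈ setupD4.compl oB) {t : K}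
    (ht : Φ.Adm r.rev t) : Φ.oX r.rev t ∈ Φ.UBm := by
  obtain ⟨c, hc⟩ := Φ.g0_inv_conj_oX r.rev
  obtain ⟨hadm, e⟩ := hc t ht
  rw [Φ.mem_UBm, e]
  rw [Fin.rev_rev] at hadm ⊢
  exact Φ.oX_mem_UB hr hadm

variable [Finite K] (hf : ∀ x, Φ.f x = x ^ 2) (h2 : (2 : K) = 0)
include h2

omit [Finite K] in
theorem neg_self (t : K) : -t = t := by linear_combination (-t) * h2

omit [Finite K] in
theorem int_unit {C : ℤ} (hC : C * C = 1) : (C : K) = 1 := by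
  rcases Int.eq_one_or_neg_one_of_mul_eq_one hC with rfl | rfl
  · exact Int.cast_one
  · rw [Int.cast_neg, Int.cast_one, neg_self h2]

omit [Finite K] in
/-- The commutator rule in characteristic two. -/
theorem swap_two {r s : Root chevD4} {k : Fin 24} (hsr : s ≠ r) (hne : s ≠ r.rev)
    (h : (chevD4.commTerms r s).map Prod.fst = [(k : ℕ)]) (t u : K) :
    X setupD4.good.good s u * X setupD4.good.good r t =
      X setupD4.good.good r t * X setupD4.good.good s u *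
        X setupD4.good.good (rt k) (t * u) := by
  obtain ⟨C, hC, e⟩ := swap_one hsr hne h t u
  rw [e, int_unit h2 hC, one_mul, neg_self h2]

include hf

omit [Finite K] in
theorem fixed_cases {t : K} (ht : Φ.f t = t) : t = 0 ∨ t = 1 := by
  rw [hf] at ht
  rcases mul_eq_zero.1 (show t * (t - 1) = 0 by linear_combination ht) with h | h
  · exact Or.inl h
  · exact Or.inr (sub_eq_zero.1 h)

omit [Finite K] in
theorem fixed_unit {c : Kˣ} (hc : Φ.fU c = c) : c = 1 :=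
  Units.ext ((Φ.fixed_cases hf h2 (congrArg Units.val hc)).resolve_left c.ne_zero)

omit [Finite K] in
theorem bfield_cases (t : Φ.admField (setupD4.spR oB)) : t = 0 ∨ t = 1 :=
  (Φ.fixed_cases hf h2 (Φ.fst_fixed t)).imp Subtype.ext Subtype.ext

omit [Finite K] in
theorem xb_eq : Φ.φB (uMat _ 1) = Φ.xb := by
  rw [φB, rankHom_uMat, oXB]
  rfl

omit [Finite K] in
theorem xb_mul_self : Φ.xb * Φ.xb = 1 := by
  rw [xb, Function.const_apply, X_mul, show (1 : K) + 1 = 0 by linear_combination h2, X_zero]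

/-- The long rank one subgroup has six elements. -/
theorem φB_cases (A : SL(2, Φ.admField (setupD4.spR oB))) :
    Φ.Even (Φ.φB A) ∨ Φ.Even (Φ.φB A * Φ.xb) := by
  have h2' : (2 : Φ.admField (setupD4.spR oB)) = 0 := Subtype.ext h2
  have hone : (1 : Φ.admField (setupD4.spR oB)) + 1 = 0 := by linear_combination h2'
  have hnb : Φ.φB (wMat _) = Φ.nO oB := Φ.rankHom_wMat oB
  have hT : Φ.φB (uMat _ 1 * wMat _) = Φ.T3 := by
    rw [map_mul, Φ.xb_eq hf h2, hnb]; rfl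
  have hTT : Φ.φB ((uMat _ 1 * wMat _) * (uMat _ 1 * wMat _)) = Φ.T3 * Φ.T3 := by
    rw [map_mul, hT]
  have key : A = 1 ∨ A = uMat _ 1 ∨ A = uMat _ 1 * wMat _ ∨
      A = uMat _ 1 * wMat _ * uMat _ 1 ∨
      A = uMat _ 1 * wMat _ * (uMat _ 1 * wMat _) ∨
      A = uMat _ 1 * wMat _ * (uMat _ 1 * wMat _) * uMat _ 1 := by
    have hd := A.2
    rw [Matrix.det_fin_two] at hd
    rcases Φ.bfield_cases hf h2 (A.1 0 0) with a | a <;>
    rcases Φ.bfield_cases hf h2 (A.1 0 1) with b | b <;>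
    rcases Φ.bfield_cases hf h2 (A.1 1 0) with c | c <;>
    rcases Φ.bfield_cases hf h2 (A.1 1 1) with d | d <;>
    rw [a, b, c, d] at hd <;>
    first
      | (exfalso; norm_num [hone] at hd; done)
      | (left; apply Subtype.ext; apply Matrix.ext; intro i j
         fin_cases i <;> fin_cases j <;> simp [a, b, c, d]; done)
      | (right; left; apply Subtype.ext; apply Matrix.ext; intro i j
         fin_cases i <;> fin_cases j <;> simp [a, b, c, d, uMat_val]; done)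
      | (right; right; left; apply Subtype.ext; apply Matrix.ext; intro i j
         fin_cases i <;> fin_cases j <;>
          simp [a, b, c, d, uMat_val, wMat_val, Matrix.mul_apply, Fin.sum_univ_two] <;>
          linear_combination h2'; done)
      | (right; right; right; left; apply Subtype.ext; apply Matrix.ext; intro i j
         fin_cases i <;> fin_cases j <;>
          simp [a, b, c, d, uMat_val, wMat_val, Matrix.mul_apply, Fin.sum_univ_two] <;>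
          linear_combination h2'; done)
      | (right; right; right; right; left; apply Subtype.ext; apply Matrix.ext; intro i j
         fin_cases i <;> fin_cases j <;>
          simp [a, b, c, d, uMat_val, wMat_val, Matrix.mul_apply, Fin.sum_univ_two,
            Matrix.vecMul, dotProduct] <;>
          linear_combination h2'; done)
      | (right; right; right; right; right; apply Subtype.ext; apply Matrix.ext; intro i j
         fin_cases i <;> fin_cases j <;>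
          simp [a, b, c, d, uMat_val, wMat_val, Matrix.mul_apply, Fin.sum_univ_two,
            Matrix.vecMul, dotProduct] <;>
          linear_combination h2'; done)
  rcases key with rfl | rfl | rfl | rfl | rfl | rfl
  · exact Or.inl (Or.inl (map_one _))
  · exact Or.inr (Or.inl (by rw [Φ.xb_eq hf h2, Φ.xb_mul_self hf h2]))
  · exact Or.inl (Or.inr (Or.inl hT))
  · exact Or.inr (Or.inr (Or.inl (by
      rw [map_mul, hT, Φ.xb_eq hf h2, mul_assoc, Φ.xb_mul_self hf h2, mul_one])))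
  · exact Or.inl (Or.inr (Or.inr hTT))
  · exact Or.inr (Or.inr (Or.inr (by
      rw [map_mul, hTT, Φ.xb_eq hf h2, mul_assoc, Φ.xb_mul_self hf h2, mul_one])))

/-- The torus consists of short coroot elements. -/
theorem exists_Hs {h : GL chevD4.Idx K} (hh : h ∈ Φ.H₀) : ∃ s, h = Φ.Hs s := by
  obtain ⟨c, hc, rfl⟩ := hh
  obtain ⟨s, hs, -⟩ := Φ.exists_hMat_of_chi_top hf hc (Φ.fixed_unit hf h2 (Φ.fU_fixed_top hc))
  exact ⟨s, hs⟩

/-- The long rank one subgroup centralises the torus. -/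
theorem φB_comm (A : SL(2, Φ.admField (setupD4.spR oB))) (s : Kˣ) :
    Φ.φB A * Φ.Hs s = Φ.Hs s * Φ.φB A := by
  obtain ⟨c, hc, e⟩ := Φ.Hs_mem_H₀ s
  have hY : ChevSimple.chi c (setupD4.spR oB) = 1 :=
    Φ.fixed_unit hf h2 (Φ.admU_iff.2 (Φ.chi_adm hc (setupD4.spR oB)) nodes_D4.2.1)
  have key : (Subgroup.centralizer {Φ.Hs s}).comap Φ.φB = ⊤ := by
    refine sl2_top_of_mem (fun t => Subgroup.mem_comap.2 (Subgroup.mem_centralizer_singleton_iff.2 ?_))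
      (fun t => Subgroup.mem_comap.2 (Subgroup.mem_centralizer_singleton_iff.2 ?_))
    · rw [φB, rankHom_uMat, ← e]
      show _ = torC chevD4 c * _
      have := Φ.torC_conj_oX hc (setupD4.spR oB) (t : K)
      rw [hY, Units.val_one, one_mul, mul_inv_eq_iff_eq_mul] at this
      exact this.symm
    · rw [φB, rankHom_vMat, ← e]
      show _ = torC chevD4 c * _
      have := Φ.torC_conj_oX hc (setupD4.spR oB).rev (t : K)
      rw [chi_rev setupD4.good.good, hY, inv_one, Units.val_one, one_mul,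
        mul_inv_eq_iff_eq_mul] at this
      exact this.symm
  exact Subgroup.mem_centralizer_singleton_iff.1
    (key ▸ Subgroup.mem_top A : A ∈ (Subgroup.centralizer {Φ.Hs s}).comap Φ.φB)

theorem φB_mem_LB (A : SL(2, Φ.admField (setupD4.spR oB))) : Φ.φB A ∈ Φ.LB :=
  ⟨1, A, Φ.φB_comm hf h2 A, by rw [map_one, one_mul]⟩

theorem Hs_mem_LB (s : Kˣ) : Φ.Hs s ∈ Φ.LB :=
  ⟨s, 1, fun t => by rw [map_one, one_mul, mul_one], by rw [map_one, mul_one]⟩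

theorem H₀_le_LB : Φ.H₀ ≤ Φ.LB := fun h hh => by
  obtain ⟨s, rfl⟩ := Φ.exists_Hs hf h2 hh
  exact Φ.Hs_mem_LB hf h2 s

theorem xb_mem_LB : Φ.xb ∈ Φ.LB := Φ.xb_eq hf h2 ▸ Φ.φB_mem_LB hf h2 _

theorem nB_mem_LB : Φ.nO oB ∈ Φ.LB := Φ.rankHom_wMat oB ▸ Φ.φB_mem_LB hf h2 (wMat _)

omit [Finite K] in
theorem LB_induction {P : GL chevD4.Idx K → Prop} (hmul : ∀ a b, P a → P b → P (a * b))
    (hinv : ∀ a, P a → P a⁻¹) (hH : ∀ s, P (Φ.Hs s))
    (hX : ∀ t : Φ.admField (setupD4.spR oB), P (Φ.φB (uMat _ t)))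
    (hn : P (Φ.nO oB)) {l : GL chevD4.Idx K} (hl : l ∈ Φ.LB) : P l := by
  obtain ⟨s, A, -, rfl⟩ := hl
  refine hmul _ _ (hH s) ?_
  let S : Subgroup (GL chevD4.Idx K) :=
    { carrier := {g | P g}
      one_mem' := by
        show P 1
        rw [show (1 : GL chevD4.Idx K) = Φ.Hs 1 from (map_one _).symm]; exact hH 1
      mul_mem' := fun ha hb => hmul _ _ ha hb
      inv_mem' := fun ha => hinv _ ha }
  have : S.comap Φ.φB = ⊤ := sl2_top_of_mem (fun t => hX t) (fun t => by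
    show P (Φ.φB (vMat _ t))
    rw [← neg_neg t, ← vMat_conj, map_mul, map_mul, map_inv, φB, rankHom_wMat]
    exact hmul _ _ (hmul _ _ hn (hX _)) (hinv _ hn))
  exact (this ▸ Subgroup.mem_top A : A ∈ S.comap Φ.φB)

theorem LB_le_tG : Φ.LB ≤ Φ.tG := fun _ hl =>
  Φ.LB_induction hf h2 (P := fun g => g ∈ Φ.tG) (fun _ _ => mul_mem) (fun _ => inv_mem)
    (fun s => Φ.H₀_le_tG (Φ.Hs_mem_H₀ s))
    (fun t => by rw [φB, rankHom_uMat]; exact Φ.oX_mem_tG oB t.2)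
    (Φ.nB_mem_tG) hl

theorem conj_UB {k u : GL chevD4.Idx K} (hk : k ∈ Φ.LB) (hu : u ∈ Φ.UB) :
    k * u * k⁻¹ ∈ Φ.UB := by
  suffices h : ∀ u ∈ Φ.UB, k * u * k⁻¹ ∈ Φ.UB ∧ k⁻¹ * u * k ∈ Φ.UB from (h u hu).1
  refine Φ.LB_induction hf h2 (P := fun k => ∀ u ∈ Φ.UB, k * u * k⁻¹ ∈ Φ.UB ∧
    k⁻¹ * u * k ∈ Φ.UB) ?_ ?_ ?_ ?_ ?_ hk
  · intro a b ha hb u hu
    refine ⟨?_, ?_⟩
    · have := (ha _ (hb u hu).1).1
      rwa [show a * (b * u * b⁻¹) * a⁻¹ = a * b * u * (a * b)⁻¹ by group] at this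
    · have := (hb _ (ha u hu).2).2
      rwa [show b⁻¹ * (a⁻¹ * u * a) * b = (a * b)⁻¹ * u * (a * b) by group] at this
  · intro a ha u hu
    exact ⟨by rw [inv_inv]; exact (ha u hu).2, by rw [inv_inv]; exact (ha u hu).1⟩
  · intro s u hu
    have h1 : ∀ r : Kˣ, Φ.Hs r * u * (Φ.Hs r)⁻¹ ∈ Φ.UB := fun r => by
      refine ⟨?_, Φ.conj_mem_fix (Φ.H₀_le_fix (Φ.Hs_mem_H₀ r)) hu.2⟩
      refine (monBy_diag setupD4.good (Φ.H₀_le_diag (Φ.Hs_mem_H₀ r))).conj_rootGen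
        (fun a ha => ?_) hu.1
      exact ha
    refine ⟨h1 s, ?_⟩
    have := h1 s⁻¹
    rwa [map_inv, inv_inv] at this
  · intro t u hu
    have h1 : ∀ r : Φ.admField (setupD4.spR oB),
        Φ.φB (uMat _ r) * u * (Φ.φB (uMat _ r))⁻¹ ∈ Φ.UB := fun r => by
      rw [φB, rankHom_uMat]
      exact ⟨(Subgroup.mem_normalizer_iff.1 (setupD4.pos_le_normalizer_compl oB
        (Φ.oX_mem_pos (setupD4.spR_pos oB) _)) u).1 hu.1,
        Φ.conj_mem_fix (Φ.oX_mem_fix r.2) hu.2⟩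
    refine ⟨h1 t, ?_⟩
    have := h1 (-t)
    rwa [show uMat (Φ.admField (setupD4.spR oB)) (-t) = (uMat _ t)⁻¹ from
      eq_inv_of_mul_eq_one_left (Subtype.ext (by
        simp [uMat_val, Matrix.one_fin_two])), map_inv, inv_inv] at this
  · intro u hu
    have h1 : ∀ g ∈ Φ.M₀, MonBy setupD4.good g (setupD4.wR oB) → g * u * g⁻¹ ∈ Φ.UB := by
      intro g hg hmon
      refine ⟨hmon.conj_rootGen (fun r hr => ?_) hu.1, Φ.conj_mem_fix (Φ.M₀_le_fix hg) hu.2⟩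
      have h : ∀ r : Root chevD4, half chevD4 ≤ (r : ℕ) → r ∉ setupD4.orb (setupD4.spR oB) →
          half chevD4 ≤ (setupD4.wR oB r : ℕ) ∧
            setupD4.wR oB r ∉ setupD4.orb (setupD4.spR oB) := by decide +kernel
      exact h r hr.1 hr.2
    refine ⟨h1 _ (Φ.nO_mem_M₀ oB) (Φ.monBy_nO oB), ?_⟩
    have he : (setupD4.wR oB)⁻¹ = setupD4.wR oB := inv_eq_of_mul_eq_one_left reduce_D4.2.2.2.2.2.2.2.1
    have := h1 _ (inv_mem (Φ.nO_mem_M₀ oB)) (he ▸ (Φ.monBy_nO oB).inv)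
    rwa [inv_inv] at this

theorem conj_LB_g0 {k : GL chevD4.Idx K} (hk : k ∈ Φ.LB) : Φ.g0⁻¹ * k * Φ.g0 ∈ Φ.LB := by
  obtain ⟨π, hπ, -⟩ := Φ.g0_mon
  refine Φ.LB_induction hf h2 (P := fun k => Φ.g0⁻¹ * k * Φ.g0 ∈ Φ.LB) ?_ ?_ ?_ ?_ ?_ hk
  · intro a b ha hb
    have := mul_mem ha hb
    rwa [show Φ.g0⁻¹ * a * Φ.g0 * (Φ.g0⁻¹ * b * Φ.g0) = Φ.g0⁻¹ * (a * b) * Φ.g0 by group] at this
  · intro a ha
    have := inv_mem ha
    rwa [show (Φ.g0⁻¹ * a * Φ.g0)⁻¹ = Φ.g0⁻¹ * a⁻¹ * Φ.g0 by group] at this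
  · intro s
    have := Φ.conj_H₀ hπ.inv (inv_mem Φ.g0_mem_fix) (Φ.Hs_mem_H₀ s)
    rw [inv_inv] at this
    exact Φ.H₀_le_LB hf h2 this
  · intro t
    obtain ⟨c, hc⟩ := Φ.g0_inv_conj_oX (setupD4.spR oB)
    obtain ⟨hadm, e⟩ := hc (t : K) t.2
    rw [φB, rankHom_uMat, e]
    have h' : Φ.Adm (setupD4.spR oB) ((c : K) * (t : K)) := Φ.adm_rev.1 hadm
    rw [← Φ.rankHom_vMat oB ⟨_, h'⟩]
    exact Φ.φB_mem_LB hf h2 _
  · have e : Φ.g0⁻¹ * Φ.nO oB * Φ.g0 * (Φ.nO oB)⁻¹ ∈ Φ.H₀ := by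
      have hM : Φ.g0⁻¹ * Φ.nO oB * Φ.g0 * (Φ.nO oB)⁻¹ ∈ Φ.M₀ :=
        mul_mem (mul_mem (mul_mem (inv_mem Φ.g0_mem_M₀) (Φ.nO_mem_M₀ oB)) Φ.g0_mem_M₀)
          (inv_mem (Φ.nO_mem_M₀ oB))
      refine Φ.mem_H₀_of_monBy_one setupD4_faithful hM ?_
      have hmon := ((hπ.inv.mul (Φ.monBy_nO oB)).mul hπ).mul (Φ.monBy_nO oB).inv
      convert hmon using 1
      obtain ⟨π', hπ', hrev⟩ := Φ.g0_mon
      obtain rfl := hπ.unique hπ'
      refine Equiv.ext fun r => ?_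
      rw [Equiv.Perm.mul_apply, Equiv.Perm.mul_apply, Equiv.Perm.mul_apply, Equiv.Perm.one_apply,
        eq_comm, Equiv.Perm.inv_eq_iff_eq, hrev, hrev, (Φ.monBy_nO oB).apply_rev,
        ← Equiv.Perm.mul_apply, mul_inv_cancel, Equiv.Perm.one_apply]
    have := mul_mem (Φ.H₀_le_LB hf h2 e) (Φ.nB_mem_LB hf h2)
    rwa [inv_mul_cancel_right] at this

theorem conj_UBm {k v : GL chevD4.Idx K} (hk : k ∈ Φ.LB) (hv : v ∈ Φ.UBm) :
    k * v * k⁻¹ ∈ Φ.UBm := by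
  rw [Φ.mem_UBm] at hv ⊢
  rw [show Φ.g0⁻¹ * (k * v * k⁻¹) * Φ.g0 =
    Φ.g0⁻¹ * k * Φ.g0 * (Φ.g0⁻¹ * v * Φ.g0) * (Φ.g0⁻¹ * k * Φ.g0)⁻¹ by group]
  exact Φ.conj_UB hf h2 (Φ.conj_LB_g0 hf h2 hk) hv

theorem UB_le_tG : Φ.UB ≤ Φ.tG := fun _ hg => Φ.U1_le_tG (Φ.UB_le_U1 hg)

theorem UBm_le_tG : Φ.UBm ≤ Φ.tG := fun g hg => by
  have hg0 := Φ.M₀_le_tG Φ.g0_mem_M₀
  have := mul_mem (mul_mem hg0 (Φ.UB_le_tG hf h2 (Φ.mem_UBm.1 hg))) (inv_mem hg0)
  rwa [show Φ.g0 * (Φ.g0⁻¹ * g * Φ.g0) * Φ.g0⁻¹ = g by group] at this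

end FieldTwist

end CfsgLib.GraphTwist
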