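import Cfsg.Agent.D4Square.TwoFix

/-!
# `³D₄(2)`: the two outer double cosets of the long parabolic move into its big cell
-/

set_option autoImplicit false
set_option linter.style.haveILetI false
set_option linter.unusedSectionVars false
set_option maxRecDepth 8000

namespace CfsgLib.GraphTwist

open Cfsg.Lie CfsgLib.Chevalley CfsgLib.SchurBN
open CfsgLib.Chevalley.RankOneRel (uMat vMat wMat uMat_val vMat_val wMat_val)
open scoped MatrixGroups

theorem cases_two_D4 :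
    (setupD4.wR oA * setupD4.wR oB) (setupD4.spR oA) = rt 17 ∧
    setupD4.wR oB (rt 19) = setupD4.spR oA ∧
    setupD4.wR oB (setupD4.spR oA) = rt 19 ∧
    setupD4.wR oA * setupD4.wR oA = 1 ∧ setupD4.wR oB * setupD4.wR oB = 1 ∧
    (setupD4.wR oA * setupD4.wR oB * setupD4.wR oA * setupD4.wR oB * setupD4.wR oA) (rt 0) = rt 22 ∧
    (∀ r ∈ [rt 17, rt 19, rt 18, rt 22], ∀ a ∈ setupD4.orb r,
      half chevD4 ≤ (a : ℕ) ∧ a ∉ setupD4.orb (setupD4.spR oB)) ∧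
    setupD4.spR oA = rt 18 ∧ setupD4.osize (rt 17) = 3 ∧ setupD4.osize (rt 4) = 3 ∧
    setupD4.osize (rt 18) = 3 ∧
    setupD4.σR (rt 17) = rt 20 ∧ setupD4.σR (rt 20) = rt 21 ∧
    setupD4.σR (rt 4) = rt 7 ∧ setupD4.σR (rt 7) = rt 8 ∧
    setupD4.σR (rt 18) = rt 13 ∧ setupD4.σR (rt 13) = rt 12 ∧
    (rt 19).rev = rt 4 ∧ (rt 23).rev = rt 0 := by
  decide +kernel

theorem sgn_two_D4 : ∀ n : Fin 24,
    setupD4.cfg.S.sgn (rt n : ℕ) * setupD4.cfg.S.sgn (rt n : ℕ) = 1 := by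
  decide +kernel

theorem topcomm_D4 :
    (∀ p ∈ [((21 : Fin 24), (0 : Fin 24), (8 : Fin 24)), (20, 0, 7), (20, 8, 18), (17, 0, 4),
        (17, 7, 12), (17, 8, 13), (17, 18, 22), (12, 8, 9)],
      (chevD4.commTerms (rt p.2.1) (rt p.1)).map Prod.fst = [(p.2.2 : ℕ)] ∧
      rt p.1 ≠ rt p.2.1 ∧ rt p.1 ≠ (rt p.2.1).rev ∧
      chevD4.commTerms (rt p.2.2) (rt p.1) = [] ∧ rt p.1 ≠ (rt p.2.2).rev ∧ rt p.1 ≠ rt p.2.2) ∧
    (∀ x ∈ setupD4.orb (rt 19), ∀ y ∈ setupD4.orb (setupD4.spR oA).rev,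
      ((chevD4.commTerms y x).map Prod.fst = [] ∨ (chevD4.commTerms y x).map Prod.fst = [14]) ∧
        x ≠ y ∧ x ≠ y.rev) ∧
    (∀ y ∈ setupD4.orb (rt 19) ++ setupD4.orb (setupD4.spR oA).rev,
      chevD4.commTerms (rt 14) y = [] ∧ y ≠ (rt 14).rev ∧ y ≠ rt 14) := by
  refine ⟨?_, ?_, ?_⟩ <;> decide +kernel

/-- Products of elements commuting up to a central factor. -/
theorem exists_comm_prod {G : Type*} [Group G] (Z : Subgroup G) (M : List G)
    (hM : ∀ y ∈ M, ∀ z ∈ Z, z * y = y * z) (L : List G) (hL : ∀ x ∈ L, ∀ z ∈ Z, z * x = x * z)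
    (h : ∀ x ∈ L, ∀ y ∈ M, ∃ z ∈ Z, x * y = y * x * z) :
    ∃ z ∈ Z, L.prod * M.prod = M.prod * z * L.prod := by
  induction L with
  | nil => exact ⟨1, one_mem _, by simp⟩
  | cons x L ih =>
    obtain ⟨z, hz, e⟩ := ih (fun a ha => hL a (List.mem_cons_of_mem _ ha))
      (fun a ha => h a (List.mem_cons_of_mem _ ha))
    have key : ∀ M' : List G, (∀ y ∈ M', y ∈ M) → ∃ z' ∈ Z, x * M'.prod = M'.prod * z' * x := by
      intro M' hM'
      induction M' with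
      | nil => exact ⟨1, one_mem _, by simp⟩
      | cons y M' ih' =>
        obtain ⟨z', hz', e'⟩ := ih' fun a ha => hM' a (List.mem_cons_of_mem _ ha)
        obtain ⟨z'', hz'', e''⟩ := h x (List.mem_cons_self ..) y (hM' y (List.mem_cons_self ..))
        refine ⟨z' * z'', mul_mem hz' hz'', ?_⟩
        have hc : ∀ a ∈ M', z'' * a = a * z'' := fun a ha =>
          hM a (hM' a (List.mem_cons_of_mem _ ha)) z'' hz''
        have hc' : Commute z'' M'.prod := Commute.list_prod_right _ _ hc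
        rw [List.prod_cons, ← mul_assoc, e'', mul_assoc (y * x) z'', hc'.eq, ← mul_assoc,
          mul_assoc y x, e']
        calc y * (M'.prod * z' * x) * z'' = y * M'.prod * z' * (x * z'') := by group
          _ = _ := by rw [← hL x (List.mem_cons_self ..) z'' hz'']; group
    obtain ⟨z', hz', e'⟩ := key M fun _ h => h
    refine ⟨z' * z, mul_mem hz' hz, ?_⟩
    rw [List.prod_cons, mul_assoc x, e, ← mul_assoc, ← mul_assoc, e']
    calc M.prod * z' * x * z * L.prod = M.prod * z' * (x * z) * L.prod := by group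
      _ = _ := by rw [← hL x (List.mem_cons_self ..) z hz]; group

namespace FieldTwist

variable {K : Type*} [Field K] (Φ : FieldTwist setupD4 K) [Finite K]

/-- A conjugate inside the group in the big cell of the long parabolic with Levi part `l`. -/
def InCellB (g l : GL chevD4.Idx K) : Prop :=
  ∃ k ∈ Φ.tG, ∃ v ∈ Φ.UBm, ∃ u ∈ Φ.UB, k * g * k⁻¹ = v * l * u

/-- The rank one homomorphism of the short root `17`. -/
noncomputable def φ2 : SL(2, K) →* GL chevD4.Idx K :=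
  (MulAut.conj (Φ.nO oA * Φ.nO oB)).toMonoidHom.comp Φ.φA

theorem φ2_apply (A : SL(2, K)) :
    Φ.φ2 A = Φ.nO oA * Φ.nO oB * Φ.φA A * (Φ.nO oA * Φ.nO oB)⁻¹ := rfl

theorem φ2_mem_tG (A : SL(2, K)) : Φ.φ2 A ∈ Φ.tG := by
  have h := mul_mem (Φ.nO_mem_tG oA) (Φ.nO_mem_tG oB)
  rw [φ2_apply]
  exact mul_mem (mul_mem h (Φ.φA_mem_tG A)) (inv_mem h)

theorem φ2_root : ∃ c d : Kˣ,
    (∀ t, Φ.φ2 (uMat K t) = Φ.oX (rt 17) ((c : K) * t)) ∧
      ∀ t, Φ.φ2 (vMat K t) = Φ.oX (rt 17).rev ((d : K) * t) := by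
  have hmon := (Φ.monBy_nO oA).mul (Φ.monBy_nO oB)
  have hfix := mul_mem (Φ.nO_mem_fix oA) (Φ.nO_mem_fix oB)
  obtain ⟨c, hc⟩ := Φ.conj_oX hmon hfix (setupD4.spR oA)
  obtain ⟨d, hd⟩ := Φ.conj_oX hmon hfix (setupD4.spR oA).rev
  rw [cases_two_D4.1] at hc
  rw [hmon.apply_rev, cases_two_D4.1] at hd
  refine ⟨c, d, fun t => ?_, fun t => ?_⟩
  · rw [φ2_apply, φA_uMat]
    exact (hc t fun h => absurd h nodes_D4.1).2
  · rw [φ2_apply, φA_vMat]
    exact (hd t (Φ.adm_rev.2 fun h => absurd h nodes_D4.1)).2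

theorem mem_compl_two {r : Root chevD4} (hr : r ∈ [rt 17, rt 19, rt 18, rt 22]) :
    ∀ a ∈ setupD4.orb r, a ∈ setupD4.compl oB :=
  fun a ha => cases_two_D4.2.2.2.2.2.2.1 r hr a ha

variable (hf : ∀ x, Φ.f x = x ^ 2) (h2 : (2 : K) = 0)
include hf h2

theorem nA_mul_self : Φ.nO oA * Φ.nO oA = 1 := by
  rw [nO_sq, ← φA_hMat, show (-1 : Kˣ) = 1 from Units.ext (by
    rw [Units.val_neg, Units.val_one, neg_self h2]), ← Hs_apply, map_one]

theorem hMat_neg (s : Kˣ) : (hMat (-s) : SL(2, K)) = hMat s := by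
  rw [show -s = s from Units.ext (by rw [Units.val_neg, neg_self h2])]

theorem φ2_uMat_mem_UB (t : K) : Φ.φ2 (uMat K t) ∈ Φ.UB := by
  obtain ⟨c, d, hc, -⟩ := Φ.φ2_root
  rw [hc]
  exact Φ.oX_mem_UB (mem_compl_two (by simp)) (fun h => absurd h (by decide +kernel))

theorem φ2_vMat_mem_UBm (t : K) : Φ.φ2 (vMat K t) ∈ Φ.UBm := by
  obtain ⟨c, d, -, hd⟩ := Φ.φ2_root
  rw [hd]
  exact Φ.oX_mem_UBm (mem_compl_two (by simp)) (fun h => absurd h (by decide +kernel))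

/-- The middle double coset. -/
theorem inCellB_aba (c' : Kˣ) : ∃ A : SL(2, Φ.admField (setupD4.spR oB)),
    ∀ l0 ∈ Φ.LB, ∀ u ∈ Φ.UB,
      Φ.InCellB (Φ.nO oA * Φ.nO oB * Φ.nO oA * l0 * u) (Φ.Hs c' * Φ.φB A * l0) := by
  obtain ⟨-, w19, w19', hAA, hBB, -, -, e18, -⟩ := cases_two_D4
  set nA := Φ.nO oA with hnA
  set nB := Φ.nO oB with hnB
  set V1 := Φ.φA (vMat K 1)
  set U1 := Φ.φA (uMat K (-1))
  set V2 := Φ.φA (vMat K ((c'⁻¹ : Kˣ) : K))
  set U2 := Φ.φA (uMat K (-((c'⁻¹ : Kˣ) : K)))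
  set H2 := Φ.Hs c'
  have hr1 : Φ.φA (uMat K 1) * nA = V1 * U1 := by
    have := congrArg Φ.φA (uMat_mul_wMat (1 : Kˣ))
    simp only [map_mul, φA_wMat, inv_one, Units.val_one, Φ.hMat_neg hf h2] at this
    rw [← Hs_apply, map_one, mul_one] at this
    exact this
  have hr2 : Φ.φA (uMat K (c' : K)) * nA = V2 * H2 * U2 := by
    have := congrArg Φ.φA (uMat_mul_wMat c')
    simp only [map_mul, φA_wMat, Φ.hMat_neg hf h2] at this
    exact this
  -- `W` lies in the orbit of `19`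
  obtain ⟨W, hW, hWp⟩ : ∃ w : K, nB⁻¹ * U1 * nB = Φ.oX (rt 19) w ∧
      Φ.oX (rt 19) w ∈ Φ.UB := by
    obtain ⟨e, he⟩ := Φ.conj_oX (Φ.monBy_nO oB).inv (inv_mem (Φ.nO_mem_fix oB)) (setupD4.spR oA)
    obtain ⟨hadm, e1⟩ := he (-1) fun h => absurd h nodes_D4.1
    rw [inv_inv, inv_eq_of_mul_eq_one_right hBB, w19'] at e1
    rw [inv_eq_of_mul_eq_one_right hBB, w19'] at hadm
    exact ⟨_, by simp only [U1, φA_uMat, nB]; exact e1, Φ.oX_mem_UB (mem_compl_two (by simp)) hadm⟩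
  set Z : Subgroup (GL chevD4.Idx K) :=
    rootGen setupD4.good.good K {a | a ∈ setupD4.orb (setupD4.spR oB)} with hZ
  have horbB : setupD4.orb (setupD4.spR oB) = [rt 14] := by decide +kernel
  have hZc : ∀ y ∈ setupD4.orb (rt 19) ++ setupD4.orb (setupD4.spR oA).rev,
      ∀ t : K, ∀ z ∈ Z, z * X setupD4.good.good y t = X setupD4.good.good y t * z := by
    intro y hy t z hz
    obtain ⟨h1, h2', h3⟩ := topcomm_D4.2.2 y hy
    refine Subgroup.mem_centralizer_singleton_iff.1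
      ((rootGen_le setupD4.good.good
        (K := Subgroup.centralizer {X setupD4.good.good y t}) ?_) hz)
    intro a ha s
    change a ∈ setupD4.orb (setupD4.spR oB) at ha
    rw [horbB, List.mem_singleton] at ha
    subst ha
    exact Subgroup.mem_centralizer_singleton_iff.2 (commute_nil h2' h3 h1 s t).eq
  have hlist : ∀ r (t : K), ∃ L : List (Root chevD4 × K),
      (∀ p ∈ L, p.1 ∈ setupD4.orb r) ∧
      Φ.oX r t = (L.map fun p => X setupD4.good.good p.1 p.2).prod := by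
    intro r t
    refine ⟨(List.range (setupD4.osize r)).map fun j => ((setupD4.σR ^ j) r, Φ.tw j r t), ?_, ?_⟩
    · intro p hp
      obtain ⟨j, -, rfl⟩ := List.mem_map.1 hp
      exact setupD4.mem_orb_iff.2 ⟨j, rfl⟩
    · rw [oX, List.map_map]
      exact congrArg List.prod (List.map_congr_left fun j _ => Φ.Ψ_pow_X j r t)
  obtain ⟨L, hL, eL⟩ := hlist (rt 19) W
  obtain ⟨M, hM, eM⟩ := hlist (setupD4.spR oA).rev ((c'⁻¹ : Kˣ) : K)
  have eM' : V2 = (M.map fun p => X setupD4.good.good p.1 p.2).prod := by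
    rw [← eM]; exact Φ.φA_vMat _
  obtain ⟨z, hz, ez⟩ := exists_comm_prod Z (M.map fun p => X setupD4.good.good p.1 p.2)
    (fun y hy z hz => by
      obtain ⟨p, hp, rfl⟩ := List.mem_map.1 hy
      exact hZc _ (List.mem_append_right _ (hM p hp)) _ z hz)
    (L.map fun p => X setupD4.good.good p.1 p.2)
    (fun y hy z hz => by
      obtain ⟨p, hp, rfl⟩ := List.mem_map.1 hy
      exact hZc _ (List.mem_append_left _ (hL p hp)) _ z hz)
    (fun x hx y hy => by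
      obtain ⟨p, hp, rfl⟩ := List.mem_map.1 hx
      obtain ⟨p', hp', rfl⟩ := List.mem_map.1 hy
      obtain ⟨ht, hne, hne'⟩ := topcomm_D4.2.1 _ (hL p hp) _ (hM p' hp')
      rcases ht with ht | ht
      · refine ⟨1, one_mem _, ?_⟩
        rw [mul_one]
        exact (commute_nil hne' hne (List.map_eq_nil_iff.1 ht) p'.2 p.2).eq.symm
      · refine ⟨X setupD4.good.good (rt 14) (p'.2 * p.2), X_mem_rootGen _
          (show rt 14 ∈ setupD4.orb (setupD4.spR oB) by rw [horbB]; simp) _, ?_⟩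
        exact swap_two h2 (k := 14) hne hne' ht p'.2 p.2)
  rw [← eL, ← eM'] at ez
  have hzf : z ∈ Φ.fix := by
    have e : z = V2⁻¹ * Φ.oX (rt 19) W * V2 * (Φ.oX (rt 19) W)⁻¹ := by
      rw [mul_assoc V2⁻¹, ez]; group
    rw [e]
    have hV : V2 ∈ Φ.fix := Φ.tG_le_fix (Φ.φA_mem_tG _)
    exact mul_mem (mul_mem (mul_mem (inv_mem hV) hWp.2) hV) (inv_mem hWp.2)
  obtain ⟨zx, hzx, ezx⟩ := Φ.eq_oX (setupD4.spR_pos oB) hz hzf
  refine ⟨wMat _ * uMat _ ⟨zx, hzx⟩, fun l0 hl0 u hu => ?_⟩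
  have ezB : Φ.φB (uMat _ ⟨zx, hzx⟩) = z := by rw [φB, rankHom_uMat]; exact ezx
  have hnBH : nB * H2 = H2 * nB := by
    have := Φ.φB_comm hf h2 (wMat _) c'
    simpa only [φB, rankHom_wMat] using this
  have hzH : z * H2 = H2 * z := ezB ▸ Φ.φB_comm hf h2 _ c'
  set u' := Φ.φA (uMat K 1) * Φ.φ2 (uMat K (c' : K)) with hu'
  have hu'UB : u' ∈ Φ.UB := by
    refine mul_mem ?_ (Φ.φ2_uMat_mem_UB hf h2 _)
    rw [φA_uMat, e18]
    exact Φ.oX_mem_UB (mem_compl_two (by simp)) (fun h => absurd h (by decide +kernel))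
  have hmain : u' * (nA * nB * nA) =
      (V1 * (nB * V2 * nB⁻¹)) * (H2 * (nB * z)) * (H2⁻¹ * Φ.oX (rt 19) W * H2 * U2) := by
    calc u' * (nA * nB * nA)
        = (Φ.φA (uMat K 1) * nA) * nB * (Φ.φA (uMat K (c' : K)) * nA) := by
          rw [hu', φ2_apply]; simp only [nA, nB]; group
      _ = V1 * U1 * nB * (V2 * H2 * U2) := by rw [hr1, hr2]
      _ = V1 * nB * ((nB⁻¹ * U1 * nB) * V2) * H2 * U2 := by group
      _ = V1 * nB * (V2 * z * Φ.oX (rt 19) W) * H2 * U2 := by rw [hW, ez]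
      _ = V1 * (nB * V2 * nB⁻¹) * (nB * z * H2) * (H2⁻¹ * Φ.oX (rt 19) W * H2) * U2 := by group
      _ = _ := by
        rw [mul_assoc nB z H2, hzH, ← mul_assoc nB, hnBH]; group
  have hM' : Φ.Hs c' * Φ.φB (wMat _ * uMat _ ⟨zx, hzx⟩) = H2 * (nB * z) := by
    rw [map_mul, ezB, φB, rankHom_wMat]
  rw [hM']
  have hLR : (H2⁻¹ * Φ.oX (rt 19) W * H2 * U2) ∈ Φ.UB := by
    refine mul_mem ?_ ?_
    · have := Φ.conj_UB hf h2 (inv_mem (Φ.Hs_mem_LB hf h2 c')) hWp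
      rwa [inv_inv] at this
    · simp only [U2, φA_uMat, e18]
      exact Φ.oX_mem_UB (mem_compl_two (by simp)) (fun h => absurd h (by decide +kernel))
  refine ⟨u', Φ.UB_le_tG hf h2 hu'UB, V1 * (nB * V2 * nB⁻¹), mul_mem ?_ ?_,
    l0⁻¹ * (H2⁻¹ * Φ.oX (rt 19) W * H2 * U2) * l0 * u * u'⁻¹, ?_, ?_⟩
  · simp only [V1, φA_vMat, e18]
    exact Φ.oX_mem_UBm (mem_compl_two (by simp)) (fun h => absurd h (by decide +kernel))
  · obtain ⟨e, he⟩ := Φ.conj_oX (Φ.monBy_nO oB) (Φ.nO_mem_fix oB) (setupD4.spR oA).rev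
    obtain ⟨hadm, e1⟩ := he ((c'⁻¹ : Kˣ) : K) (Φ.adm_rev.2 fun h => absurd h nodes_D4.1)
    rw [(Φ.monBy_nO oB).apply_rev, w19'] at hadm e1
    simp only [V2, φA_vMat, nB]
    rw [e1]
    exact Φ.oX_mem_UBm (mem_compl_two (by simp)) hadm
  · refine mul_mem (mul_mem ?_ hu) (inv_mem hu'UB)
    have := Φ.conj_UB hf h2 (inv_mem hl0) hLR
    rwa [inv_inv] at this
  · calc u' * (nA * nB * nA * l0 * u) * u'⁻¹ = (u' * (nA * nB * nA)) * l0 * u * u'⁻¹ := by group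
      _ = _ := by rw [hmain]; group

theorem oX_three_sq {r r' r'' : Fin 24} (h3 : setupD4.osize (rt r) = 3)
    (e1 : setupD4.σR (rt r) = rt r') (e2 : setupD4.σR (rt r') = rt r'') (s : K) :
    Φ.oX (rt r) s = X setupD4.good.good (rt r) s * X setupD4.good.good (rt r') (Φ.f s) *
      X setupD4.good.good (rt r'') (Φ.f (Φ.f s)) := by
  have hs : ∀ n : Fin 24, ((setupD4.cfg.S.sgn (rt n : ℕ) : ℤ) : K) = 1 := fun n =>
    int_unit h2 (sgn_two_D4 n)
  rw [oX, h3]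
  simp only [List.range_succ, List.range_zero, List.nil_append, List.cons_append, List.map_cons,
    List.map_nil, List.prod_cons, List.prod_nil, mul_one, Ψ_pow_X, tw, pow_zero, pow_one,
    Equiv.Perm.one_apply]
  rw [show (setupD4.σR ^ 2) (rt r) = rt r'' by rw [pow_two, Equiv.Perm.mul_apply, e1, e2], e1,
    hs, hs, one_mul, one_mul, ← mul_assoc]

/-- The commutator of the short root `17` with the lowest root. -/
theorem swap_17_0 {s : K} (hs : s ≠ 0) :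
    Φ.oX (rt 17) s * X setupD4.good.good (rt 0) (1 : K) =
      X setupD4.good.good (rt 0) (1 : K) * Φ.oX (rt 4) s * X setupD4.good.good (rt 9) (1 : K) *
        (Φ.oX (rt 18) (Φ.f s * Φ.f (Φ.f s)) * X setupD4.good.good (rt 22) (1 : K)) *
        Φ.oX (rt 17) s := by
  obtain ⟨-, -, -, -, -, -, -, -, o17, o4, o18, a17, a20, a4, a7, a18, a13, -, -⟩ := cases_two_D4
  set t1 := s
  set t2 := Φ.f s with ht2
  set t3 := Φ.f (Φ.f s) with ht3
  have hN : t1 * t2 * t3 = 1 := by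
    refine (Φ.fixed_cases hf h2 ?_).resolve_left (mul_ne_zero (mul_ne_zero hs
      (fun e => hs (Φ.f.injective (e.trans (map_zero _).symm))))
      (fun e => hs (Φ.f.injective (Φ.f.injective (e.trans (by rw [map_zero, map_zero]))))))
    rw [map_mul, map_mul, show Φ.f t3 = t1 from Φ.periodic s, ← ht3]
    ring
  have mv : ∀ (r q k : Fin 24), (r, q, k) ∈ [((21 : Fin 24), (0 : Fin 24), (8 : Fin 24)), (20, 0, 7),
      (20, 8, 18), (17, 0, 4), (17, 7, 12), (17, 8, 13), (17, 18, 22), (12, 8, 9)] →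
      ∀ t u : K, X setupD4.good.good (rt r) t * X setupD4.good.good (rt q) u =
        X setupD4.good.good (rt q) u * X setupD4.good.good (rt k) (t * u) *
          X setupD4.good.good (rt r) t := by
    intro r q k hp t u
    obtain ⟨h, n1, n2, hk, n3, n4⟩ := topcomm_D4.1 _ hp
    rw [swap_two h2 n1 n2 h u t, mul_assoc, ← (commute_nil n3 n4 hk (u * t) t).eq, ← mul_assoc,
      mul_comm u t]
  rw [Φ.oX_three_sq hf h2 o17 a17 a20, Φ.oX_three_sq hf h2 o4 a4 a7, Φ.oX_three_sq hf h2 o18 a18 a13]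
  rw [show Φ.f (Φ.f s * Φ.f (Φ.f s)) = t3 * t1 by
    rw [map_mul, show Φ.f (Φ.f (Φ.f s)) = t1 from Φ.periodic s]]
  rw [show Φ.f (t3 * t1) = t1 * t2 by
    rw [map_mul, show Φ.f t3 = t1 from Φ.periodic s]]
  set x1 := X setupD4.good.good (rt 17) t1
  set x2 := X setupD4.good.good (rt 20) t2
  set x3 := X setupD4.good.good (rt 21) t3
  set s0 := X setupD4.good.good (rt 0) (1 : K)
  set A1 := X setupD4.good.good (rt 4) t1
  set A2 := X setupD4.good.good (rt 7) t2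
  set A3 := X setupD4.good.good (rt 8) t3
  set B12 := X setupD4.good.good (rt 12) (t1 * t2)
  set B13 := X setupD4.good.good (rt 13) (t3 * t1)
  set B23 := X setupD4.good.good (rt 18) (t2 * t3)
  set C := X setupD4.good.good (rt 22) (1 : K)
  have m1 : x3 * s0 = s0 * A3 * x3 := by
    have := mv 21 0 8 (by simp) t3 1; rwa [mul_one] at this
  have m2 : x2 * s0 = s0 * A2 * x2 := by
    have := mv 20 0 7 (by simp) t2 1; rwa [mul_one] at this
  have m3 : x2 * A3 = A3 * B23 * x2 := mv 20 8 18 (by simp) t2 t3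
  have m4 : x1 * s0 = s0 * A1 * x1 := by
    have := mv 17 0 4 (by simp) t1 1; rwa [mul_one] at this
  have m5 : x1 * A2 = A2 * B12 * x1 := mv 17 7 12 (by simp) t1 t2
  have m6 : x1 * A3 = A3 * B13 * x1 := by
    have := mv 17 8 13 (by simp) t1 t3; rwa [mul_comm t1 t3] at this
  have m7 : x1 * B23 = B23 * C * x1 := by
    have := mv 17 18 22 (by simp) t1 (t2 * t3); rwa [← mul_assoc, hN] at this
  have m8 : B12 * A3 = A3 * X setupD4.good.good (rt 9) (1 : K) * B12 := by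
    have := mv 12 8 9 (by simp) (t1 * t2) t3; rwa [hN] at this
  have hB : B12 * B13 * B23 = B23 * B13 * B12 := by
    have h18 : rt 18 ∈ setupD4.orb (rt 18) := setupD4.self_mem_orb _
    have h13 : rt 13 ∈ setupD4.orb (rt 18) := setupD4.mem_orb_iff.2 ⟨1, by rw [pow_one, a18]⟩
    have h12 : rt 12 ∈ setupD4.orb (rt 18) := setupD4.mem_orb_iff.2
      ⟨2, by rw [pow_two, Equiv.Perm.mul_apply, a18, a13]⟩
    have c1 : Commute B12 B13 := commute_X_orb h12 h13 _ _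
    have c2 : Commute B12 B23 := commute_X_orb h12 h18 _ _
    have c3 : Commute B13 B23 := commute_X_orb h13 h18 _ _
    rw [mul_assoc, c3.eq, ← mul_assoc, c2.eq, mul_assoc, c1.eq, ← mul_assoc]
  calc x1 * x2 * x3 * s0 = x1 * (x2 * s0) * A3 * x3 := by rw [mul_assoc (x1 * x2), m1]; group
    _ = x1 * s0 * A2 * (x2 * A3) * x3 := by rw [m2]; group
    _ = (x1 * s0) * A2 * A3 * B23 * x2 * x3 := by rw [m3]; group
    _ = s0 * A1 * (x1 * A2) * A3 * B23 * x2 * x3 := by rw [m4]; group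
    _ = s0 * A1 * A2 * B12 * (x1 * A3) * B23 * x2 * x3 := by rw [m5]; group
    _ = s0 * A1 * A2 * (B12 * A3) * B13 * (x1 * B23) * x2 * x3 := by rw [m6]; group
    _ = s0 * A1 * A2 * A3 * X setupD4.good.good (rt 9) (1 : K) * (B12 * B13 * B23) * C * x1 * x2 *
        x3 := by rw [m7, m8]; group
    _ = _ := by rw [hB]; group

/-- The outer double coset, both parities. -/
theorem inCellB_top {l0 u : GL chevD4.Idx K} (hl0 : l0 ∈ Φ.LB) (hu : u ∈ Φ.UB) (s : Kˣ) :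
    Φ.InCellB (Φ.φ2 (wMat K) * l0 * u) (Φ.Hs s * l0) ∧
      Φ.InCellB (Φ.φ2 (wMat K) * l0 * u) (Φ.Hs s * Φ.φB (vMat _ 1) * l0) := by
  set C5 := Φ.φ2 (wMat K)
  set V := Φ.φ2 (vMat K (s : K))
  set U := Φ.φ2 (uMat K (-(s : K)))
  have hrel : Φ.φ2 (uMat K ((s⁻¹ : Kˣ) : K)) * C5 = V * Φ.Hs s * U := by
    have := congrArg Φ.φ2 (uMat_mul_wMat s⁻¹)
    rw [map_mul, map_mul, map_mul, inv_inv, Φ.hMat_neg hf h2] at this
    suffices hh : Φ.φ2 (hMat s⁻¹) = Φ.Hs s by rw [this, hh]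
    have hnB : Φ.nO oB * Φ.Hs s⁻¹ * (Φ.nO oB)⁻¹ = Φ.Hs s⁻¹ := by
      have := Φ.φB_comm hf h2 (wMat _) s⁻¹
      simp only [φB, rankHom_wMat] at this
      rw [this, mul_inv_cancel_right]
    calc Φ.φ2 (hMat s⁻¹)
        = Φ.nO oA * (Φ.nO oB * Φ.Hs s⁻¹ * (Φ.nO oB)⁻¹) * (Φ.nO oA)⁻¹ := by
          rw [φ2_apply, Hs_apply]; group
      _ = Φ.φA (wMat K * hMat s⁻¹ * (wMat K)⁻¹) := by
          rw [hnB, map_mul, map_mul, map_inv Φ.φA (wMat K), φA_wMat, Hs_apply]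
      _ = Φ.Hs s := by
          rw [Hs_apply]
          congr 1
          rw [mul_inv_eq_iff_eq_mul]
          apply Subtype.ext; apply Matrix.ext; intro i j
          fin_cases i <;> fin_cases j <;>
            simp [hMat_val, wMat_val, Matrix.mul_apply, Fin.sum_univ_two]
  refine ⟨?_, ?_⟩
  · refine ⟨Φ.φ2 (uMat K ((s⁻¹ : Kˣ) : K)), Φ.φ2_mem_tG _, V, Φ.φ2_vMat_mem_UBm hf h2 _,
      l0⁻¹ * U * l0 * u * (Φ.φ2 (uMat K ((s⁻¹ : Kˣ) : K)))⁻¹, ?_, ?_⟩
    · refine mul_mem (mul_mem ?_ hu) (inv_mem (Φ.φ2_uMat_mem_UB hf h2 _))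
      have := Φ.conj_UB hf h2 (inv_mem hl0) (Φ.φ2_uMat_mem_UB hf h2 (-(s : K)))
      rwa [inv_inv] at this
    · calc _ = (Φ.φ2 (uMat K ((s⁻¹ : Kˣ) : K)) * C5) * l0 * u *
            (Φ.φ2 (uMat K ((s⁻¹ : Kˣ) : K)))⁻¹ := by group
        _ = _ := by rw [hrel]; group
  · obtain ⟨-, -, -, hAA, hBB, p22, -, e18, -, -, -, -, -, -, -, -, -, r19, r23⟩ := cases_two_D4
    obtain ⟨c, d, hc, -⟩ := Φ.φ2_root
    set X22 := X setupD4.good.good (rt 22) (1 : K)
    set X0 := X setupD4.good.good (rt 0) (1 : K)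
    have h22 : X22 ∈ Φ.UB := by
      obtain ⟨h, -, -, -⟩ := pairing_long_D4
      show X setupD4.good.good (rt 22) (1 : K) ∈ Φ.UB
      rw [← Φ.oX_fixedRoot h]
      exact Φ.oX_mem_UB (mem_compl_two (by simp)) (Φ.adm_one _)
    have hC5 : C5 * X0 = X22 * C5 := by
      have hmon : MonBy setupD4.good C5 (setupD4.wR oA * setupD4.wR oB * setupD4.wR oA *
          setupD4.wR oB * setupD4.wR oA) := by
        have h := (((Φ.monBy_nO oA).mul (Φ.monBy_nO oB)).mul (Φ.monBy_nO oA)).mul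
          ((Φ.monBy_nO oA).mul (Φ.monBy_nO oB)).inv
        rw [mul_inv_rev (setupD4.wR oA) (setupD4.wR oB), inv_eq_of_mul_eq_one_right hAA,
          inv_eq_of_mul_eq_one_right hBB] at h
        simp only [← mul_assoc] at h
        show MonBy setupD4.good (Φ.φ2 (wMat K)) _
        rw [φ2_apply, φA_wMat]
        simpa only [mul_assoc] using h
      have hC5f : C5 ∈ Φ.fix := Φ.tG_le_fix (Φ.φ2_mem_tG _)
      have h0 : setupD4.σR (rt 0) = rt 0 := (cases_D4.2.2.2.2.2.2.2.2.2.2.2.1 _ (by simp))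
      obtain ⟨h, -, -, -⟩ := pairing_long_D4
      obtain ⟨e, he, he'⟩ := Φ.exists_conj_fixed hmon hC5f h0 h p22
      have := he' 1 (map_one _)
      rw [Φ.fixed_unit hf h2 he, Units.val_one, one_mul, Φ.oX_fixedRoot h0,
        mul_inv_eq_iff_eq_mul] at this
      exact this
    set t := (c : K) * -(s : K) with ht
    have ht0 : t ≠ 0 := mul_ne_zero c.ne_zero (neg_ne_zero.2 s.ne_zero)
    have hU : U = Φ.oX (rt 17) t := hc _
    have hsw := Φ.swap_17_0 hf h2 ht0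
    set A := Φ.oX (rt 4) t
    set R := Φ.oX (rt 18) (Φ.f t * Φ.f (Φ.f t)) * X22 * Φ.oX (rt 17) t
    have hY : Φ.φB (vMat _ 1) = X setupD4.good.good (rt 9) (1 : K) := by
      rw [φB, rankHom_vMat, oYB]; rfl
    rw [hY]
    set X9 := X setupD4.good.good (rt 9) (1 : K)
    have hR : R ∈ Φ.UB := by
      refine mul_mem (mul_mem ?_ h22) (hU ▸ Φ.φ2_uMat_mem_UB hf h2 _)
      exact Φ.oX_mem_UB (mem_compl_two (by simp)) (fun h => absurd h (by decide +kernel))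
    have hXA : X0 * A ∈ Φ.UBm := by
      refine mul_mem ?_ ?_
      · have h0 : setupD4.σR (rt 0) = rt 0 := (cases_D4.2.2.2.2.2.2.2.2.2.2.2.1 _ (by simp))
        show X setupD4.good.good (rt 0) (1 : K) ∈ Φ.UBm
        rw [← Φ.oX_fixedRoot h0, ← r23]
        refine Φ.oX_mem_UBm (fun a ha => ?_) (Φ.adm_one _)
        rw [reps_D4.2.2.2.2.2.1, List.mem_singleton] at ha
        subst ha
        exact reps_D4.2.2.2.2.2.2.2.2.2.1
      · show Φ.oX (rt 4) t ∈ Φ.UBm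
        rw [← r19]
        exact Φ.oX_mem_UBm (mem_compl_two (by simp)) (fun h => absurd h (by decide +kernel))
    set u' := Φ.φ2 (uMat K ((s⁻¹ : Kˣ) : K)) * X22 with hu'
    have hu'UB : u' ∈ Φ.UB := mul_mem (Φ.φ2_uMat_mem_UB hf h2 _) h22
    have hmain : u' * C5 = (V * (Φ.Hs s * (X0 * A) * (Φ.Hs s)⁻¹)) * (Φ.Hs s * X9) * R := by
      calc u' * C5 = Φ.φ2 (uMat K ((s⁻¹ : Kˣ) : K)) * C5 * X0 := by
            rw [hu', mul_assoc, ← hC5]; group
        _ = V * Φ.Hs s * (Φ.oX (rt 17) t * X0) := by rw [hrel, hU]; group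
        _ = _ := by rw [hsw]; simp only [R, X9, A, X22, X0]; group
    refine ⟨u', Φ.UB_le_tG hf h2 hu'UB, V * (Φ.Hs s * (X0 * A) * (Φ.Hs s)⁻¹),
      mul_mem (Φ.φ2_vMat_mem_UBm hf h2 _) (Φ.conj_UBm hf h2 (Φ.Hs_mem_LB hf h2 s) hXA),
      l0⁻¹ * R * l0 * u * u'⁻¹, ?_, ?_⟩
    · refine mul_mem (mul_mem ?_ hu) (inv_mem hu'UB)
      have := Φ.conj_UB hf h2 (inv_mem hl0) hR
      rwa [inv_inv] at this
    · calc u' * (C5 * l0 * u) * u'⁻¹ = (u' * C5) * l0 * u * u'⁻¹ := by group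
        _ = _ := by rw [hmain]; group

end FieldTwist

end CfsgLib.GraphTwist
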