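import Cfsg.Agent.D4Square.TwoBasic

/-!
# `³D₄(2)`: the element of order `21` fixes nothing in the two long radicals
-/

set_option autoImplicit false
set_option linter.style.haveILetI false
set_option linter.unusedSectionVars false
set_option maxRecDepth 8000

namespace CfsgLib.GraphTwist

open Cfsg.Lie CfsgLib.Chevalley CfsgLib.SchurBN
open CfsgLib.Chevalley.RankOneRel (uMat vMat wMat uMat_val vMat_val wMat_val)
open scoped MatrixGroups

theorem reps_D4 :
    setupD4.rep ⟨1, by decide +kernel⟩ = rt 14 ∧ setupD4.rep ⟨4, by decide +kernel⟩ = rt 22 ∧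
    setupD4.rep ⟨5, by decide +kernel⟩ = rt 23 ∧
    setupD4.orb (rt 14) = [rt 14] ∧ setupD4.orb (rt 22) = [rt 22] ∧
    setupD4.orb (rt 23) = [rt 23] ∧ setupD4.norb = 6 ∧
    rt 14 ∉ setupD4.compl oB ∧ rt 22 ∈ setupD4.compl oB ∧ rt 23 ∈ setupD4.compl oB ∧
    ((rt 9 : Root chevD4) : ℕ) < half chevD4 := by
  refine ⟨?_, ?_, ?_, ?_, ?_, ?_, ?_, ?_, ?_, ?_, ?_⟩
  · decide +kernel
  · decide +kernel
  · decide +kernel
  · decide +kernel
  · decide +kernel
  · decide +kernel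
  · decide +kernel
  · intro h
    exact h.2 (show rt 14 ∈ setupD4.orb (setupD4.spR oB) by decide +kernel)
  · exact ⟨by decide +kernel, by decide +kernel⟩
  · exact ⟨by decide +kernel, by decide +kernel⟩
  · decide +kernel

theorem sl2_two_ids {F : Type*} [Field F] (h2 : (2 : F) = 0) :
    wMat F = uMat F 1 * vMat F 1 * uMat F 1 ∧
    vMat F 1 * (uMat F 1 * vMat F 1 * uMat F 1) = uMat F 1 * vMat F 1 * (uMat F 1 * uMat F 1) ∧
    vMat F 1 * (vMat F 1 * uMat F 1 * vMat F 1) = uMat F 1 * wMat F * (uMat F 1 * wMat F) ∧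
    uMat F 1 * wMat F * (uMat F 1 * wMat F) * (uMat F 1 * wMat F) = 1 ∧
    uMat F 1 * (uMat F 1 * wMat F) * uMat F 1 =
      uMat F 1 * wMat F * (uMat F 1 * wMat F) ∧
    vMat F 1 = uMat F 1 * wMat F * uMat F 1 := by
  refine ⟨?_, ?_, ?_, ?_, ?_, ?_⟩ <;>
  · apply Subtype.ext; apply Matrix.ext; intro i j
    fin_cases i <;> fin_cases j <;>
      simp [uMat_val, vMat_val, wMat_val, Matrix.mul_apply, Fin.sum_univ_two, Matrix.vecMul,
        dotProduct] <;>
      first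
        | linear_combination h2
        | linear_combination (-1 : F) * h2
        | linear_combination (2 : F) * h2
        | linear_combination (-2 : F) * h2

namespace FieldTwist

variable {K : Type*} [Field K] (Φ : FieldTwist setupD4 K) [Finite K]
  (hf : ∀ x, Φ.f x = x ^ 2) (h2 : (2 : K) = 0)
include hf h2

theorem Hs_injective {s : Kˣ} (h : Φ.Hs s = 1) : s = 1 := by
  obtain ⟨c, hc, e, hX, -⟩ := Φ.exists_φA_hMat s
  rw [Φ.Hs_apply, e] at h
  have h1 := ChevSimple.torC_conj_X setupD4.good.good c (setupD4.spR oA) (1 : K)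
  rw [h, one_mul, inv_one, mul_one, mul_one, hX, Units.val_pow_eq_pow_val] at h1
  have h3 := X_injective setupD4.good.good _ h1
  refine Units.ext ?_
  rw [Units.val_one]
  rcases mul_eq_zero.1 (show ((s : K) - 1) * ((s : K) - 1) = 0 by
    linear_combination -h3 + (1 - (s : K)) * h2) with h' | h' <;> exact sub_eq_zero.1 h'

/-- The three identities in the long rank one subgroup. -/
theorem T3_facts :
    Φ.T3 * Φ.T3 * Φ.T3 = 1 ∧ Φ.xb * Φ.T3 * Φ.xb = Φ.T3 * Φ.T3 ∧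
      Φ.φB (vMat _ 1) = Φ.T3 * Φ.xb := by
  obtain ⟨-, -, -, e1, e2, e3⟩ :=
    sl2_two_ids (F := Φ.admField (setupD4.spR oB)) (Subtype.ext h2)
  have hT : Φ.φB (uMat _ 1 * wMat _) = Φ.T3 := by
    rw [map_mul, Φ.xb_eq hf h2, φB, rankHom_wMat]; rfl
  refine ⟨?_, ?_, ?_⟩
  · rw [← hT, ← map_mul, ← map_mul, e1, map_one]
  · rw [← hT, ← Φ.xb_eq hf h2, ← map_mul, ← map_mul, ← map_mul, e2]
  · rw [e3, map_mul, hT, Φ.xb_eq hf h2]

theorem Even.flip {g : GL chevD4.Idx K} (h : Φ.Even (g * Φ.xb)) :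
    Φ.Even (Φ.φB (vMat _ 1) * g) := by
  obtain ⟨h3, hX, hY⟩ := Φ.T3_facts hf h2
  have hx := Φ.xb_mul_self hf h2
  have hg : g = g * Φ.xb * Φ.xb := by rw [mul_assoc, hx, mul_one]
  rw [hY]
  rcases h with h | h | h
  · exact Or.inr (Or.inl (by rw [hg, h, one_mul, mul_assoc, hx, mul_one]))
  · refine Or.inl ?_
    rw [hg, h, show Φ.T3 * Φ.xb * (Φ.T3 * Φ.xb) = Φ.T3 * (Φ.xb * Φ.T3 * Φ.xb) by group, hX,
      ← mul_assoc, h3]
  · refine Or.inr (Or.inr ?_)
    rw [hg, h, show Φ.T3 * Φ.xb * (Φ.T3 * Φ.T3 * Φ.xb) =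
      Φ.T3 * (Φ.xb * Φ.T3 * (Φ.xb * Φ.xb) * Φ.T3 * Φ.xb) by rw [hx]; group,
      show Φ.xb * Φ.T3 * (Φ.xb * Φ.xb) * Φ.T3 * Φ.xb =
        (Φ.xb * Φ.T3 * Φ.xb) * (Φ.xb * Φ.T3 * Φ.xb) by group, hX,
      show Φ.T3 * (Φ.T3 * Φ.T3 * (Φ.T3 * Φ.T3)) = Φ.T3 * Φ.T3 * Φ.T3 * (Φ.T3 * Φ.T3) by group,
      h3, one_mul]

/-- Independence of the two roots. -/
theorem X22_X23_eq_one {a b : K}
    (h : X setupD4.good.good (rt 22) a * X setupD4.good.good (rt 23) b = 1) : a = 0 ∧ b = 0 := by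
  obtain ⟨-, -, -, -, -, -, t1, n1, n1', t2, n2, n2', -⟩ := two_comm_D4
  have hb : b = 0 := by
    have e : X setupD4.good.good (rt 23) b = X setupD4.good.good (rt 22) (-a) := by
      rw [← X_inv]; exact eq_inv_of_mul_eq_one_right h
    have hs := swap_two h2 (k := 22) n2 n2' t2 b (1 : K)
    have hc : X setupD4.good.good (rt 9) (1 : K) * X setupD4.good.good (rt 22) (-a) =
        X setupD4.good.good (rt 22) (-a) * X setupD4.good.good (rt 9) (1 : K) :=
      ((commute_nil n1 n1' t1 (-a) (1 : K)).eq).symm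
    rw [e, hc, mul_one, eq_comm, mul_eq_left] at hs
    exact X_injective setupD4.good.good _ (hs.trans (X_zero _ _).symm)
  rw [hb, X_zero, mul_one] at h
  exact ⟨X_injective setupD4.good.good _ (h.trans (X_zero _ _).symm), hb⟩

theorem X22_X23_unique {a b a' b' : K}
    (h : X setupD4.good.good (rt 22) a * X setupD4.good.good (rt 23) b =
      X setupD4.good.good (rt 22) a' * X setupD4.good.good (rt 23) b') : a = a' ∧ b = b' := by
  have e : X setupD4.good.good (rt 22) (-a' + a) * X setupD4.good.good (rt 23) (b + -b') = 1 := by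
    rw [← X_mul, ← X_mul, ← X_inv, ← X_inv,
      show ∀ p q r s : GL chevD4.Idx K, p⁻¹ * q * (r * s⁻¹) = p⁻¹ * (q * r) * s⁻¹ from
        fun p q r s => by group, h]
    group
  obtain ⟨h1, h1'⟩ := Φ.X22_X23_eq_one hf h2 e
  exact ⟨by linear_combination h1, by linear_combination h1'⟩

/-- A torus element `≠ 1` and the element of order three have no common fixed point in the radical. -/
theorem fpf_UB {s : Kˣ} (hs : s ≠ 1) {n : GL chevD4.Idx K} (hn : n ∈ Φ.UB)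
    (h1 : Φ.Hs s * n = n * Φ.Hs s) (h3 : Φ.T3 * n = n * Φ.T3) : n = 1 := by
  obtain ⟨c, hc, ec, hX, -⟩ := Φ.exists_φA_hMat s
  rw [Φ.Hs_apply, ec] at h1
  have hY : ChevSimple.chi c (setupD4.spR oB) = 1 :=
    Φ.fixed_unit hf h2 (Φ.admU_iff.2 (Φ.chi_adm hc (setupD4.spR oB)) nodes_D4.2.1)
  set X' : Kˣ := s ^ 2 with hX'
  have hX1 : X' ≠ 1 := by
    intro e
    apply hs
    refine Units.ext ?_
    rw [Units.val_one]
    have e' := congrArg Units.val e
    rw [hX', Units.val_pow_eq_pow_val, Units.val_one] at e'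
    rcases mul_eq_zero.1 (show ((s : K) - 1) * ((s : K) - 1) = 0 by
      linear_combination e' + (1 - (s : K)) * h2) with h' | h' <;> exact sub_eq_zero.1 h'
  have hN : X' * Φ.fU X' * Φ.fU (Φ.fU X') = 1 := Φ.fixed_unit hf h2 (Φ.fU_norm X')
  have hfU1 : Φ.fU 1 = 1 := map_one _
  have hff : Φ.fU (Φ.fU X') ≠ 1 := fun e => hX1 (by rw [← Φ.fU3 X', e, hfU1])
  have hprod : Φ.fU X' * Φ.fU (Φ.fU X') ≠ 1 := fun e => hX1 (by
    rw [← hN, mul_assoc, e, mul_one])
  have hne : ∀ i : Fin setupD4.norb, (i : ℕ) = 0 ∨ (i : ℕ) = 2 ∨ (i : ℕ) = 3 →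
      ChevSimple.chi c (setupD4.rep i) ≠ 1 := by
    intro i hi
    rw [chi_rep Φ hc i X' 1 hX hY]
    fin_cases i <;> first
      | (simp at hi; done)
      | simp [repCoef, hff, hprod]
  obtain ⟨r1, r4, r5, o1, o4, o5, hnorb, hc14, hc22, hc23, h9⟩ := reps_D4
  have hn1 : n ∈ rootGen setupD4.good.good K (setupD4.compl oB) := hn.1
  have hpos : n ∈ setupD4.uT K 0 := by
    rw [setupD4.uT_zero]; exact (Φ.UB_le_U1 hn).1
  obtain ⟨t, ht⟩ := setupD4.exists_tailMul setupD4.norb 0 (Nat.zero_add _) n hpos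
  have horb : ∀ r (u : Root chevD4 → K), torC chevD4 c * setupD4.orbMul r u * (torC chevD4 c)⁻¹ =
      setupD4.orbMul r fun a => (ChevSimple.chi c a : K) * u a := by
    intro r u
    rw [Setup.orbMul, Setup.orbMul, ← MulAut.conj_apply, map_list_prod, List.map_map]
    exact congrArg List.prod (List.map_congr_left fun a _ => by
      rw [Function.comp_apply, MulAut.conj_apply, ChevSimple.torC_conj_X setupD4.good.good])
  have htail : torC chevD4 c * setupD4.tailMul 0 t * (torC chevD4 c)⁻¹ =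
      setupD4.tailMul 0 fun a => (ChevSimple.chi c a : K) * t a := by
    rw [Setup.tailMul, Setup.tailMul, ← MulAut.conj_apply, map_list_prod, List.map_map]
    refine congrArg List.prod (List.map_congr_left fun j _ => ?_)
    rw [Function.comp_apply, MulAut.conj_apply, Setup.factor, Setup.factor]
    split
    · exact horb _ _
    · simp
  have e : setupD4.tailMul 0 (fun a => (ChevSimple.chi c a : K) * t a) = setupD4.tailMul 0 t := by
    rw [← htail, ht, h1, mul_inv_cancel_right]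
  have hzero : ∀ i : Fin setupD4.norb, (i : ℕ) = 0 ∨ (i : ℕ) = 2 ∨ (i : ℕ) = 3 →
      setupD4.orbMul (setupD4.rep i) t = 1 := by
    intro i hi
    rw [setupD4.orbMul_congr (u := fun _ => (0 : K)), setupD4.orbMul_zero]
    intro r hr
    have hrpos := (setupD4.mem_orb_rep_iff.1 hr).1
    have he := setupD4.tailMul_injective e hrpos
    obtain ⟨j, ej⟩ := setupD4.mem_orb_iff.1 hr
    have hχ : ChevSimple.chi c r ≠ 1 := by
      rw [← ej]
      clear ej
      induction j with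
      | zero => exact hne i hi
      | succ j ih =>
        rw [pow_succ', Equiv.Perm.mul_apply, Φ.chi_σR hc]
        intro e'
        refine ih (Units.ext (Φ.f.injective ?_))
        rw [Units.val_one, map_one]
        exact congrArg Units.val e'
    by_contra h0
    exact hχ (Units.ext ((mul_eq_right₀ h0).1 he))
  have hsplit : n = X setupD4.good.good (rt 14) (t (rt 14)) *
      (X setupD4.good.good (rt 22) (t (rt 22)) * X setupD4.good.good (rt 23) (t (rt 23))) := by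
    have e6 : setupD4.tailMul (5 + 1) t = 1 := by
      rw [show (5 + 1 : ℕ) = setupD4.norb from hnorb.symm, setupD4.tailMul_norb]
    rw [← ht, setupD4.tailMul_succ ⟨0, by decide +kernel⟩ t, hzero ⟨0, by decide +kernel⟩ (Or.inl rfl), one_mul,
      setupD4.tailMul_succ ⟨1, by decide +kernel⟩ t,
      setupD4.tailMul_succ ⟨2, by decide +kernel⟩ t, hzero ⟨2, by decide +kernel⟩ (Or.inr (Or.inl rfl)), one_mul,
      setupD4.tailMul_succ ⟨3, by decide +kernel⟩ t, hzero ⟨3, by decide +kernel⟩ (Or.inr (Or.inr rfl)), one_mul,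
      setupD4.tailMul_succ ⟨4, by decide +kernel⟩ t,
      setupD4.tailMul_succ ⟨5, by decide +kernel⟩ t, e6, mul_one, r1, r4, r5]
    simp only [Setup.orbMul, o1, o4, o5, List.map_singleton, List.prod_singleton]
  set p := t (rt 14)
  set a := t (rt 22)
  set b := t (rt 23)
  -- no component at the long node
  have hp : p = 0 := by
    have hmem : X setupD4.good.good (rt 14) p ∈
        rootGen setupD4.good.good K (setupD4.compl oB) := by
      have := mul_mem (hn1) (inv_mem (mul_mem (X_mem_rootGen _ hc22 a) (X_mem_rootGen _ hc23 b)))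
      rwa [hsplit, mul_inv_cancel_right] at this
    obtain ⟨d, hd⟩ := (Φ.monBy_nO oB).conj_X (rt 14)
    have h' : Φ.nO oB * X setupD4.good.good (rt 14) p * (Φ.nO oB)⁻¹ ∈
        chevD4.posUnipotent K := by
      rw [posUnipotent_eq_rootGen setupD4.good.good]
      exact rootGen_mono _ (fun r hr => hr.1) (Φ.nO_conj_compl oB hmem)
    have e14 : setupD4.wR oB (rt 14) = rt 9 := by decide +kernel
    rw [hd, e14] at h'
    have h'' : X setupD4.good.good (rt 9) ((d : K) * p) ∈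
        chevD4.borelSubgroup K ⊓ chevD4.negUnipotent K :=
      ⟨pos_le_borel chevD4 h', by
        rw [negUnipotent_eq_rootGen setupD4.good.good]; exact X_mem_rootGen _ h9 _⟩
    rw [borel_inf_neg setupD4.good, Subgroup.mem_bot] at h''
    exact (mul_eq_zero.1 (X_injective setupD4.good.good _ (h''.trans (X_zero _ _).symm))).resolve_left
      d.ne_zero
  rw [hp, X_zero, one_mul] at hsplit
  obtain ⟨h22, h23, -, -⟩ := pairing_long_D4
  -- the two parameters are fixed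
  have hfix : Φ.f a = a ∧ Φ.f b = b := by
    have hΨ := Φ.mem_fix.1 hn.2
    rw [hsplit, map_mul, Ψ_X, Ψ_X, h22, h23,
      (setupD4.valid.root' (rt 22).2).2.2.2.2.1 (by rw [← setupD4.σR_val, h22]),
      (setupD4.valid.root' (rt 23).2).2.2.2.2.1 (by rw [← setupD4.σR_val, h23]),
      Int.cast_one, one_mul, one_mul] at hΨ
    exact Φ.X22_X23_unique hf h2 hΨ
  obtain ⟨ta, tb, -⟩ := two_comm_D4
  obtain ⟨-, -, -, t3, n3, n3', -⟩ := two_comm_D4
  have hnb : ∀ {r r' : Root chevD4}, setupD4.σR r = r → setupD4.σR r' = r' →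
      setupD4.wR oB r = r' → ∀ {v : K}, Φ.f v = v →
      Φ.nO oB * X setupD4.good.good r v * (Φ.nO oB)⁻¹ = X setupD4.good.good r' v := by
    intro r r' hr hr' e v hv
    obtain ⟨d, hd, hd'⟩ := Φ.exists_conj_fixed (Φ.monBy_nO oB) (Φ.nO_mem_fix oB) hr hr' e
    rw [← Φ.oX_fixedRoot hr, hd' v hv, Φ.fixed_unit hf h2 hd, Units.val_one, one_mul]
  obtain ⟨-, w22, w23, -⟩ := two_D4
  have hxX : Φ.xb * X setupD4.good.good (rt 22) b * Φ.xb⁻¹ =
      X setupD4.good.good (rt 22) b * X setupD4.good.good (rt 23) b := by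
    have hs := swap_two h2 (k := 23) tb (two_comm_D4.2.2.1) ta (1 : K) b
    rw [one_mul] at hs
    have hc : Commute (X setupD4.good.good (rt 14) (1 : K)) (X setupD4.good.good (rt 23) b) :=
      commute_nil n3 n3' t3 _ _
    rw [xb, Function.const_apply, mul_inv_eq_iff_eq_mul, mul_assoc (X setupD4.good.good (rt 22) b),
      ← hc.eq, ← mul_assoc, hs, mul_assoc _ (X setupD4.good.good (rt 23) b),
      X_mul, show b + b = 0 by linear_combination b * h2, X_zero, mul_one]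
  have hT : X setupD4.good.good (rt 22) b * X setupD4.good.good (rt 23) (a + b) =
      X setupD4.good.good (rt 22) a * X setupD4.good.good (rt 23) b := by
    have h' : Φ.T3 * n * Φ.T3⁻¹ = n := by rw [h3, mul_inv_cancel_right]
    rw [hsplit, T3] at h'
    refine Eq.trans ?_ h'
    have hc : Commute (X setupD4.good.good (rt 14) (1 : K)) (X setupD4.good.good (rt 23) a) :=
      commute_nil n3 n3' t3 _ _
    have hc2 : Commute (X setupD4.good.good (rt 22) b) (X setupD4.good.good (rt 23) a) := by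
      obtain ⟨-, -, -, -, -, -, -, -, -, -, -, -, t4, n4, n4'⟩ := two_comm_D4
      exact commute_nil n4 n4' t4 _ _
    rw [show Φ.xb * Φ.nO oB * (X setupD4.good.good (rt 22) a * X setupD4.good.good (rt 23) b) *
        (Φ.xb * Φ.nO oB)⁻¹ = Φ.xb * ((Φ.nO oB * X setupD4.good.good (rt 22) a * (Φ.nO oB)⁻¹) *
          (Φ.nO oB * X setupD4.good.good (rt 23) b * (Φ.nO oB)⁻¹)) * Φ.xb⁻¹ by group,
      hnb h22 h23 w22 hfix.1, hnb h23 h22 w23 hfix.2,
      show Φ.xb * (X setupD4.good.good (rt 23) a * X setupD4.good.good (rt 22) b) * Φ.xb⁻¹ =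
        (Φ.xb * X setupD4.good.good (rt 23) a * Φ.xb⁻¹) *
          (Φ.xb * X setupD4.good.good (rt 22) b * Φ.xb⁻¹) by group, hxX]
    have ha : Φ.xb * X setupD4.good.good (rt 23) a * Φ.xb⁻¹ = X setupD4.good.good (rt 23) a := by
      rw [xb, Function.const_apply, hc.eq, mul_inv_cancel_right]
    rw [ha, ← mul_assoc, ← hc2.eq, mul_assoc, X_mul]
  obtain ⟨e1, e2⟩ := Φ.X22_X23_unique hf h2 hT
  have ha0 : a = 0 := by linear_combination e2
  have hb0 : b = 0 := by rw [e1, ha0]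
  rw [hsplit, ha0, hb0, X_zero, X_zero, one_mul]

/-- The longest element turns the element of order three into its inverse. -/
theorem g0_conj_T3 : Φ.g0⁻¹ * Φ.T3 * Φ.g0 = Φ.T3 * Φ.T3 := by
  obtain ⟨ew, -, e3, -, -, -⟩ :=
    sl2_two_ids (F := Φ.admField (setupD4.spR oB)) (Subtype.ext h2)
  have hX : Φ.g0⁻¹ * Φ.φB (uMat _ 1) * Φ.g0 = Φ.φB (vMat _ 1) := by
    obtain ⟨c, hc⟩ := Φ.g0_inv_conj_oX (setupD4.spR oB)
    obtain ⟨hadm, e⟩ := hc 1 (Φ.adm_one _)
    have hc1 : ((c : K) * 1) = 1 :=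
      (Φ.fixed_cases hf h2 ((Φ.adm_rev.1 hadm) nodes_D4.2.1)).resolve_left
        (by rw [mul_one]; exact c.ne_zero)
    rw [φB, rankHom_uMat, rankHom_vMat]
    show Φ.g0⁻¹ * Φ.oX (setupD4.spR oB) (1 : K) * Φ.g0 = Φ.oX (setupD4.spR oB).rev (1 : K)
    rw [e, hc1]
  have hY : Φ.g0⁻¹ * Φ.φB (vMat _ 1) * Φ.g0 = Φ.φB (uMat _ 1) := by
    obtain ⟨c, hc⟩ := Φ.g0_inv_conj_oX (setupD4.spR oB).rev
    obtain ⟨hadm, e⟩ := hc 1 (Φ.adm_rev.2 (Φ.adm_one _))
    rw [Fin.rev_rev] at hadm e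
    have hc1 : ((c : K) * 1) = 1 :=
      (Φ.fixed_cases hf h2 (hadm nodes_D4.2.1)).resolve_left
        (by rw [mul_one]; exact c.ne_zero)
    rw [φB, rankHom_uMat, rankHom_vMat]
    show Φ.g0⁻¹ * Φ.oX (setupD4.spR oB).rev (1 : K) * Φ.g0 = Φ.oX (setupD4.spR oB) (1 : K)
    rw [e, hc1]
  have hT : Φ.T3 = Φ.φB (uMat _ 1 * wMat _) := by
    rw [map_mul, Φ.xb_eq hf h2, φB, rankHom_wMat]; rfl
  have hTT : Φ.T3 * Φ.T3 = Φ.φB (vMat _ 1 * (vMat _ 1 * uMat _ 1 * vMat _ 1)) := by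
    rw [e3, hT, ← map_mul]
  rw [hTT, hT, ew]
  simp only [map_mul]
  calc Φ.g0⁻¹ * (Φ.φB (uMat _ 1) * (Φ.φB (uMat _ 1) * Φ.φB (vMat _ 1) * Φ.φB (uMat _ 1))) * Φ.g0
      = (Φ.g0⁻¹ * Φ.φB (uMat _ 1) * Φ.g0) * ((Φ.g0⁻¹ * Φ.φB (uMat _ 1) * Φ.g0) *
          (Φ.g0⁻¹ * Φ.φB (vMat _ 1) * Φ.g0) * (Φ.g0⁻¹ * Φ.φB (uMat _ 1) * Φ.g0)) := by group
    _ = _ := by rw [hX, hY]

/-- The same in the opposite radical. -/
theorem fpf_UBm {s : Kˣ} (hs : s ≠ 1) {n : GL chevD4.Idx K} (hn : n ∈ Φ.UBm)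
    (h1 : Φ.Hs s * n = n * Φ.Hs s) (h3 : Φ.T3 * n = n * Φ.T3) : n = 1 := by
  obtain ⟨π, hπ, -⟩ := Φ.g0_mon
  have hH := Φ.conj_H₀ hπ.inv (inv_mem Φ.g0_mem_fix) (Φ.Hs_mem_H₀ s)
  rw [inv_inv] at hH
  obtain ⟨s', es'⟩ := Φ.exists_Hs hf h2 hH
  have hs' : s' ≠ 1 := by
    intro e
    apply hs
    apply Φ.Hs_injective hf h2
    calc Φ.Hs s = Φ.g0 * (Φ.g0⁻¹ * Φ.Hs s * Φ.g0) * Φ.g0⁻¹ := by group
      _ = 1 := by rw [es', e, map_one]; group
  have hn' := Φ.mem_UBm.1 hn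
  have hcomm : ∀ y : GL chevD4.Idx K, y * n = n * y →
      Φ.g0⁻¹ * y * Φ.g0 * (Φ.g0⁻¹ * n * Φ.g0) = Φ.g0⁻¹ * n * Φ.g0 * (Φ.g0⁻¹ * y * Φ.g0) :=
    fun y hy => by
      rw [show ∀ a b : GL chevD4.Idx K, Φ.g0⁻¹ * a * Φ.g0 * (Φ.g0⁻¹ * b * Φ.g0) =
        Φ.g0⁻¹ * (a * b) * Φ.g0 from fun a b => by group, hy]
      group
  obtain ⟨hT, -, -⟩ := Φ.T3_facts hf h2
  have h4 : Φ.g0⁻¹ * Φ.T3 * Φ.g0 * (Φ.g0⁻¹ * Φ.T3 * Φ.g0) = Φ.T3 := by
    rw [Φ.g0_conj_T3 hf h2, ← mul_assoc, hT, one_mul]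
  have := Φ.fpf_UB hf h2 hs' hn' (es' ▸ hcomm _ h1) (by
    have hc : Commute (Φ.g0⁻¹ * Φ.T3 * Φ.g0) (Φ.g0⁻¹ * n * Φ.g0) := hcomm _ h3
    have := (hc.mul_left hc).eq
    rwa [h4] at this)
  calc n = Φ.g0 * (Φ.g0⁻¹ * n * Φ.g0) * Φ.g0⁻¹ := by group
    _ = 1 := by rw [this]; group

end FieldTwist

end CfsgLib.GraphTwist
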