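import Cfsg.Agent.D4Square.TwoCases

/-!
# `³D₄(2)`: every element is conjugate into one of two double cosets of the long parabolic
-/

set_option autoImplicit false
set_option linter.style.haveILetI false
set_option linter.unusedSectionVars false
set_option maxRecDepth 8000

namespace CfsgLib.GraphTwist

open Cfsg.Lie CfsgLib.Chevalley CfsgLib.SchurBN
open CfsgLib.Chevalley.RankOneRel (uMat vMat wMat uMat_val vMat_val wMat_val)
open scoped MatrixGroups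

theorem reduceB_D4 :
    (∀ r : Root chevD4, pA r = setupD4.spR oB → half chevD4 ≤ (r : ℕ)) ∧
    half chevD4 ≤ ((pB * pA) (setupD4.spR oB) : ℕ) ∧
    (∀ r : Root chevD4, (pB * pA * pB) r = setupD4.spR oA → half chevD4 ≤ (r : ℕ)) ∧
    half chevD4 ≤ ((pA * (pB * pA * pB)) (setupD4.spR oA) : ℕ) ∧
    (∀ r : Root chevD4, (pB * pA) r = setupD4.spR oA → half chevD4 ≤ (r : ℕ)) ∧
    (∀ r : Root chevD4, pB r = setupD4.spR oA → half chevD4 ≤ (r : ℕ)) := by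
  decide +kernel

namespace FieldTwist

variable {K : Type*} [Field K] (Φ : FieldTwist setupD4 K) [Finite K]
  (hf : ∀ x, Φ.f x = x ^ 2) (h2 : (2 : K) = 0)

/-- The long parabolic. -/
def PB : Subgroup (GL chevD4.Idx K) := Φ.LB ⊔ Φ.UB

include hf h2

theorem nB_mul_self : Φ.nO oB * Φ.nO oB = 1 := by
  have h' : (2 : Φ.admField (setupD4.spR oB)) = 0 := Subtype.ext h2
  have e : wMat (Φ.admField (setupD4.spR oB)) * wMat _ = 1 := by
    apply Subtype.ext; apply Matrix.ext; intro i j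
    fin_cases i <;> fin_cases j <;> simp [wMat_val, Matrix.mul_apply, Fin.sum_univ_two] <;>
      linear_combination -h'
  have := congrArg Φ.φB e
  rwa [map_mul, map_one, φB, rankHom_wMat] at this

theorem mem_PB {g : GL chevD4.Idx K} : g ∈ Φ.PB ↔ ∃ l ∈ Φ.LB, ∃ u ∈ Φ.UB, g = l * u := by
  have hn : Φ.LB ≤ Subgroup.normalizer (Φ.UB : Set (GL chevD4.Idx K)) := fun k hk =>
    Subgroup.mem_normalizer_iff.2 fun u => ⟨Φ.conj_UB hf h2 hk, fun h => by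
      have := Φ.conj_UB hf h2 (inv_mem hk) h
      rwa [show k⁻¹ * (k * u * k⁻¹) * k⁻¹⁻¹ = u by group] at this⟩
  rw [PB, ← SetLike.mem_coe, Subgroup.coe_mul_of_left_le_normalizer_right _ _ hn, Set.mem_mul]
  exact ⟨fun ⟨l, hl, u, hu, e⟩ => ⟨l, hl, u, hu, e.symm⟩,
    fun ⟨l, hl, u, hu, e⟩ => ⟨l, hl, u, hu, e.symm⟩⟩

theorem PB_le_tG : Φ.PB ≤ Φ.tG := sup_le (Φ.LB_le_tG hf h2) (Φ.UB_le_tG hf h2)

theorem U1_le_PB : Φ.U1 ≤ Φ.PB := fun g hg => by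
  obtain ⟨v, hv, x, hx, rfl⟩ := Φ.exists_split_U1 oB hg
  refine mul_mem (Subgroup.mem_sup_right hv) (Subgroup.mem_sup_left ?_)
  rw [← Φ.rankHom_uMat oB ⟨x, hx⟩]
  exact Φ.φB_mem_LB hf h2 _

theorem B1_le_PB : Φ.B1 ≤ Φ.PB :=
  sup_le (Φ.U1_le_PB hf h2) ((Φ.H₀_le_LB hf h2).trans le_sup_left)

theorem nA_not_mem_PB : Φ.nO oA ∉ Φ.PB := by
  intro h
  obtain ⟨l, hl, w, hw, e⟩ := (Φ.mem_PB hf h2).1 h
  have hcompl : ∀ a ∈ setupD4.orb (setupD4.spR oA), a ∈ setupD4.compl oB := by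
    rw [cases_two_D4.2.2.2.2.2.2.2.1]
    exact mem_compl_two (by simp)
  set x := Φ.oX (setupD4.spR oA) (1 : K)
  have hx : x ∈ Φ.UB := Φ.oX_mem_UB hcompl (Φ.adm_one _)
  have h1 : Φ.nO oA * x * (Φ.nO oA)⁻¹ ∈ Φ.UB := by
    rw [e, show l * w * x * (l * w)⁻¹ = l * (w * x * w⁻¹) * l⁻¹ by group]
    exact Φ.conj_UB hf h2 hl (mul_mem (mul_mem hw hx) (inv_mem hw))
  obtain ⟨c, hc⟩ := Φ.conj_oX (Φ.monBy_nO oA) (Φ.nO_mem_fix oA) (setupD4.spR oA)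
  obtain ⟨hadm, e1⟩ := hc 1 (Φ.adm_one _)
  rw [e1, setupD4.wR_orb (setupD4.self_mem_orb _), mul_one] at h1
  have hneg : Φ.oX (setupD4.spR oA).rev ((c : Kˣ) : K) ∈ chevD4.negUnipotent K := by
    rw [negUnipotent_eq_rootGen setupD4.good.good]
    refine rootGen_mono _ (fun a ha => ?_) (Φ.oX_mem_rootGen _ _)
    have h : ∀ a ∈ setupD4.orb (setupD4.spR oA).rev, (a : ℕ) < half chevD4 := by decide +kernel
    exact h a ha
  have h2' : Φ.oX (setupD4.spR oA).rev ((c : Kˣ) : K) ∈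
      chevD4.borelSubgroup K ⊓ chevD4.negUnipotent K :=
    ⟨pos_le_borel chevD4 (Φ.UB_le_U1 h1).1, hneg⟩
  rw [borel_inf_neg setupD4.good, Subgroup.mem_bot, ← φA_vMat] at h2'
  have h4 : Φ.φA (uMat K (-((c : Kˣ) : K))) = 1 := by
    have e3 : wMat K * uMat K (-((c : Kˣ) : K)) * (wMat K)⁻¹ = vMat K ((c : Kˣ) : K) := by
      rw [vMat_conj, neg_neg]
    rw [← e3, map_mul, map_mul, map_inv] at h2'
    calc Φ.φA (uMat K (-((c : Kˣ) : K)))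
        = (Φ.φA (wMat K))⁻¹ * (Φ.φA (wMat K) * Φ.φA (uMat K (-((c : Kˣ) : K))) *
            (Φ.φA (wMat K))⁻¹) * Φ.φA (wMat K) := by group
      _ = 1 := by rw [h2']; group
  rw [φA_uMat, ← Φ.oX_zero (setupD4.spR oA)] at h4
  exact c.ne_zero (neg_eq_zero.1 (Φ.oX_injective (setupD4.spR_pos oA) h4))

theorem exists_conj_not_mem_PB (hs : IsSimpleGroup ↥Φ.tG) {g : GL chevD4.Idx K}
    (hg : g ∈ Φ.tG) (hg1 : g ≠ 1) : ∃ k ∈ Φ.tG, k * g * k⁻¹ ∉ Φ.PB := by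
  by_contra h
  push Not at h
  let g' : ↥Φ.tG := ⟨g, hg⟩
  have hle : Subgroup.normalClosure {g'} ≤ Φ.PB.subgroupOf Φ.tG := by
    refine (Subgroup.closure_le _).2 fun z hz => ?_
    obtain ⟨a, ha, hconj⟩ := Group.mem_conjugatesOfSet_iff.1 hz
    rw [Set.mem_singleton_iff] at ha
    subst ha
    obtain ⟨c, hc⟩ := isConj_iff.1 hconj
    rw [← hc]
    exact h c c.2
  rcases (Subgroup.normalClosure_normal (s := {g'})).eq_bot_or_eq_top with e | e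
  · have h0 : g' = 1 := Subgroup.mem_bot.1
      (e ▸ Subgroup.subset_normalClosure (Set.mem_singleton g') : g' ∈ (⊥ : Subgroup ↥Φ.tG))
    exact hg1 (congrArg Subtype.val h0)
  · exact Φ.nA_not_mem_PB hf h2 (hle (e ▸ Subgroup.mem_top (⟨_, Φ.nO_mem_tG oA⟩ : ↥Φ.tG)))

theorem LB_cases_B1 {l : GL chevD4.Idx K} (hl : l ∈ Φ.LB) :
    l ∈ Φ.B1 ∨ Φ.InBB (Φ.nO oB) l := by
  obtain ⟨s, A, -, rfl⟩ := hl
  have hxb : Φ.xb ∈ Φ.B1 := Subgroup.mem_sup_left (by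
    rw [← Φ.xb_eq hf h2, φB, rankHom_uMat]
    exact ⟨Φ.oX_mem_pos (setupD4.spR_pos oB) _, Φ.oX_mem_fix (Φ.adm_one _)⟩)
  have hs : Φ.Hs s ∈ Φ.B1 := Subgroup.mem_sup_right (Φ.Hs_mem_H₀ s)
  have hT : Φ.InBB (Φ.nO oB) Φ.T3 := InBB.mk' hxb (one_mem _) (by rw [T3, mul_one])
  have hTT : Φ.InBB (Φ.nO oB) (Φ.T3 * Φ.T3) := by
    obtain ⟨h3, -, -⟩ := Φ.T3_facts hf h2
    rw [eq_inv_of_mul_eq_one_left h3, T3, mul_inv_rev,
      inv_eq_of_mul_eq_one_right (Φ.nB_mul_self hf h2)]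
    exact InBB.mk' (one_mem _) (inv_mem hxb) (by rw [one_mul])
  rcases Φ.φB_cases hf h2 A with h | h
  · rcases h with h | h | h
    · exact Or.inl (by rw [h, mul_one]; exact hs)
    · exact Or.inr (by rw [h]; exact hT.lmul hs)
    · exact Or.inr (by rw [h]; exact hTT.lmul hs)
  · have e : Φ.φB A = Φ.φB A * Φ.xb * Φ.xb := by rw [mul_assoc, Φ.xb_mul_self hf h2, mul_one]
    rcases h with h | h | h
    · exact Or.inl (by rw [e, h, one_mul]; exact mul_mem hs hxb)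
    · exact Or.inr (by rw [e, h]; exact (hT.rmul hxb).lmul hs)
    · exact Or.inr (by rw [e, h]; exact (hTT.rmul hxb).lmul hs)

theorem inBB_a {g : GL chevD4.Idx K} (h : Φ.InBB (Φ.nO oA) g) :
    ∃ k ∈ Φ.tG, Φ.InBB (Φ.φ2 (wMat K)) (k * g * k⁻¹) := by
  obtain ⟨c1, c2, c3, c4, -, -⟩ := reduceB_D4
  have h1 := h.conj_nO oB (Φ.nO_mem_M₀ oA) (Φ.monBy_nO oA) c1 c2
  have hmon : MonBy setupD4.good (Φ.nO oB * Φ.nO oA * (Φ.nO oB)⁻¹) (pB * pA * pB) := by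
    have := ((Φ.monBy_nO oB).mul (Φ.monBy_nO oA)).mul (Φ.monBy_nO oB).inv
    rwa [inv_eq_of_mul_eq_one_right cases_two_D4.2.2.2.2.1] at this
  have h3 := h1.conj_nO oA
    (mul_mem (mul_mem (Φ.nO_mem_M₀ oB) (Φ.nO_mem_M₀ oA)) (inv_mem (Φ.nO_mem_M₀ oB))) hmon c3 c4
  refine ⟨Φ.nO oA * Φ.nO oB, mul_mem (Φ.nO_mem_tG oA) Φ.nB_mem_tG, ?_⟩
  rw [φ2_apply, φA_wMat]
  convert h3 using 1 <;> group

theorem inBB_ab {g : GL chevD4.Idx K} (h : Φ.InBB (Φ.nO oA * Φ.nO oB) g) :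
    ∃ k ∈ Φ.tG, Φ.InBB (Φ.nO oA * Φ.nO oB * Φ.nO oA) (k * g * k⁻¹) := by
  obtain ⟨a, ha, b, hb, rfl⟩ := h
  obtain ⟨cA, -, -, -, cBA, -⟩ := reduceB_D4
  set nA := Φ.nO oA with hnA
  set nB := Φ.nO oB with hnB
  set x := Φ.φA (uMat K (1 : K)) with hx
  have hU : ∀ t : K, Φ.φA (uMat K t) ∈ Φ.B1 := fun t =>
    Subgroup.mem_sup_left (Φ.φA_uMat_mem_U1 t)
  have hrel : nA * x * nA⁻¹ = Φ.φA (uMat K (-1)) * nA * Φ.φA (uMat K (-1)) := by
    have : wMat K * uMat K 1 * (wMat K)⁻¹ = uMat K (-1) * wMat K * uMat K (-1) := by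
      rw [vMat_conj]
      apply Subtype.ext; apply Matrix.ext; intro i j
      fin_cases i <;> fin_cases j <;>
        simp [uMat_val, vMat_val, wMat_val, Matrix.mul_apply, Fin.sum_univ_two]
    have h' := congrArg Φ.φA this
    simp only [map_mul, map_inv, φA_wMat] at h'
    exact h'
  have hAA : nA * nA = 1 := Φ.nA_mul_self hf h2
  set β := b * a
  have hβ : β ∈ Φ.B1 := mul_mem hb ha
  have h1 : Φ.InBB (nB * nA) (nB * (β * x⁻¹ * nA)) :=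
    InBB.nO_mul ((InBB.self (Φ := Φ) nA).lmul (mul_mem hβ (inv_mem (hU 1)))) oB
      (Φ.nO_mem_M₀ oA) (Φ.monBy_nO oA) cA
  have h3 := ((h1.lmul (hU (-1))).nO_mul oA
    (mul_mem (Φ.nO_mem_M₀ oB) (Φ.nO_mem_M₀ oA)) ((Φ.monBy_nO oB).mul (Φ.monBy_nO oA)) cBA).lmul
      (hU (-1))
  refine ⟨nA * x * a⁻¹, mul_mem (mul_mem (Φ.nO_mem_tG oA) (Φ.B1_le_tG (hU 1)))
    (inv_mem (Φ.B1_le_tG ha)), ?_⟩
  have hinv : nA⁻¹ = nA := inv_eq_of_mul_eq_one_right hAA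
  rw [show nA * nB * nA = nA * (nB * nA) by group,
    show nA * x * a⁻¹ * (a * (nA * nB) * b) * (nA * x * a⁻¹)⁻¹ =
      (nA * x * nA) * (nB * (β * x⁻¹ * nA⁻¹)) by simp only [β]; group, hinv,
    show nA * x * nA = nA * x * nA⁻¹ by rw [hinv], hrel]
  convert h3 using 1
  simp only [nA, nB]
  group

/-- The reduction to the two double cosets. -/
theorem exists_normalFormB (hs : IsSimpleGroup ↥Φ.tG) {g : GL chevD4.Idx K} (hg : g ∈ Φ.tG)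
    (hg1 : g ≠ 1) : ∃ C, (C = Φ.nO oA * Φ.nO oB * Φ.nO oA ∨ C = Φ.φ2 (wMat K)) ∧
      ∃ k ∈ Φ.tG, ∃ l ∈ Φ.LB, ∃ u ∈ Φ.UB, k * g * k⁻¹ = C * l * u := by
  set nA := Φ.nO oA
  set nB := Φ.nO oB
  let NF : GL chevD4.Idx K → GL chevD4.Idx K → Prop := fun C g =>
    ∃ k ∈ Φ.tG, ∃ l ∈ Φ.LB, ∃ u ∈ Φ.UB, k * g * k⁻¹ = C * l * u
  have hsides : ∀ C g p p', p ∈ Φ.PB → p' ∈ Φ.PB → g = p * C * p' → NF C g := by
    intro C g p p' hp hp' e
    obtain ⟨l, hl, u, hu, e'⟩ := (Φ.mem_PB hf h2).1 (mul_mem hp' hp)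
    exact ⟨p⁻¹, inv_mem (Φ.PB_le_tG hf h2 hp), l, hl, u, hu, by rw [e, mul_assoc C l u, ← e']; group⟩
  have hbb : ∀ C g, Φ.InBB C g → NF C g := fun C g ⟨a, ha, b, hb, e⟩ =>
    hsides C g a b (Φ.B1_le_PB hf h2 ha) (Φ.B1_le_PB hf h2 hb) e
  have htrans : ∀ C g k, k ∈ Φ.tG → NF C (k * g * k⁻¹) → NF C g := by
    rintro C g k hk ⟨k', hk', l, hl, u, hu, e⟩
    exact ⟨k' * k, mul_mem hk' hk, l, hl, u, hu, by rw [← e]; group⟩
  suffices h : NF (nA * nB * nA) g ∨ NF (Φ.φ2 (wMat K)) g by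
    rcases h with h | h
    · exact ⟨_, Or.inl rfl, h⟩
    · exact ⟨_, Or.inr rfl, h⟩
  obtain ⟨k₀, hk₀, hout⟩ := Φ.exists_conj_not_mem_PB hf h2 hs hg hg1
  suffices h : NF (nA * nB * nA) (k₀ * g * k₀⁻¹) ∨ NF (Φ.φ2 (wMat K)) (k₀ * g * k₀⁻¹) by
    exact h.imp (htrans _ g k₀ hk₀) (htrans _ g k₀ hk₀)
  have hg' : k₀ * g * k₀⁻¹ ∈ Φ.tG := mul_mem (mul_mem hk₀ hg) (inv_mem hk₀)
  generalize k₀ * g * k₀⁻¹ = g' at hout hg' ⊢
  obtain ⟨v, hv, m, hm, w, hw, rfl⟩ := Φ.exists_decomp hg'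
  obtain ⟨π, hπ, hmπ⟩ := Φ.exists_wList hm
  have hnB : nB ∈ Φ.PB := Subgroup.mem_sup_left (Φ.nB_mem_LB hf h2)
  obtain ⟨-, -, -, -, -, -, hA2, hB2, hAB⟩ := reduce_D4
  have hrep : ∀ C ∈ Φ.M₀, ∀ τ, MonBy setupD4.good C τ →
      π ∈ [τ, pB * τ, τ * pB, pB * τ * pB] → NF C (v * m * w) := by
    intro C hC τ hτ hmem
    have main : ∀ s ∈ Φ.PB, ∀ t ∈ Φ.PB, s ∈ Φ.M₀ → t ∈ Φ.M₀ →
        MonBy setupD4.good (s * C * t) π → NF C (v * m * w) := by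
      intro s hs' t ht' hsM htM hmon
      have hin : (s * C * t)⁻¹ * m ∈ Φ.H₀ := by
        refine Φ.mem_H₀_of_monBy_one setupD4_faithful
          (mul_mem (inv_mem (mul_mem (mul_mem hsM hC) htM)) hm) ?_
        have := hmon.inv.mul hmπ
        rwa [inv_mul_cancel] at this
      refine hsides C _ (v * s) (t * ((s * C * t)⁻¹ * m) * w)
        (mul_mem (Φ.U1_le_PB hf h2 hv) hs')
        (mul_mem (mul_mem ht' (Subgroup.mem_sup_left (Φ.H₀_le_LB hf h2 hin)))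
          (Φ.U1_le_PB hf h2 hw)) ?_
      group
    have hB := Φ.monBy_nO oB
    simp only [List.mem_cons, List.not_mem_nil, or_false] at hmem
    rcases hmem with rfl | rfl | rfl | rfl
    · exact main 1 (one_mem _) 1 (one_mem _) (one_mem _) (one_mem _) (by simpa using hτ)
    · exact main nB hnB 1 (one_mem _) (Φ.nO_mem_M₀ oB) (one_mem _) (by simpa using hB.mul hτ)
    · exact main 1 (one_mem _) nB hnB (one_mem _) (Φ.nO_mem_M₀ oB) (by simpa using hτ.mul hB)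
    · exact main nB hnB nB hnB (Φ.nO_mem_M₀ oB) (Φ.nO_mem_M₀ oB) ((hB.mul hτ).mul hB)
  have hmA := Φ.monBy_nO oA
  have hmB := Φ.monBy_nO oB
  have hABA : nA * nB * nA ∈ Φ.M₀ :=
    mul_mem (mul_mem (Φ.nO_mem_M₀ oA) (Φ.nO_mem_M₀ oB)) (Φ.nO_mem_M₀ oA)
  -- the three kinds
  have small : π = 1 ∨ π = pB → False := by
    intro h
    refine hout (mul_mem (mul_mem (Φ.U1_le_PB hf h2 hv) ?_) (Φ.U1_le_PB hf h2 hw))
    rcases h with h | h
    · exact Subgroup.mem_sup_left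
        (Φ.H₀_le_LB hf h2 (Φ.mem_H₀_of_monBy_one setupD4_faithful hm (h ▸ hmπ)))
    · have hin : nB * m ∈ Φ.H₀ := by
        refine Φ.mem_H₀_of_monBy_one setupD4_faithful (mul_mem (Φ.nO_mem_M₀ oB) hm) ?_
        have := hmB.mul hmπ
        rwa [h, hB2] at this
      have := mul_mem (inv_mem hnB) (Subgroup.mem_sup_left (Φ.H₀_le_LB hf h2 hin) : _ ∈ Φ.PB)
      rwa [inv_mul_cancel_left] at this
  have first : π ∈ [pA, pB * pA, pA * pB, pB * pA * pB] →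
      NF (nA * nB * nA) (v * m * w) ∨ NF (Φ.φ2 (wMat K)) (v * m * w) := by
    intro h
    obtain ⟨k, hk, l, hl, u, hu, e⟩ := hrep nA (Φ.nO_mem_M₀ oA) pA hmA h
    have hu' : u ∈ Φ.B1 := Subgroup.mem_sup_left (Φ.UB_le_U1 hu)
    rcases Φ.LB_cases_B1 hf h2 hl with hlB | hlA
    · obtain ⟨k', hk', e'⟩ := Φ.inBB_a hf h2 (g := k * (v * m * w) * k⁻¹)
        (by rw [e, mul_assoc]; exact (InBB.self (Φ := Φ) nA).rmul (mul_mem hlB hu'))
      exact Or.inr (htrans _ _ k hk (htrans _ _ k' hk' (hbb _ _ e')))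
    · obtain ⟨k', hk', e'⟩ := Φ.inBB_ab hf h2 (g := k * (v * m * w) * k⁻¹)
        (by rw [e]; exact ((hlA.nO_mul oA (Φ.nO_mem_M₀ oB) hmB reduceB_D4.2.2.2.2.2).rmul hu'))
      exact Or.inl (htrans _ _ k hk (htrans _ _ k' hk' (hbb _ _ e')))
  have middle : π ∈ [pA * pB * pA, pB * (pA * pB * pA), pA * pB * pA * pB,
      pB * (pA * pB * pA) * pB] → NF (nA * nB * nA) (v * m * w) := fun h =>
    hrep _ hABA _ ((hmA.mul hmB).mul hmA) h
  have big : π ∈ [pA * pB * pA * pB * pA, pB * (pA * pB * pA * pB * pA),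
      pA * pB * pA * pB * pA * pB, pB * (pA * pB * pA * pB * pA) * pB] →
      NF (Φ.φ2 (wMat K)) (v * m * w) := fun h => by
    refine hrep _ ?_ _ ?_ h
    · rw [φ2_apply, φA_wMat]
      exact mul_mem (mul_mem (mul_mem (Φ.nO_mem_M₀ oA) (Φ.nO_mem_M₀ oB)) (Φ.nO_mem_M₀ oA))
        (inv_mem (mul_mem (Φ.nO_mem_M₀ oA) (Φ.nO_mem_M₀ oB)))
    · have hh := ((hmA.mul hmB).mul hmA).mul (hmA.mul hmB).inv
      rw [φ2_apply, φA_wMat]
      rw [mul_inv_rev (setupD4.wR oA) (setupD4.wR oB), inv_eq_of_mul_eq_one_right hA2,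
        inv_eq_of_mul_eq_one_right hB2, ← mul_assoc] at hh
      exact hh
  simp only [wList, List.mem_cons, List.not_mem_nil, or_false] at hπ
  rcases hπ with h | h | h | h | h | h | h | h | h | h | h | h
  · exact absurd (Or.inl h) small
  · exact first (by simp [h])
  · exact absurd (Or.inr h) small
  · exact first (by simp [h])
  · exact first (by simp [h])
  · exact Or.inl (middle (by simp [h]))
  · exact first (by simp [h])
  · exact Or.inl (middle (by simp [h]))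
  · exact Or.inl (middle (by simp [h, mul_assoc]))
  · exact Or.inr (big (by simp [h]))
  · exact Or.inl (middle (by simp [h, mul_assoc]))
  · exact Or.inr (big (by simp [h]))

end FieldTwist

end CfsgLib.GraphTwist
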